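import Groth.Agent.H4DR.Dualizing.Gorenstein

/-!
# The Gorenstein locus is open in the presence of a dualizing complex
-/

set_option autoImplicit false
set_option linter.style.haveILetI false
set_option linter.unusedVariables false

universe u

open CategoryTheory CategoryTheory.Limits TensorProduct
open Groth.Agent.H4DR.FlatBC (FD hBC)

attribute [local instance] HasDerivedCategory.standard

namespace Groth.Agent.H4DR.Dualizing

variable {A : Type u} [CommRing A]

/-- A module locally free of rank one at `p` is so nearby. -/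
theorem exists_open_equiv [IsNoetherianRing A] (H : Type u) [AddCommGroup H] [Module A H] [Module.Finite A H]
    (p : PrimeSpectrum A) (e : Loc p ⊗[A] H ≃ₗ[Loc p] Loc p) :
    ∃ U : Set (PrimeSpectrum A), IsOpen U ∧ p ∈ U ∧ ∀ q ∈ U, Nonempty (Loc q ⊗[A] H ≃ₗ[Loc q] Loc q) := by
  haveI : ∀ q : PrimeSpectrum A, Module.Flat A (Loc q) := fun q => IsLocalization.flat _ q.asIdeal.primeCompl
  haveI : IsLocalizedModule p.asIdeal.primeCompl (TensorProduct.mk A (Loc p) H 1) :=
    (isLocalizedModule_iff_isBaseChange p.asIdeal.primeCompl (Loc p) _).2 (TensorProduct.isBaseChange A H (Loc p))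
  obtain ⟨⟨x, s⟩, hs⟩ := IsLocalizedModule.surj p.asIdeal.primeCompl (TensorProduct.mk A (Loc p) H 1) (e.symm 1)
  obtain ⟨u, hu⟩ := IsLocalization.map_units (Loc p) s
  let φ : A →ₗ[A] H := LinearMap.toSpanSingleton A H x
  haveI : IsNoetherian A H := isNoetherian_of_isNoetherianRing_of_finite A H
  refine ⟨(Module.support A (LinearMap.ker φ))ᶜ ∩ (Module.support A (H ⧸ LinearMap.range φ))ᶜ,
    Module.isClosed_support.isOpen_compl.inter Module.isClosed_support.isOpen_compl, ?_, fun q hq => ?_⟩
  · have hb : Function.Bijective (φ.lTensor (Loc p)) := by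
      have h1 : (φ.lTensor (Loc p) : Loc p ⊗[A] A → _) =
          (fun b : Loc p => e.symm ((u : Loc p) * b)) ∘ AlgebraTensorModule.rid A (Loc p) (Loc p) := funext fun t => by
        induction t using TensorProduct.induction_on with
        | zero => simp
        | add y z hy hz =>
          simp only [Function.comp_apply, map_add, mul_add] at hy hz ⊢
          rw [hy, hz]
        | tmul b a =>
          simp only [Function.comp_apply, LinearMap.lTensor_tmul, AlgebraTensorModule.rid_tmul, φ,
            LinearMap.toSpanSingleton_apply]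
          have hs' : (s : A) • e.symm 1 = (1 : Loc p) ⊗ₜ[A] x := hs
          rw [show (u : Loc p) * a • b = (a • b) • (algebraMap A (Loc p) s • (1 : Loc p)) by
            rw [hu, smul_eq_mul, smul_eq_mul, mul_one, mul_comm], map_smul, map_smul, algebraMap_smul, hs',
            TensorProduct.smul_tmul', smul_eq_mul, mul_one, TensorProduct.smul_tmul]
      rw [h1]
      exact (e.symm.bijective.comp (Units.mulLeft_bijective u)).comp
        (AlgebraTensorModule.rid A (Loc p) (Loc p)).bijective
    refine ⟨fun h => not_subsingleton_iff_nontrivial.2 ((mem_support_iff_nontrivial p _).1 h)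
      (subsingleton_of_forall_eq 0 fun t => ?_), fun h => not_subsingleton_iff_nontrivial.2
        ((mem_support_iff_nontrivial p _).1 h) (subsingleton_of_forall_eq 0 fun t => ?_)⟩
    · refine Module.Flat.lTensor_preserves_injective_linearMap (M := Loc p) (LinearMap.ker φ).subtype
        Subtype.val_injective (hb.1 ?_)
      rw [map_zero, map_zero, ← LinearMap.comp_apply, ← LinearMap.lTensor_comp,
        show φ ∘ₗ (LinearMap.ker φ).subtype = 0 from LinearMap.ext fun y => y.2]
      simp
    · obtain ⟨y, rfl⟩ := LinearMap.lTensor_surjective (Loc p) (Submodule.mkQ_surjective (LinearMap.range φ)) t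
      obtain ⟨z, rfl⟩ := hb.2 y
      rw [← LinearMap.comp_apply, ← LinearMap.lTensor_comp, show (LinearMap.range φ).mkQ ∘ₗ φ = 0 from
        LinearMap.ext fun y => (Submodule.Quotient.mk_eq_zero _).2 ⟨y, rfl⟩]
      simp
  · haveI : Subsingleton (Loc q ⊗[A] LinearMap.ker φ) :=
      not_nontrivial_iff_subsingleton.1 fun h => hq.1 ((mem_support_iff_nontrivial q _).2 h)
    haveI : Subsingleton (Loc q ⊗[A] (H ⧸ LinearMap.range φ)) :=
      not_nontrivial_iff_subsingleton.1 fun h => hq.2 ((mem_support_iff_nontrivial q _).2 h)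
    let g : Loc q ⊗[A] A →ₗ[Loc q] Loc q ⊗[A] H := AlgebraTensorModule.lTensor (Loc q) (Loc q) φ
    have hg : Function.Bijective g := by
      refine ⟨?_, ?_⟩
      · refine (injective_iff_map_eq_zero _).2 fun t ht => ?_
        obtain ⟨y, rfl⟩ := (Module.Flat.lTensor_exact (Loc q) (LinearMap.exact_subtype_ker_map φ) t).1 ht
        rw [Subsingleton.elim y 0, map_zero]
      · intro t
        obtain ⟨y, hy⟩ := (Module.Flat.lTensor_exact (Loc q) (LinearMap.exact_map_mkQ_range φ) t).1
          (Subsingleton.elim _ _)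
        exact ⟨y, hy⟩
    exact ⟨(LinearEquiv.ofBijective g hg).symm.trans (AlgebraTensorModule.rid A (Loc q) (Loc q))⟩

variable [IsNoetherianRing A] {ω : Dual.D A} (hω : Dual.IsDualizing A ω)
include hω

theorem isOpen_gorenstein_locus : IsOpen {p : PrimeSpectrum A | LocCoh.IsGorensteinLocalRing (Loc p)} := by
  classical
  haveI : ∀ q : PrimeSpectrum A, Module.Flat A (Loc q) := fun q => IsLocalization.flat _ q.asIdeal.primeCompl
  haveI : ∀ q : PrimeSpectrum A, IsNoetherianRing (Loc q) := fun q =>
    IsLocalization.isNoetherianRing q.asIdeal.primeCompl (Loc q) ‹_›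
  have hcl : ∀ j, IsClosed (Module.support A (Dual.HD A ω j)) := fun j =>
    haveI := hω.finite_cohomology j
    Module.isClosed_support
  have hmem : ∀ (q : PrimeSpectrum A) (j : ℤ),
      q ∉ Module.support A (Dual.HD A ω j) ↔ Subsingleton (Dual.HD (Loc q) (loc ω q) j) := fun q j => by
    rw [mem_support_iff_nontrivial, ← (hBC (Loc q) j ω).toEquiv.nontrivial_congr, not_nontrivial_iff_subsingleton]
  obtain ⟨a, b, hab⟩ := exists_bounds hω
  refine isOpen_iff_forall_mem_open.2 fun p hp => ?_
  obtain ⟨n, hn, ⟨e⟩⟩ := (gorenstein_iff (isDualizing_loc hω p)).1 hp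
  haveI := hω.finite_cohomology n
  obtain ⟨U, hU, hpU, hUe⟩ := exists_open_equiv (Dual.HD A ω n) p ((hBC (Loc p) n ω).symm.trans e)
  refine ⟨(⋃ j ∈ (Finset.Icc a b).erase n, Module.support A (Dual.HD A ω j))ᶜ ∩ U, ?_,
    IsOpen.inter ((Finset.finite_toSet _).isClosed_biUnion fun j _ => hcl j).isOpen_compl hU, ?_, hpU⟩
  · rintro q ⟨hq1, hq2⟩
    obtain ⟨e'⟩ := hUe q hq2
    refine (gorenstein_iff (isDualizing_loc hω q)).2 ⟨n, fun j hj => (hmem q j).1 fun hjs => ?_,
      ⟨(hBC (Loc q) n ω).trans e'⟩⟩
    by_cases hr : j ∈ Finset.Icc a b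
    · exact hq1 (Set.mem_iUnion₂.2 ⟨j, Finset.mem_erase.2 ⟨hj, hr⟩, hjs⟩)
    · haveI := hab j (by rw [Finset.mem_Icc] at hr; omega)
      exact Set.notMem_empty _ ((Module.support_eq_empty_iff (R := A)).2 ‹_› ▸ hjs)
  · intro hmem'
    obtain ⟨j, hj, hpj⟩ := Set.mem_iUnion₂.1 hmem'
    exact (hmem p j).2 (hn j (Finset.mem_erase.1 hj).1) hpj

end Groth.Agent.H4DR.Dualizing
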