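import Groth.Agent.H4DR.Dualizing.Local
import Groth.Agent.H05EGA4.CodepthOpen
import Groth.Prelude.Def_EGA4b

/-!
# Cohen–Macaulay and `(S_k)` loci with a dualizing complex
-/

set_option autoImplicit false
set_option linter.style.haveILetI false
set_option linter.unusedVariables false

universe u

open CategoryTheory CategoryTheory.Limits
open Groth.Agent.H4DR.Ext (Ex)

attribute [local instance] HasDerivedCategory.standard

namespace Groth.Agent.H4DR.Dualizing

variable {A : Type u} [CommRing A] [IsNoetherianRing A] {ω : Dual.D A}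

/-- `Supp Ext^i(M, ω)`. -/
abbrev supEx (ω : Dual.D A) (M : Type u) [AddCommGroup M] [Module A M] (i : ℤ) : Set (PrimeSpectrum A) :=
  Module.support A (Ex (Dual.inD A M) ω i)

variable (hω : Dual.IsDualizing A ω) (M : Type u) [AddCommGroup M] [Module A M] [Module.Finite A M]
include hω

omit [IsNoetherianRing A] [Module.Finite A M] in
theorem exists_supEx_bounds : ∃ a b : ℤ, ∀ i : ℤ, (supEx ω M i).Nonempty → a ≤ i ∧ i ≤ b := by
  obtain ⟨a, b, hab⟩ := hω.finite_injective_dimension
  refine ⟨a, b, fun i hne => ?_⟩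
  by_contra hc
  exact not_subsingleton_iff_nontrivial.2 ((Module.nonempty_support_iff (R := A)).1 hne) (hab M i (by omega))

theorem isClosed_supEx (i : ℤ) : IsClosed (supEx ω M i) :=
  haveI := finite_ex_dualizing hω M i
  Module.isClosed_support

omit [IsNoetherianRing A] hω [Module.Finite A M] in
lemma subsingleton_localized_iff (q : PrimeSpectrum A) :
    Subsingleton (LocalizedModule q.asIdeal.primeCompl M) ↔ q ∉ Module.support A M :=
  Module.notMem_support_iff.symm

/-- Zero or Cohen–Macaulay iff one degree at most. -/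
theorem cm_or_zero_iff (q : PrimeSpectrum A) :
    (Subsingleton (LocalizedModule q.asIdeal.primeCompl M) ∨
      LocCoh.IsCohenMacaulayModule (Loc q) (LocalizedModule q.asIdeal.primeCompl M)) ↔
    ∀ i j : ℤ, q ∈ supEx ω M i → q ∈ supEx ω M j → i = j := by
  by_cases hq : q ∈ Module.support A M
  · obtain ⟨δ, D, hδ, hD, hle, h1, h2, hi⟩ := exists_interval hω M q hq
    rw [or_iff_right fun h => (subsingleton_localized_iff M q).1 h hq, LocCoh.IsCohenMacaulayModule, hD, hδ]
    refine ⟨fun he i j h h' => ?_, fun h => ?_⟩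
    · have : D = δ := by exact_mod_cast he
      have := hi i h
      have := hi j h'
      omega
    · have := h _ _ h1 h2
      exact_mod_cast (by omega : D = δ)
  · exact iff_of_true (Or.inl ((subsingleton_localized_iff M q).2 hq))
      fun i j h => absurd (support_ex_subset hω M i h) hq

theorem isOpen_cm_or_zero : IsOpen {q : PrimeSpectrum A | Subsingleton (LocalizedModule q.asIdeal.primeCompl M) ∨
      LocCoh.IsCohenMacaulayModule (Loc q) (LocalizedModule q.asIdeal.primeCompl M)} := by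
  obtain ⟨a, b, hab⟩ := exists_supEx_bounds hω M
  have h : {q : PrimeSpectrum A | Subsingleton (LocalizedModule q.asIdeal.primeCompl M) ∨
      LocCoh.IsCohenMacaulayModule (Loc q) (LocalizedModule q.asIdeal.primeCompl M)} =
      (⋃ c ∈ ((Finset.Icc a b ×ˢ Finset.Icc a b).filter fun c => c.1 ≠ c.2 : Finset (ℤ × ℤ)),
        supEx ω M c.1 ∩ supEx ω M c.2)ᶜ := by
    ext q
    rw [Set.mem_ofPred_eq, cm_or_zero_iff hω M]
    simp only [Set.mem_compl_iff, Set.mem_iUnion, Set.mem_inter_iff, Finset.mem_filter, Finset.mem_product,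
      Finset.mem_Icc, exists_prop, not_exists, not_and, Prod.forall]
    refine ⟨fun h i j hij hi hj => hij.2 (h i j hi hj), fun h i j hi hj => ?_⟩
    by_contra hne
    exact h i j ⟨⟨hab i ⟨q, hi⟩, hab j ⟨q, hj⟩⟩, hne⟩ hi hj
  rw [h, isOpen_compl_iff]
  exact (Finset.finite_toSet _).isClosed_biUnion fun c _ => (isClosed_supEx hω M c.1).inter (isClosed_supEx hω M c.2)

theorem isCM_of_minimal {q : PrimeSpectrum A} (hq : q ∈ Module.support A M)
    (hmin : ∀ r ∈ Module.support A M, r ≤ q → r = q) :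
    LocCoh.IsCohenMacaulayModule (Loc q) (LocalizedModule q.asIdeal.primeCompl M) := by
  obtain ⟨δ, D, hδ, hD, hle, -, -, -⟩ := exists_interval hω M q hq
  obtain ⟨r, hr, hrq, he⟩ := (dim_localized_spec hω M q hD).2
  rw [hmin r hr hrq, sub_self] at he
  rw [LocCoh.IsCohenMacaulayModule, hD, hδ]
  exact_mod_cast (by omega : D = δ)

theorem support_subset_closure_cm : Module.support A M ⊆ closure ({p : PrimeSpectrum A |
    LocCoh.IsCohenMacaulayModule (Loc p) (LocalizedModule p.asIdeal.primeCompl M)} ∩ Module.support A M) := by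
  intro p hp
  obtain ⟨r, hr, hrp⟩ := Ideal.exists_minimalPrimes_le (Module.mem_support_iff_of_finite.1 hp)
  have hrs : (⟨r, hr.1.1⟩ : PrimeSpectrum A) ∈ Module.support A M := Module.mem_support_iff_of_finite.2 hr.1.2
  have hcm := isCM_of_minimal hω M hrs fun s hs hsr =>
    le_antisymm hsr (hr.2 ⟨s.2, Module.mem_support_iff_of_finite.1 hs⟩ hsr)
  have hmem : (⟨r, hr.1.1⟩ : PrimeSpectrum A) ∈ ({p : PrimeSpectrum A |
      LocCoh.IsCohenMacaulayModule (Loc p) (LocalizedModule p.asIdeal.primeCompl M)} ∩ Module.support A M) := ⟨hcm, hrs⟩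
  exact closure_mono (Set.singleton_subset_iff.2 hmem) ((PrimeSpectrum.le_iff_mem_closure ⟨r, hr.1.1⟩ p).1 hrp)

/-- The points where `(S_k)` fails. -/
theorem not_sk_iff (k : ℕ) (q : PrimeSpectrum A) :
    ¬ (min (k : WithBot ℕ∞) (Module.supportDim (Loc q) (LocalizedModule q.asIdeal.primeCompl M)) ≤
      ((LocCoh.depth (Loc q) (LocalizedModule q.asIdeal.primeCompl M) : ℕ∞) : WithBot ℕ∞)) ↔
    ∃ i j : ℤ, j < i ∧ q ∈ supEx ω M i ∧ q ∈ supEx ω M j ∧
      ¬ (((k : ℤ) + i - j).toNat : WithBot ℕ∞) ≤ Module.supportDim (Loc q) (LocalizedModule q.asIdeal.primeCompl M) := by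
  by_cases hq : q ∈ Module.support A M
  · obtain ⟨δ, D, hδ, hD, hle, h1, h2, hi⟩ := exists_interval hω M q hq
    rw [hD, hδ]
    constructor
    · intro h
      have h' : δ < k ∧ δ < D := by
        by_contra hc
        refine h ?_
        rcases Nat.lt_or_ge δ k with hk | hk
        · exact (min_le_right _ _).trans (show (D : WithBot ℕ∞) ≤ _ by exact_mod_cast (by omega : D ≤ δ))
        · exact (min_le_left _ _).trans (show (k : WithBot ℕ∞) ≤ _ by exact_mod_cast hk)
      refine ⟨_, _, by omega, h1, h2, ?_⟩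
      rw [Nat.cast_le]
      omega
    · rintro ⟨i, j, hji, hi', hj', hlt⟩
      have := hi i hi'
      have := hi j hj'
      rw [Nat.cast_le] at hlt
      rw [min_le_iff, not_or]
      refine ⟨?_, ?_⟩
      · show ¬ (k : WithBot ℕ∞) ≤ _
        intro h
        have : k ≤ δ := by exact_mod_cast h
        omega
      · show ¬ (D : WithBot ℕ∞) ≤ _
        intro h
        have : D ≤ δ := by exact_mod_cast h
        omega
  · refine iff_of_false (not_not_intro ?_) ?_
    · haveI := (subsingleton_localized_iff M q).2 hq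
      rw [Module.supportDim_eq_bot_of_subsingleton]
      exact (min_le_right _ _).trans bot_le
    · rintro ⟨i, j, -, hi, -⟩
      exact hq (support_ex_subset hω M i hi)

theorem hasSk_iff (k : ℕ) : LocCoh.HasSk k A M ↔
    ∀ (i j : ℤ), j < i → ∀ p : PrimeSpectrum A, p ∈ supEx ω M i → p ∈ supEx ω M j →
      (((k : ℤ) + i - j).toNat : WithBot ℕ∞) ≤
        Module.supportDim (Loc p) (LocalizedModule p.asIdeal.primeCompl M) := by
  refine ⟨fun h i j hji p hi hj => ?_, fun h p _ => ?_⟩
  · by_contra hc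
    exact (not_sk_iff hω M k p).2 ⟨i, j, hji, hi, hj, hc⟩ (h p.asIdeal)
  · by_contra hc
    obtain ⟨i, j, hji, hi, hj, hlt⟩ := (not_sk_iff hω M k ⟨p, ‹_›⟩).1 hc
    exact hlt (h i j hji _ hi hj)

theorem isOpen_hasSkAt (k : ℕ) : IsOpen {p : PrimeSpectrum A | EGA4.HasSkAt k A M p.asIdeal} := by
  classical
  obtain ⟨a, b, hab⟩ := exists_supEx_bounds hω M
  let bad : Set (PrimeSpectrum A) := {q | ¬ (min (k : WithBot ℕ∞)
    (Module.supportDim (Loc q) (LocalizedModule q.asIdeal.primeCompl M)) ≤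
      ((LocCoh.depth (Loc q) (LocalizedModule q.asIdeal.primeCompl M) : ℕ∞) : WithBot ℕ∞))}
  let I : ℤ → ℤ → Ideal A := fun i j =>
    Module.annihilator A (Ex (Dual.inD A M) ω i) ⊔ Module.annihilator A (Ex (Dual.inD A M) ω j)
  have hI : ∀ i j (q : PrimeSpectrum A), I i j ≤ q.asIdeal ↔ q ∈ supEx ω M i ∧ q ∈ supEx ω M j := fun i j q => by
    haveI := finite_ex_dualizing hω M i
    haveI := finite_ex_dualizing hω M j
    rw [sup_le_iff, ← Module.mem_support_iff_of_finite, ← Module.mem_support_iff_of_finite]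
  let G : Set (PrimeSpectrum A) :=
    {r | r ∈ bad ∧ ∃ i ∈ Finset.Icc a b, ∃ j ∈ Finset.Icc a b, r.asIdeal ∈ (I i j).minimalPrimes}
  have hG : G.Finite := by
    have : ((⋃ c ∈ (Finset.Icc a b ×ˢ Finset.Icc a b : Finset (ℤ × ℤ)), (I c.1 c.2).minimalPrimes) : Set (Ideal A)).Finite :=
      (Finset.finite_toSet _).biUnion fun c _ => (I c.1 c.2).finite_minimalPrimes_of_isNoetherianRing A
    refine Set.Finite.subset (this.preimage fun x _ y _ h => PrimeSpectrum.ext h) ?_
    rintro r ⟨-, i, hi, j, hj, hr⟩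
    exact Set.mem_iUnion₂.2 ⟨(i, j), Finset.mem_product.2 ⟨hi, hj⟩, hr⟩
  have hmin : ∀ q ∈ bad, ∃ r ∈ G, r ≤ q := fun q hq => by
    obtain ⟨i, j, hji, hi, hj, hlt⟩ := (not_sk_iff hω M k q).1 hq
    obtain ⟨r, hr, hrq⟩ := Ideal.exists_minimalPrimes_le ((hI i j q).2 ⟨hi, hj⟩)
    haveI := hr.1.1
    obtain ⟨hri, hrj⟩ := (hI i j ⟨r, hr.1.1⟩).1 hr.1.2
    refine ⟨⟨r, hr.1.1⟩, ⟨(not_sk_iff hω M k _).2 ⟨i, j, hji, hri, hrj, fun hle => hlt (hle.trans ?_)⟩,
      i, Finset.mem_Icc.2 (hab i ⟨q, hi⟩), j, Finset.mem_Icc.2 (hab j ⟨q, hj⟩), hr⟩, hrq⟩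
    exact H05EGA4.sdAt_mono M hrq
  have h : {p : PrimeSpectrum A | EGA4.HasSkAt k A M p.asIdeal} =
      (⋃ r ∈ G, PrimeSpectrum.zeroLocus (r.asIdeal : Set A))ᶜ := by
    ext p
    rw [Set.mem_ofPred_eq, H05EGA4.hasSkAt_iff_forall_le M k]
    simp only [Set.mem_compl_iff, Set.mem_iUnion, exists_prop, not_exists, not_and]
    refine ⟨fun h r hr hrp => hr.1 (h r hrp), fun h q hqp => ?_⟩
    by_contra hc
    obtain ⟨r, hr, hrq⟩ := hmin q hc
    exact h r hr ((show r.asIdeal ≤ p.asIdeal from le_trans hrq hqp))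
  rw [h, isOpen_compl_iff]
  exact hG.isClosed_biUnion fun r _ => PrimeSpectrum.isClosed_zeroLocus _

end Groth.Agent.H4DR.Dualizing

namespace Groth.Agent.H4DR.Dualizing

variable {A : Type u} [CommRing A]

/-- `A_p` as the localized module. -/
noncomputable def selfLocEquiv (p : PrimeSpectrum A) :
    LocalizedModule p.asIdeal.primeCompl A ≃ₗ[Loc p] Loc p :=
  LinearEquiv.extendScalarsOfIsLocalization p.asIdeal.primeCompl (Loc p)
    (IsLocalizedModule.iso p.asIdeal.primeCompl (Algebra.linearMap A (Loc p)))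

variable [IsNoetherianRing A]

theorem cmLocalRing_iff (p : PrimeSpectrum A) : LocCoh.IsCohenMacaulayLocalRing (Loc p) ↔
    (Subsingleton (LocalizedModule p.asIdeal.primeCompl A) ∨
      LocCoh.IsCohenMacaulayModule (Loc p) (LocalizedModule p.asIdeal.primeCompl A)) := by
  have hne : ¬ Subsingleton (LocalizedModule p.asIdeal.primeCompl A) := fun h =>
    not_subsingleton (Loc p) ((selfLocEquiv p).symm.injective.subsingleton)
  rw [or_iff_right hne, LocCoh.IsCohenMacaulayModule, Module.supportDim_eq_of_equiv (selfLocEquiv p),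
    H4Depth.depth_congr (selfLocEquiv p)]
  haveI : IsNoetherianRing (Loc p) := IsLocalization.isNoetherianRing p.asIdeal.primeCompl (Loc p) ‹_›
  exact ⟨fun h => h.supportDim_eq_depth, fun h => { supportDim_eq_depth := h }⟩

end Groth.Agent.H4DR.Dualizing
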