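import Groth.Agent.H4DR.Dualizing.Pointwise
import Groth.Agent.H4DR.Dualizing.Loci
import Groth.Agent.H4Goren.Basic
import Mathlib.Algebra.Homology.DerivedCategory.Ext.Basic

/-!
# Gorenstein local rings and dualizing complexes
-/

set_option autoImplicit false
set_option linter.style.haveILetI false
set_option linter.unusedVariables false

universe u

open CategoryTheory CategoryTheory.Limits Pretriangulated TensorProduct
open Groth.Agent.H4DR.Ext (Ex postIso preIso evalEquiv shiftSrc)

attribute [local instance] HasDerivedCategory.standard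

namespace Groth.Agent.H4DR.Dualizing

variable {A : Type u} [CommRing A]

theorem subsingleton_ex_iff_ext (M N : Type u) [AddCommGroup M] [Module A M] [AddCommGroup N] [Module A N] (n : ℕ) :
    Subsingleton (Ex (Dual.inD A M) (Dual.inD A N) (n : ℤ)) ↔
      Subsingleton (Abelian.Ext (ModuleCat.of A M) (ModuleCat.of A N) n) :=
  (Abelian.Ext.homEquiv (X := ModuleCat.of A M) (Y := ModuleCat.of A N) (n := n)).subsingleton_congr.symm

theorem subsingleton_ex_neg (M N : Type u) [AddCommGroup M] [Module A M] [AddCommGroup N] [Module A N] {i : ℤ}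
    (hi : i < 0) : Subsingleton (Ex (Dual.inD A M) (Dual.inD A N) i) := subsingleton_of_forall_eq 0 fun f => by
  have hN : ∀ j : ℤ, j < 1 → Subsingleton (Dual.HD A ((Dual.inD A N)⟦i⟧) j) := fun j hj =>
    haveI := PCoh.subsingleton_HD_inD (ModuleCat.of A N) (i + j) (by omega)
    (PCoh.hShift (Dual.inD A N) i j (i + j) rfl).injective.subsingleton
  exact Hom.eq_zero_of_HD 0 (fun j hj => PCoh.subsingleton_HD_inD (ModuleCat.of A M) j hj.ne')
    (fun j hj => hN j (by omega)) f
    (ModuleCat.hom_ext (LinearMap.ext fun x => @Subsingleton.elim _ (hN 0 zero_lt_one) _ _))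

variable [IsNoetherianRing A]

theorem isDualizing_inD_self (n : ℕ) [HasInjectiveDimensionLT (ModuleCat.of A A) n] :
    Dual.IsDualizing A (Dual.inD A A) where
  isNoetherianRing := inferInstance
  finite_injective_dimension := ⟨0, n, fun M _ _ i hi => by
    rcases hi with hi | hi
    · exact subsingleton_ex_neg M A hi
    · lift i to ℕ using (by omega)
      exact (subsingleton_ex_iff_ext M A i).2 (subsingleton_of_forall_eq 0 fun x =>
        x.eq_zero_of_hasInjectiveDimensionLT n (by omega))⟩
  finite_cohomology i := by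
    rcases eq_or_ne i 0 with rfl | hi
    · exact Module.Finite.equiv (DComplete.e0 (ModuleCat.of A A)).symm
    · haveI := PCoh.subsingleton_HD_inD (ModuleCat.of A A) i hi
      infer_instance
  toEnd_bijective := by
    let e : (Dual.inD A A ⟶ Dual.inD A A) ≃ₗ[A] A :=
      (LinearEquiv.ofBijective (Ext.evalOne (Dual.inD A A)) (Ext.bijective_evalOne _)).trans
        (DComplete.e0 (ModuleCat.of A A))
    have he : e ∘ (fun a : A => a • 𝟙 (Dual.inD A A)) = id := funext fun a => by
      simp only [Function.comp_apply, map_smul, id_eq]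
      refine (congrArg (a • ·) (?_ : e (𝟙 (Dual.inD A A)) = (1 : A))).trans (mul_one a)
      show DComplete.e0 (ModuleCat.of A A) (PCoh.hm 0 (𝟙 (Dual.inD A A)) ((DComplete.e0 (ModuleCat.of A A)).symm (1 : A))) = 1
      rw [PCoh.hm_id]
      exact LinearEquiv.apply_symm_apply _ _
    exact (Function.Bijective.of_comp_iff' e.bijective _).1 (he ▸ Function.bijective_id)
  ext_self_subsingleton i hi := by
    haveI := PCoh.subsingleton_HD_inD (ModuleCat.of A A) i hi
    exact (evalEquiv (Dual.inD A A) i).injective.subsingleton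

theorem isGorenstein_of_isDualizing_inD [IsLocalRing A] (h : Dual.IsDualizing A (Dual.inD A A)) :
    LocCoh.IsGorensteinLocalRing A := by
  obtain ⟨a, b, hab⟩ := h.finite_injective_dimension
  refine (H4Goren.isGorensteinLocalRing_iff_ext A).2 ⟨(b + 1).toNat, fun i hi => ?_⟩
  exact (subsingleton_ex_iff_ext (IsLocalRing.ResidueField A) A i).1 (hab _ i (Or.inr (by omega)))

/-- A local ring is Gorenstein iff a dualizing complex has free cohomology in a single degree. -/
theorem gorenstein_iff [IsLocalRing A] {K : Dual.D A} (hK : Dual.IsDualizing A K) :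
    LocCoh.IsGorensteinLocalRing A ↔
      ∃ n : ℤ, (∀ j, j ≠ n → Subsingleton (Dual.HD A K j)) ∧ Nonempty (Dual.HD A K n ≃ₗ[A] A) := by
  constructor
  · intro hG
    obtain ⟨N, hN⟩ := hG.exists_hasInjectiveDimensionLT
    obtain ⟨m, ⟨e⟩⟩ := unique_up_to_shift (Dual.inD A A) K (isDualizing_inD_self N) hK
    refine ⟨-m, fun j hj => ?_, ⟨?_⟩⟩
    · haveI := PCoh.subsingleton_HD_inD (ModuleCat.of A A) (m + j) (by omega)
      exact ((PCoh.hEquiv j e).trans (PCoh.hShift (Dual.inD A A) m j (m + j) rfl)).injective.subsingleton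
    · exact ((PCoh.hEquiv (-m) e).trans (PCoh.hShift (Dual.inD A A) m (-m) 0 (add_neg_cancel m))).trans
        (DComplete.e0 (ModuleCat.of A A))
  · rintro ⟨n, hn, ⟨eY⟩⟩
    obtain ⟨e⟩ := nonempty_iso_single n hn eY
    exact isGorenstein_of_isDualizing_inD (isDualizing_of_iso
      ((shiftFunctor (Dual.D A) n).mapIso e ≪≫ (shiftFunctorCompIsoId (Dual.D A) (-n) n (neg_add_cancel n)).app _)
      (isDualizing_shift hK n))

/-- A Noetherian ring of finite dimension with regular local rings is its own dualizing complex. -/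
theorem isDualizing_self_of_regular (hdim : ringKrullDim A < ⊤)
    (hreg : ∀ p : PrimeSpectrum A, IsRegularLocalRing (Loc p)) : Dual.IsDualizing A (Dual.inD A A) := by
  refine isDualizing_of_pointwise hdim _ (fun i => ?_) ⟨0, fun i hi => ?_⟩ fun p => ?_
  · rcases eq_or_ne i 0 with rfl | hi
    · exact Module.Finite.equiv (DComplete.e0 (ModuleCat.of A A)).symm
    · haveI := PCoh.subsingleton_HD_inD (ModuleCat.of A A) i hi
      infer_instance
  · exact PCoh.subsingleton_HD_inD (ModuleCat.of A A) i hi.ne
  · haveI := hreg p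
    haveI := IsLocalization.flat (Loc p) p.asIdeal.primeCompl
    obtain ⟨N, hN⟩ := (H4Goren.isGorensteinLocalRing_of_isRegularLocalRing (Loc p)).exists_hasInjectiveDimensionLT
    exact isDualizing_of_iso
      (((DerivedCategory.singleFunctor (ModuleCat.{u} (Loc p)) 0).mapIso
        (((FlatBC.toFₗ (Loc p) (ModuleCat.of A A)).symm.trans (AlgebraTensorModule.rid A (Loc p) (Loc p))).toModuleIso).symm) ≪≫
        (((FlatBC.F A (Loc p)).mapDerivedCategorySingleFunctor 0).app (ModuleCat.of A A)).symm)
      (isDualizing_inD_self N)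

end Groth.Agent.H4DR.Dualizing
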