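import Groth.Agent.H4DR.Dualizing.Prime
import Mathlib.RingTheory.KrullDimension.LocalRing
import Groth.Prelude.Def_Found

/-!
# The dimension function of a dualizing complex; catenarity, finite dimension
-/

set_option autoImplicit false
set_option linter.style.haveILetI false
set_option linter.unusedVariables false

universe u

open CategoryTheory CategoryTheory.Limits Pretriangulated TensorProduct
open Groth.Agent.H4DR.Ext (Ex)
open Groth.Agent.H4DR.FlatBC (FD hBC)

attribute [local instance] HasDerivedCategory.standard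

namespace Groth.Agent.H4DR.Dualizing

variable {A : Type u} [CommRing A] [IsNoetherianRing A] {ω : Dual.D A} (hω : Dual.IsDualizing A ω)
include hω

theorem exists_dim {p q : PrimeSpectrum A} (hle : p ≤ q) :
    ∃ d : ℕ, ringKrullDim (Loc q ⧸ p.asIdeal.map (algebraMap A (Loc q))) = d ∧ deg hω p = deg hω q - d ∧
      (p < q → 1 ≤ d) := by
  haveI : IsNoetherianRing (Loc q) := IsLocalization.isNoetherianRing q.asIdeal.primeCompl (Loc q) ‹_›
  have hdisj : Disjoint (q.asIdeal.primeCompl : Set A) (p.asIdeal : Set A) :=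
    Set.disjoint_left.2 fun a ha hap => ha (hle hap)
  haveI := IsLocalization.isPrime_of_isPrime_disjoint q.asIdeal.primeCompl (Loc q) p.asIdeal p.2 hdisj
  haveI : Nontrivial (Loc q ⧸ p.asIdeal.map (algebraMap A (Loc q))) := Ideal.Quotient.nontrivial_iff.2 this.ne_top
  obtain ⟨d, hd⟩ := H4Depth.exists_nat_supportDim_eq (R := Loc q) (M := Loc q ⧸ p.asIdeal.map (algebraMap A (Loc q)))
  rw [Module.supportDim_quotient_eq_ringKrullDim] at hd
  refine ⟨d, hd, deg_eq_sub hω hle hd, fun hlt => ?_⟩
  have hne : (⟨p.asIdeal.map (algebraMap A (Loc q)), ‹_›⟩ : PrimeSpectrum (Loc q)) <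
      ⟨IsLocalRing.maximalIdeal (Loc q), inferInstance⟩ := by
    refine lt_of_le_of_ne (IsLocalRing.le_maximalIdeal (Ideal.IsPrime.ne_top ‹_›)) fun he => hlt.ne ?_
    refine PrimeSpectrum.ext ?_
    rw [← IsLocalization.under_map_of_isPrime_disjoint q.asIdeal.primeCompl (Loc q) p.2 hdisj,
      show p.asIdeal.map (algebraMap A (Loc q)) = IsLocalRing.maximalIdeal (Loc q) from congrArg PrimeSpectrum.asIdeal he]
    exact Localization.AtPrime.under_maximalIdeal
  have h0 : ((0 : ℕ) : WithBot ℕ∞) ≤ ringKrullDim (Loc q ⧸ (IsLocalRing.maximalIdeal (Loc q))) := by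
    haveI := Ideal.Quotient.nontrivial_iff.2 (IsLocalRing.maximalIdeal.isMaximal (Loc q)).ne_top
    exact ringKrullDim_nonneg_of_nontrivial
  have h1 := succ_le_ringKrullDim_quotient hne h0
  rw [hd] at h1
  exact Nat.cast_le.1 h1

theorem deg_lt {p q : PrimeSpectrum A} (h : p < q) : deg hω p < deg hω q := by
  obtain ⟨d, -, h1, h2⟩ := exists_dim hω h.le
  have := h2 h
  omega

theorem deg_covBy {p q : PrimeSpectrum A} (h : p ⋖ q) : deg hω p = deg hω q - 1 := by
  obtain ⟨d, hd, h1, h2⟩ := exists_dim hω h.le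
  have h3 := h2 h.lt
  suffices d ≤ 1 by omega
  by_contra hd2
  rw [ringKrullDim_quotient] at hd
  obtain ⟨l, hl⟩ := Order.le_krullDim_iff.1 (show ((2 : ℕ) : WithBot ℕ∞) ≤ _ from
    (Nat.cast_le.2 (by omega : 2 ≤ d)).trans hd.ge)
  let c : PrimeSpectrum (Loc q) → PrimeSpectrum A := fun P => PrimeSpectrum.comap (algebraMap A (Loc q)) P
  have hc : ∀ P : PrimeSpectrum.zeroLocus ((p.asIdeal.map (algebraMap A (Loc q)) : Ideal (Loc q)) : Set (Loc q)),
      p ≤ c P.1 ∧ c P.1 ≤ q := fun P => ⟨fun a ha => P.2 (Ideal.mem_map_of_mem _ ha), fun a ha => by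
        have h' : algebraMap A (Loc q) a ∈ IsLocalRing.maximalIdeal (Loc q) := IsLocalRing.le_maximalIdeal P.1.2.ne_top ha
        exact (IsLocalization.AtPrime.to_map_mem_maximal_iff (Loc q) q.asIdeal a).1 h'⟩
  have hmono : StrictMono fun P : PrimeSpectrum (Loc q) => c P := fun P Q hPQ =>
    (IsLocalization.AtPrime.primeSpectrumOrderIso (Loc q) q.asIdeal).strictMono hPQ
  let i0 : Fin (l.length + 1) := ⟨0, by omega⟩
  let i1 : Fin (l.length + 1) := ⟨1, by omega⟩
  let i2 : Fin (l.length + 1) := ⟨2, by omega⟩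
  have h01 : c (l i0).1 < c (l i1).1 := hmono (l.strictMono (show i0 < i1 from Nat.zero_lt_one))
  have h12 : c (l i1).1 < c (l i2).1 := hmono (l.strictMono (show i1 < i2 from Nat.one_lt_two))
  exact h.2 ((hc (l i0)).1.trans_lt h01) (h12.trans_le (hc (l i2)).2)

theorem length_le (s : LTSeries (PrimeSpectrum A)) : (s.length : ℤ) ≤ deg hω s.last - deg hω s.head := by
  have h : ∀ i : Fin (s.length + 1), (i.val : ℤ) ≤ deg hω (s i) - deg hω s.head := fun i => by
    induction i using Fin.induction with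
    | zero => simp [RelSeries.head]
    | succ i ih =>
      have := deg_lt hω (s.step i)
      simp only [Fin.val_succ, Nat.cast_add, Nat.cast_one, Fin.val_castSucc] at ih ⊢
      omega
  exact h (Fin.last _)

theorem length_eq (s : LTSeries (PrimeSpectrum A)) (hs : ∀ i : Fin s.length, s (Fin.castSucc i) ⋖ s (Fin.succ i)) :
    (s.length : ℤ) = deg hω s.last - deg hω s.head := by
  have h : ∀ i : Fin (s.length + 1), (i.val : ℤ) = deg hω (s i) - deg hω s.head := fun i => by
    induction i using Fin.induction with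
    | zero => simp [RelSeries.head]
    | succ i ih =>
      have := deg_covBy hω (hs i)
      simp only [Fin.val_succ, Nat.cast_add, Nat.cast_one, Fin.val_castSucc] at ih ⊢
      omega
  exact h (Fin.last _)

theorem ringKrullDim_lt_top : ringKrullDim A < ⊤ := by
  obtain ⟨a, b, hab⟩ := hω.finite_injective_dimension
  have h : ringKrullDim A ≤ (((b - a).toNat : ℕ∞) : WithBot ℕ∞) := iSup_le fun s => by
    have h1 := length_le hω s
    have h2 := deg_mem_range hω s.head hab
    have h3 := deg_mem_range hω s.last hab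
    exact_mod_cast (by omega : s.length ≤ (b - a).toNat)
  exact h.trans_lt (WithBot.coe_lt_coe.2 (ENat.natCast_lt_top _))

theorem isCatenary : CAlg.IsCatenary A := by
  refine ⟨fun p q _ => ⟨(deg hω q - deg hω p).toNat, fun s hp hq => ?_⟩, fun s t hh hl hs ht => ?_⟩
  · have h := length_le hω s
    rw [hp, hq] at h
    omega
  · have h1 := length_eq hω s hs
    have h2 := length_eq hω t ht
    rw [hh, hl] at h1
    omega

/-- At a minimal prime only one cohomology module survives. -/
theorem mem_support_HD_iff {p : PrimeSpectrum A} (hp : p.asIdeal ∈ minimalPrimes A) (i : ℤ) :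
    p ∈ Module.support A (Dual.HD A ω i) ↔ i = deg hω p := by
  haveI := IsLocalization.flat (Loc p) p.asIdeal.primeCompl
  haveI : IsNoetherianRing (Loc p) := IsLocalization.isNoetherianRing p.asIdeal.primeCompl (Loc p) ‹_›
  have hm : IsLocalRing.maximalIdeal (Loc p) ∈ minimalPrimes (Loc p) := by
    refine ⟨⟨inferInstance, bot_le⟩, fun Q hQ _ => ?_⟩
    haveI := hQ.1
    have hle : Q.comap (algebraMap A (Loc p)) ≤ p.asIdeal := fun a ha =>
      (IsLocalization.AtPrime.to_map_mem_maximal_iff (Loc p) p.asIdeal a).1 (IsLocalRing.le_maximalIdeal hQ.1.ne_top ha)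
    have heq := le_antisymm hle (hp.2 ⟨Ideal.IsPrime.comap _, bot_le⟩ hle)
    rw [← IsLocalization.map_under p.asIdeal.primeCompl (Loc p) Q]
    show _ ≤ (Q.comap (algebraMap A (Loc p))).map (algebraMap A (Loc p))
    rw [heq, Localization.AtPrime.map_eq_maximalIdeal]
  have he : ringKrullDim (Loc p ⧸ IsLocalRing.maximalIdeal (Loc p)) = ((0 : ℕ) : WithBot ℕ∞) := by
    letI := Ideal.Quotient.field (IsLocalRing.maximalIdeal (Loc p))
    rw [ringKrullDim_eq_zero_of_field]; rfl
  have key := nontrivial_localized_HD_iff (isDualizing_shift (isDualizing_loc hω p) (deg hω p))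
    (isNormalized_deg hω p) hm he (i - deg hω p)
  rw [mem_support_iff_nontrivial, ← (hBC (Loc p) i ω).toEquiv.nontrivial_congr,
    ← (PCoh.hShift (loc ω p) (deg hω p) (i - deg hω p) i (by ring)).toEquiv.nontrivial_congr]
  refine Iff.trans ⟨fun hn => ?_, fun hm' => ?_⟩ (key.trans (by omega))
  · obtain ⟨P, hP⟩ := (Module.nonempty_support_iff (R := Loc p)).2 hn
    exact Module.mem_support_mono (p := P) (IsLocalRing.le_maximalIdeal P.2.ne_top) hP
  · exact Module.nonempty_support_iff.1 ⟨_, hm'⟩

end Groth.Agent.H4DR.Dualizing
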