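import Groth.Agent.H4DR.Dualizing.Prime
import Groth.Agent.H4DR.FlatBC.Descent
import Mathlib.RingTheory.KrullDimension.LocalRing

/-!
# Pointwise dualizing complexes on a finite dimensional Noetherian ring
-/

set_option autoImplicit false
set_option linter.style.haveILetI false
set_option linter.unusedVariables false

universe u

open CategoryTheory CategoryTheory.Limits Pretriangulated TensorProduct
open Groth.Agent.H4DR.Ext (Ex addLin exCongr)
open Groth.Agent.H4DR.FlatBC (F FD hBC)

attribute [local instance] HasDerivedCategory.standard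

namespace Groth.Agent.H4DR.Dualizing

section Local

variable {B : Type u} [CommRing B] [IsLocalRing B] [IsNoetherianRing B] {K : Dual.D B}

/-- Bounds for `Ext^i(M, K)` from the normalizing shift. -/
theorem ex_range (hK : Dual.IsDualizing B K) {n : ℤ} (hn : Dual.IsNormalized B (K⟦n⟧)) {D : ℕ}
    (hD : ringKrullDim B ≤ (D : WithBot ℕ∞)) (M : Type u) [AddCommGroup M] [Module B M] [Module.Finite B M]
    (i : ℤ) (hi : i < n - D ∨ n < i) : Subsingleton (Ex (Dual.inD B M) K i) := by
  refine not_nontrivial_iff_subsingleton.1 fun hne => ?_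
  haveI : Nontrivial (Ex (Dual.inD B M) (K⟦n⟧) (i - n)) :=
    (addLin (Dual.inD B M) K n (i - n) i (by ring)).symm.injective.nontrivial
  obtain ⟨h1, h2⟩ := (dimBound (isDualizing_shift hK n) hn M (i - n)).2 inferInstance
  have := Nat.cast_le.1 ((h1.trans (Module.supportDim_le_ringKrullDim B M)).trans hD)
  omega

/-- Every minimal prime sees a cohomology module. -/
theorem exists_mem_support_HD (hK : Dual.IsDualizing B K) {n : ℤ} (hn : Dual.IsNormalized B (K⟦n⟧)) {D : ℕ}
    (hD : ringKrullDim B ≤ (D : WithBot ℕ∞)) {P : PrimeSpectrum B} (hP : P.asIdeal ∈ minimalPrimes B) :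
    ∃ e : ℕ, e ≤ D ∧ P ∈ Module.support B (Dual.HD B K (n - e)) := by
  haveI : Nontrivial (B ⧸ P.asIdeal) := Ideal.Quotient.nontrivial_iff.2 P.2.ne_top
  obtain ⟨e, he⟩ := H4Depth.exists_nat_supportDim_eq (R := B) (M := B ⧸ P.asIdeal)
  rw [Module.supportDim_quotient_eq_ringKrullDim] at he
  refine ⟨e, ?_, ?_⟩
  · have h := (ringKrullDim_le_of_surjective (Ideal.Quotient.mk P.asIdeal) Ideal.Quotient.mk_surjective).trans hD
    rw [he] at h
    exact Nat.cast_le.1 h
  · rw [← (PCoh.hShift K n (-(e : ℤ)) (n - e) (by ring)).support_eq]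
    exact (nontrivial_localized_HD_iff (isDualizing_shift hK n) hn hP he _).2 rfl

end Local

variable {A : Type u} [CommRing A] [IsNoetherianRing A]

theorem isDualizing_of_pointwise (hdim : ringKrullDim A < ⊤) (R : Dual.D A)
    (hfin : ∀ i : ℤ, Module.Finite A (Dual.HD A R i))
    (hbdd : ∃ a : ℤ, ∀ i : ℤ, i < a → Subsingleton (Dual.HD A R i))
    (hloc : ∀ p : PrimeSpectrum A, Dual.IsDualizing (Loc p) (loc R p)) : Dual.IsDualizing A R := by
  classical
  haveI : ∀ p : PrimeSpectrum A, Module.Flat A (Loc p) := fun p => IsLocalization.flat _ p.asIdeal.primeCompl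
  haveI : ∀ p : PrimeSpectrum A, IsNoetherianRing (Loc p) := fun p =>
    IsLocalization.isNoetherianRing p.asIdeal.primeCompl (Loc p) ‹_›
  obtain ⟨D, hD⟩ : ∃ D : ℕ, ringKrullDim A ≤ (D : WithBot ℕ∞) := by
    generalize hs : ringKrullDim A = s at hdim
    induction s using WithBot.recBotCoe with
    | bot => exact ⟨0, bot_le⟩
    | coe s =>
      induction s using ENat.recTopCoe with
      | top => exact absurd hdim (lt_irrefl _)
      | coe m => exact ⟨m, le_rfl⟩
  have hDp : ∀ p : PrimeSpectrum A, ringKrullDim (Loc p) ≤ (D : WithBot ℕ∞) := fun p => by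
    refine le_trans ?_ hD
    exact Order.krullDim_le_of_strictMono (fun Q => (IsLocalization.AtPrime.primeSpectrumOrderIso (Loc p) p.asIdeal Q).1)
      fun _ _ h => (IsLocalization.AtPrime.primeSpectrumOrderIso (Loc p) p.asIdeal).strictMono h
  choose n hn _ using fun p => exists_normalized (hloc p)
  obtain ⟨a, ha⟩ := hbdd
  have hrange : ∀ (p : PrimeSpectrum A) (i : ℤ), (i < n p - D ∨ n p < i) → Subsingleton (Dual.HD (Loc p) (loc R p) i) :=
    fun p i hi =>
      haveI := ex_range (hloc p) (hn p) (hDp p) (Loc p) i hi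
      (Ext.evalEquiv (loc R p) i).symm.injective.subsingleton
  have hbound : ∀ p : PrimeSpectrum A, ∃ r : PrimeSpectrum A, r.asIdeal ∈ minimalPrimes A ∧
      n r - D ≤ n p ∧ n p ≤ n r + D := fun p => by
    obtain ⟨r, hr, hrp⟩ := Ideal.exists_minimalPrimes_le (bot_le : (⊥ : Ideal A) ≤ p.asIdeal)
    haveI := hr.1.1
    have hdisj : Disjoint (p.asIdeal.primeCompl : Set A) (r : Set A) :=
      Set.disjoint_left.2 fun x hx hxr => hx (hrp hxr)
    haveI := IsLocalization.isPrime_of_isPrime_disjoint p.asIdeal.primeCompl (Loc p) r hr.1.1 hdisj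
    let P : PrimeSpectrum (Loc p) := ⟨r.map (algebraMap A (Loc p)), inferInstance⟩
    have hPc : PrimeSpectrum.comap (algebraMap A (Loc p)) P = ⟨r, hr.1.1⟩ :=
      PrimeSpectrum.ext (IsLocalization.under_map_of_isPrime_disjoint p.asIdeal.primeCompl (Loc p) hr.1.1 hdisj)
    have hPmin : P.asIdeal ∈ minimalPrimes (Loc p) := by
      refine ⟨⟨inferInstance, bot_le⟩, fun Q hQ hle => ?_⟩
      haveI := hQ.1
      have hle' : Q.comap (algebraMap A (Loc p)) ≤ r := (Ideal.comap_mono hle).trans
        (congrArg PrimeSpectrum.asIdeal hPc).le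
      have := hr.2 ⟨Ideal.IsPrime.comap _, bot_le⟩ hle'
      exact Ideal.map_le_iff_le_comap.2 this
    obtain ⟨e, he, hP⟩ := exists_mem_support_HD (hloc p) (hn p) (hDp p) hPmin
    rw [(hBC (Loc p) (n p - e) R).support_eq] at hP
    have h' := comap_mem_support hP
    rw [hPc, mem_support_iff_nontrivial, ← (hBC (Loc ⟨r, hr.1.1⟩) _ R).toEquiv.nontrivial_congr] at h'
    refine ⟨⟨r, hr.1.1⟩, hr, ?_, ?_⟩ <;> by_contra hc
    · exact not_subsingleton_iff_nontrivial.2 h' (hrange _ _ (Or.inl (by omega)))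
    · exact not_subsingleton_iff_nontrivial.2 h' (hrange _ _ (Or.inr (by omega)))
  have hfinmin : {r : PrimeSpectrum A | r.asIdeal ∈ minimalPrimes A}.Finite :=
    ((Ideal.finite_minimalPrimes_of_isNoetherianRing A ⊥)).preimage fun _ _ _ _ h => PrimeSpectrum.ext h
  obtain ⟨lo, hlo⟩ := (hfinmin.image n).bddBelow
  obtain ⟨up, hup⟩ := (hfinmin.image n).bddAbove
  have hn' : ∀ p, lo - D ≤ n p ∧ n p ≤ up + D := fun p => by
    obtain ⟨r, hr, h1, h2⟩ := hbound p
    have := hlo (Set.mem_image_of_mem n hr)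
    have := hup (Set.mem_image_of_mem n hr)
    omega
  have hbd : ∀ i : ℤ, (i < a ∨ up + D < i) → Subsingleton (Dual.HD A R i) := fun i hi => by
    rcases hi with hi | hi
    · exact ha i hi
    · exact FlatBC.subsingleton_HD_of_family _ FlatBC.jFaithful_prime fun p => hrange p i (Or.inr (by
        have := (hn' p).2; omega))
  refine FlatBC.isDualizing_descent _ FlatBC.jFaithful_prime hfin ⟨a, _, hbd⟩ hloc ?_
  have hamp : DRing.HasInjAmplitudeIn A (lo - D - D) (up + D) R :=
    Ext.injAmp_of_vanish R _ _ fun I i hi => FlatBC.jFaithful_prime _ fun p => by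
      haveI := ex_range (hloc p) (hn p) (hDp p) (Loc p ⧸ I.map (algebraMap A (Loc p))) i (by
        have := hn' p; omega)
      haveI : Module.Finite A (A ⧸ I) := inferInstance
      let e := (FlatBC.exBC (FlatBC.bij_module_of_bounded (B := Loc p) (W := R⟦i⟧) (a := a - i)
        (FlatBC.subsingleton_HD_shift ha i) (A ⧸ I))).trans
        (Ext.preIso (((F A (Loc p)).mapDerivedCategorySingleFunctor 0).app (ModuleCat.of A (A ⧸ I))).symm _)
      exact (e.trans (exCongr ((Algebra.TensorProduct.quotIdealMapEquivTensorQuot (Loc p) I).toLinearEquiv.trans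
        (FlatBC.toFₗ (Loc p) (ModuleCat.of A (A ⧸ I)))) _)).injective.subsingleton
  exact ⟨_, _, fun M _ _ i hi => Ext.subsingleton_inD_of_injAmp hamp M hi⟩

end Groth.Agent.H4DR.Dualizing
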