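import Groth.Agent.H4DR.Dualizing.Top

/-!
# `H^i(ω)` at a minimal prime
-/

set_option autoImplicit false
set_option linter.style.haveILetI false
set_option linter.unusedVariables false

universe u

open CategoryTheory CategoryTheory.Limits Pretriangulated
open Groth.Agent.H4DR.Ext (Ex pre)

attribute [local instance] HasDerivedCategory.standard

namespace Groth.Agent.H4DR.Dualizing

variable {A : Type u} [CommRing A] [IsLocalRing A] [IsNoetherianRing A] {ω : Dual.D A}

/-- At a minimal prime `p` with `dim A/p = e`, `Ext^i(M, ω)` is supported only for `i = -e`. -/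
theorem notMem_support_ex (hω : Dual.IsDualizing A ω) (hn : Dual.IsNormalized A ω) {p : Ideal A}
    (hp : p ∈ minimalPrimes A) {e : ℕ} (he : ringKrullDim (A ⧸ p) = e) {i : ℤ} (hi : i ≠ -(e : ℤ))
    (M : Type u) [AddCommGroup M] [Module A M] [Module.Finite A M] :
    (⟨p, hp.1.1⟩ : PrimeSpectrum A) ∉ Module.support A (Ex (Dual.inD A M) ω i) := by
  haveI := hp.1.1
  induction ‹Module.Finite A M› using IsNoetherianRing.induction_on_isQuotientEquivQuotientPrime A with
  | subsingleton N =>
    intro h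
    exact Set.notMem_empty _ ((Module.support_eq_empty_iff (R := A) (M := Ex (Dual.inD A N) ω i)).2
      (Ext.subsingleton_ex_of_subsingleton (A := A) N (ω⟦i⟧)) ▸ h)
  | quotient N q eq =>
    intro h
    haveI := finite_ex_dualizing hω N i
    by_cases hqp : q.asIdeal = p
    · obtain ⟨h1, h2⟩ := dimBound hω hn N i
      haveI : Nontrivial (Ex (Dual.inD A N) ω i) := not_subsingleton_iff_nontrivial.1 fun hs =>
        Set.notMem_empty _ ((Module.support_eq_empty_iff (R := A) (M := Ex (Dual.inD A N) ω i)).2 hs ▸ h)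
      obtain ⟨h3, h4⟩ := h2 inferInstance
      have h5 := (H4Depth.ringKrullDim_quotient_le_supportDim h).trans h1
      rw [he] at h5
      rw [Module.supportDim_eq_of_equiv eq, Module.supportDim_quotient_eq_ringKrullDim, hqp, he] at h3
      have := Nat.cast_le.1 h5
      have := Nat.cast_le.1 h3
      omega
    · obtain ⟨s, hsq, hsp⟩ : ∃ s ∈ q.asIdeal, s ∉ p := Set.not_subset.1 fun hle =>
        hqp (le_antisymm hle (hp.2 ⟨q.2, bot_le⟩ hle))
      refine hsp (Module.mem_support_iff_of_finite.1 h (Module.mem_annihilator.2 fun t => ?_))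
      have hz : (s • LinearMap.id : N →ₗ[A] N) = 0 := LinearMap.ext fun n => eq.injective (by
        obtain ⟨y, hy⟩ := Submodule.Quotient.mk_surjective _ (eq n)
        rw [LinearMap.smul_apply, LinearMap.id_apply, map_smul, LinearMap.zero_apply, map_zero, ← hy,
          ← Submodule.Quotient.mk_smul, Submodule.Quotient.mk_eq_zero, smul_eq_mul]
        exact q.asIdeal.mul_mem_right _ hsq)
      rw [← pre_inM_smul (M := N) s (ω⟦i⟧) t, hz]
      show Ext.inM (L := ModuleCat.of A N) (M := ModuleCat.of A N) 0 ≫ t = 0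
      rw [show Ext.inM (L := ModuleCat.of A N) (M := ModuleCat.of A N) 0 = 0 from Functor.map_zero _ _ _]
      exact zero_comp
  | exact N₁ N₂ N₃ f g hf hg hfg h1 h3 =>
    intro h
    obtain ⟨δ, hT⟩ := Ext.exists_triangle f g hf hg hfg
    rcases support_subset_union_of_exact (Ext.exact_pre₂ _ hT (ω⟦i⟧)) h with h' | h'
    · exact h3 h'
    · exact h1 h'

theorem mem_support_ex_self (hω : Dual.IsDualizing A ω) (hn : Dual.IsNormalized A ω) {p : Ideal A}
    (hp : p ∈ minimalPrimes A) {e : ℕ} (he : ringKrullDim (A ⧸ p) = e) :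
    (⟨p, hp.1.1⟩ : PrimeSpectrum A) ∈ Module.support A (Ex (Dual.inD A A) ω (-(e : ℤ))) := by
  haveI := hp.1.1
  have hq : p ∈ (Module.annihilator A A).minimalPrimes := by
    rwa [Module.annihilator_eq_bot.2 inferInstance]
  obtain ⟨-, f, hf⟩ := (isAssociatedPrime_iff_exists_injective_linearMap p A).1
    (Module.associatedPrimes.minimalPrimes_annihilator_subset_associatedPrimes A A hq)
  have hps : (⟨p, hp.1.1⟩ : PrimeSpectrum A) ∈ Module.support A (Ex (Dual.inD A (A ⧸ p)) ω (-(e : ℤ))) :=
    top_prime hω hn e p (by rw [Module.supportDim_quotient_eq_ringKrullDim, he])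
      fun d' _ M => top_spec hω hn d' M
  obtain ⟨δ, hT⟩ := Ext.exists_triangle f (LinearMap.range f).mkQ hf (Submodule.mkQ_surjective _)
    (LinearMap.exact_map_mkQ_range f)
  let T := Triangle.mk (Ext.inM (L := ModuleCat.of A (A ⧸ p)) (M := ModuleCat.of A A) f)
    (Ext.inM (L := ModuleCat.of A A) (M := ModuleCat.of A (A ⧸ LinearMap.range f)) (LinearMap.range f).mkQ) δ
  let c : Ex (Dual.inD A (A ⧸ p)) ω (-(e : ℤ)) →ₗ[A] Ex (Dual.inD A (A ⧸ LinearMap.range f)) ω (-(e : ℤ) + 1) :=
    Ext.conn T ω _ _ rfl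
  rcases support_subset_union_of_exact (LinearMap.exact_subtype_ker_map c) hps with h | h
  · exact Module.support_subset_of_surjective _ (pre T.mor₁ (ω⟦(-(e : ℤ))⟧)).surjective_rangeRestrict
      (Module.support_subset_of_injective _ (Submodule.inclusion_injective (Ext.ker_conn_le T hT rfl :
        LinearMap.ker c ≤ LinearMap.range (pre T.mor₁ (ω⟦(-(e : ℤ))⟧)))) h)
  · exact absurd h (notMem_support_ex hω hn hp he (by omega) _)

theorem nontrivial_localized_HD_iff (hω : Dual.IsDualizing A ω) (hn : Dual.IsNormalized A ω) {p : Ideal A}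
    (hp : p ∈ minimalPrimes A) {e : ℕ} (he : ringKrullDim (A ⧸ p) = e) (i : ℤ) :
    (⟨p, hp.1.1⟩ : PrimeSpectrum A) ∈ Module.support A (Dual.HD A ω i) ↔ i = -(e : ℤ) := by
  rw [← (Ext.evalEquiv ω i).support_eq]
  refine ⟨fun h => ?_, ?_⟩
  · by_contra hi
    exact notMem_support_ex hω hn hp he hi A h
  · rintro rfl
    exact mem_support_ex_self hω hn hp he

end Groth.Agent.H4DR.Dualizing
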