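import Groth.Agent.H4DR.Dualizing.Degree

/-!
# Uniqueness of dualizing complexes over a local ring
-/

set_option autoImplicit false
set_option linter.style.haveILetI false
set_option linter.unusedVariables false

universe u

open CategoryTheory CategoryTheory.Limits Pretriangulated
open Groth.Agent.H4DR.DComplete (coind hQ)
open Groth.Agent.H4DR.Ext (Ex pre post preIso postIso)

attribute [local instance] HasDerivedCategory.standard

namespace Groth.Agent.H4DR.Dualizing

variable {A : Type u} [CommRing A]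

lemma hasInjAmp_lower {E : DRing.Cx A} {a b : ℤ} (hv : DRing.VanishesOutside E a b)
    (hE : DRing.TermwiseInjective E) {K : Dual.D A} (e : DRing.toD E ≅ K) (i : ℤ) (hi : i < a ∨ b < i) :
    Subsingleton (Dual.HD A K i) :=
  haveI := Ext.subsingleton_inD_of_injAmp ⟨E, hv, hE, ⟨e⟩⟩ A (i := i) hi
  (Ext.evalEquiv K i).symm.injective.subsingleton

/-- A dualizing complex has bounded cohomology. -/
theorem exists_bounds {ω : Dual.D A} (hω : Dual.IsDualizing A ω) :
    ∃ a b : ℤ, ∀ i : ℤ, (i < a ∨ b < i) → Subsingleton (Dual.HD A ω i) := by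
  obtain ⟨E, a, b, hv, hE, ⟨e⟩⟩ := exists_injRep (K := ω) hω.finite_injective_dimension
  exact ⟨a, b, hasInjAmp_lower hv hE e⟩

section Obj₃

variable [IsNoetherianRing A] (T : Triangle (Dual.D A)) (hT : T ∈ distTriang (Dual.D A))
include hT

theorem finite_HD_obj₃ (h₁ : ∀ i : ℤ, Module.Finite A (Dual.HD A T.obj₁ i))
    (h₂ : ∀ i : ℤ, Module.Finite A (Dual.HD A T.obj₂ i)) (i : ℤ) : Module.Finite A (Dual.HD A T.obj₃ i) := by
  haveI := h₁ (i + 1)
  haveI := h₂ i
  exact PCoh.finite_of_exact _ _ (PCoh.ex₃ T hT i (i + 1) rfl) (IsNoetherian.noetherian _)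

end Obj₃

theorem isZero_of_subsingleton_HD {K : Dual.D A} (h : ∀ i, Subsingleton (Dual.HD A K i)) : IsZero K := by
  haveI : DerivedCategory.IsGE K 0 :=
    (DerivedCategory.isGE_iff K 0).2 fun i _ => ModuleCat.isZero_of_iff_subsingleton.2 (h i)
  haveI : DerivedCategory.IsLE K (-1) :=
    (DerivedCategory.isLE_iff K (-1)).2 fun i _ => ModuleCat.isZero_of_iff_subsingleton.2 (h i)
  exact DerivedCategory.TStructure.t.isZero K (-1) 0 (by omega)

variable [IsLocalRing A] [IsNoetherianRing A]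

/-- An object with finite bounded below cohomology and no `Ext` from the residue field is zero. -/
theorem isZero_of_ext_residueField {K : Dual.D A} (hfin : ∀ i : ℤ, Module.Finite A (Dual.HD A K i)) {a : ℤ}
    (hlow : ∀ i : ℤ, i < a → Subsingleton (Dual.HD A K i))
    (hk : ∀ i : ℤ, Subsingleton (Ex (Dual.inD A (A ⧸ IsLocalRing.maximalIdeal A)) K i)) : IsZero K :=
  isZero_of_subsingleton_HD fun i => by
    haveI := Ext.subsingleton_ex_quotient hfin hlow (fun _ => True) (fun _ _ => trivial) (fun i _ => hk i) ⊥ i trivial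
    haveI : Subsingleton (Ex (Dual.inD A A) K i) :=
      (Ext.exCongr (Submodule.quotEquivOfEqBot ⊥ rfl : (A ⧸ (⊥ : Ideal A)) ≃ₗ[A] A) (K⟦i⟧)).injective.subsingleton
    exact (Ext.evalEquiv K i).symm.injective.subsingleton

variable {E : DRing.Cx A} {a b : ℤ} (hv : DRing.VanishesOutside E a b) (hE : DRing.TermwiseInjective E)
  (hH : ∀ i : ℤ, Module.Finite A (Dual.HD A (DRing.toD E) i))
  {W : Dual.D A} (hW : ∀ i : ℤ, Module.Finite A (Dual.HD A W i)) {a' b' : ℤ}
  (hWi : DRing.HasInjAmplitudeIn A a' b' W)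
include hv hE hH hW hWi

omit [IsLocalRing A] in
theorem finite_ex_coind (M : Type u) [AddCommGroup M] [Module A M] [Module.Finite A M] (i : ℤ) :
    Module.Finite A (Ex (DRing.toD (coind (ModuleCat.of A M) E)) W i) := by
  haveI := Ext.isKInjective_of_vanishesOutside hv hE
  have hamp : DRing.HasInjAmplitudeIn A a b (DRing.toD E) := ⟨E, hv, hE, ⟨Iso.refl _⟩⟩
  refine Ext.finite_ex hW hWi (fun j => ?_) i
  haveI : Module.Finite A (Ex (Dual.inD A M) (DRing.toD E) j) :=
    Ext.finite_ex_module hH hamp ((j - a).toNat + 1) M j (by omega)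
  exact Module.Finite.equiv ((exEquiv E (ModuleCat.of A M) j).trans (hQ _ j).symm)

omit [IsLocalRing A] [IsNoetherianRing A] hv hE hH hW hWi in
theorem subsingleton_coind_of_subsingleton (M : Type u) [AddCommGroup M] [Module A M] [Subsingleton M] (i : ℤ) :
    Subsingleton (Ex (DRing.toD (coind (ModuleCat.of A M) E)) W i) := by
  refine ⟨fun f g => IsZero.eq_of_src (isZero_of_subsingleton_HD fun j => ?_) f g⟩
  have hs : Subsingleton (M →ₗ[A] E.X j) := ⟨fun p q => LinearMap.ext fun x => by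
    rw [Subsingleton.elim x 0, map_zero, map_zero]⟩
  have hz : IsZero ((coind (ModuleCat.of A M) E).X j) := @ModuleCat.isZero_of_subsingleton A _ _ hs
  exact ModuleCat.subsingleton_of_isZero (((HomologicalComplex.exactAt_iff _ _).2
    (ShortComplex.exact_of_isZero_X₂ _ (by exact hz))).isZero_homology.of_iso
      ((DerivedCategory.homologyFunctorFactors (ModuleCat.{u} A) j).app _))

theorem van_quotient (n : ℤ)
    (hk : ∀ i : ℤ, i ≠ n → Subsingleton
      (Ex (DRing.toD (coind (ModuleCat.of A (A ⧸ IsLocalRing.maximalIdeal A)) E)) W i)) (J : Ideal A) :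
    ∀ i : ℤ, i ≠ n → Subsingleton (Ex (DRing.toD (coind (ModuleCat.of A (A ⧸ J)) E)) W i) := by
  refine Ext.quotient_induction
    (fun J => ∀ i : ℤ, i ≠ n → Subsingleton (Ex (DRing.toD (coind (ModuleCat.of A (A ⧸ J)) E)) W i)) ?_ hk ?_ ?_ J
  · intro i _
    haveI : Subsingleton (A ⧸ (⊤ : Ideal A)) := Submodule.Quotient.subsingleton_iff.2 rfl
    exact subsingleton_coind_of_subsingleton (E := E) _ i
  · intro J c h1 h2 i hi
    obtain ⟨f, g, hf, hg, hfg⟩ := Ext.colon_ses J c
    obtain ⟨δ, hT⟩ := exists_triangle hE (L := ModuleCat.of A _) (M := ModuleCat.of A _) (N := ModuleCat.of A _)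
      f g hf hg hfg
    refine subsingleton_of_forall_eq 0 fun t => ?_
    obtain ⟨s, hs⟩ := (Ext.exact_pre₂ _ hT (W⟦i⟧) t).1 (@Subsingleton.elim _ (h2 i hi) _ _)
    rw [← hs, show s = 0 from @Subsingleton.elim _ (h1 i hi) _ _]
    exact map_zero _
  · intro p _ x hx hxp h i hi
    obtain ⟨g, hf, hg, hfg⟩ := Ext.prime_ses p hxp
    obtain ⟨δ, hT⟩ := exists_triangle hE (L := ModuleCat.of A _) (M := ModuleCat.of A _) (N := ModuleCat.of A _)
      _ g hf hg hfg
    haveI := finite_ex_coind hv hE hH hW hWi (A ⧸ p) i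
    have h0 : (⊤ : Submodule A (Ex (DRing.toD (coind (ModuleCat.of A (A ⧸ p)) E)) W i)) = ⊥ := by
      refine Submodule.eq_bot_of_le_smul_of_le_jacobson_bot (IsLocalRing.maximalIdeal A) _ Module.Finite.fg_top
        (fun t _ => ?_) (IsLocalRing.maximalIdeal_le_jacobson ⊥)
      obtain ⟨(s : Ex (DRing.toD (coind (ModuleCat.of A (A ⧸ p)) E)) W i), rfl⟩ :=
        (Ext.exact_pre₂ _ hT (W⟦i⟧) t).1 (@Subsingleton.elim _ (h i hi) _ _)
      show DerivedCategory.Q.map (cMap E (M := ModuleCat.of A (A ⧸ p)) (N := ModuleCat.of A (A ⧸ p))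
        (x • LinearMap.id)) ≫ s ∈ _
      rw [cMap_smul, cMap_id, Functor.map_smul, CategoryTheory.Functor.map_id]
      exact ((Linear.smul_comp _ _ _ _ _ _).trans (congrArg (x • ·) (Category.id_comp s))) ▸
        Submodule.smul_mem_smul hx Submodule.mem_top
    exact Submodule.subsingleton_iff A |>.1 (subsingleton_iff_bot_eq_top.1 h0.symm)

theorem van_finite (n : ℤ)
    (hk : ∀ i : ℤ, i ≠ n → Subsingleton
      (Ex (DRing.toD (coind (ModuleCat.of A (A ⧸ IsLocalRing.maximalIdeal A)) E)) W i))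
    (M : Type u) [AddCommGroup M] [Module A M] [Module.Finite A M] :
    ∀ i : ℤ, i ≠ n → Subsingleton (Ex (DRing.toD (coind (ModuleCat.of A M) E)) W i) := by
  induction ‹Module.Finite A M› using IsNoetherianRing.induction_on_isQuotientEquivQuotientPrime A with
  | subsingleton N => exact fun i _ => subsingleton_coind_of_subsingleton (E := E) N i
  | quotient N p e =>
    intro i hi
    haveI := van_quotient hv hE hH hW hWi n hk p.asIdeal i hi
    let eC : coind (ModuleCat.of A (A ⧸ p.asIdeal)) E ≅ coind (ModuleCat.of A N) E :=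
      { hom := cMap E (M := ModuleCat.of A N) (N := ModuleCat.of A (A ⧸ p.asIdeal)) e.toLinearMap
        inv := cMap E (M := ModuleCat.of A (A ⧸ p.asIdeal)) (N := ModuleCat.of A N) e.symm.toLinearMap
        hom_inv_id := by rw [← cMap_comp, LinearEquiv.comp_coe, LinearEquiv.symm_trans_self]; exact cMap_id E _
        inv_hom_id := by rw [← cMap_comp, LinearEquiv.comp_coe, LinearEquiv.self_trans_symm]; exact cMap_id E _ }
    exact (preIso (DerivedCategory.Q.mapIso eC) (W⟦i⟧)).injective.subsingleton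
  | exact N₁ N₂ N₃ f g hf hg hfg h1 h3 =>
    intro i hi
    obtain ⟨δ, hT⟩ := exists_triangle hE (L := ModuleCat.of A N₁) (M := ModuleCat.of A N₂) (N := ModuleCat.of A N₃)
      f g hf hg hfg
    refine subsingleton_of_forall_eq 0 fun t => ?_
    obtain ⟨s, hs⟩ := (Ext.exact_pre₂ _ hT (W⟦i⟧) t).1 (@Subsingleton.elim _ (h3 i hi) _ _)
    rw [← hs, show s = 0 from @Subsingleton.elim _ (h1 i hi) _ _]
    exact map_zero _

/-- Comparison: matching residue field degrees force an isomorphism up to shift. -/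
theorem nonempty_iso_shift (d d' : ℤ)
    (hd : ∀ i : ℤ, i ≠ d → Subsingleton (Ex (Dual.inD A (A ⧸ IsLocalRing.maximalIdeal A)) (DRing.toD E) i))
    (ed : Ex (Dual.inD A (A ⧸ IsLocalRing.maximalIdeal A)) (DRing.toD E) d ≃ₗ[A] A ⧸ IsLocalRing.maximalIdeal A)
    (hd' : ∀ i : ℤ, i ≠ d' → Subsingleton (Ex (Dual.inD A (A ⧸ IsLocalRing.maximalIdeal A)) W i))
    (ed' : Ex (Dual.inD A (A ⧸ IsLocalRing.maximalIdeal A)) W d' ≃ₗ[A] A ⧸ IsLocalRing.maximalIdeal A) :
    Nonempty (DRing.toD E ≅ W⟦d' - d⟧) := by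
  haveI := Ext.isKInjective_of_vanishesOutside hv hE
  let m := IsLocalRing.maximalIdeal A
  let k := ModuleCat.of A (A ⧸ m)
  let L := DRing.toD E
  let n := d' - d
  let W' := W⟦n⟧
  let X := (Dual.inD A (A ⧸ m))⟦-d⟧
  haveI : IsSimpleModule A (A ⧸ m) := isSimpleModule_iff_isCoatom.2
    (Ideal.isMaximal_def.1 (IsLocalRing.maximalIdeal.isMaximal A))
  obtain ⟨eC⟩ := nonempty_iso_single (X := DRing.toD (coind k E)) d
    (fun j hj => haveI := hd j hj; (((hQ _ j).trans (exEquiv E k j).symm)).injective.subsingleton)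
    (((hQ _ d).trans (exEquiv E k d).symm).trans ed)
  let eW : ∀ i j, j = n + i + d → (Ex X W' i ≃ₗ[A] Ex (Dual.inD A (A ⧸ m)) W j) := fun i j hj =>
    (Ext.addLin X W n i (n + i) rfl).trans (Ext.shiftSrc (Dual.inD A (A ⧸ m)) W (-d) j (n + i) (by omega)).symm
  let eL : ∀ i j, j = i + d → (Ex X L i ≃ₗ[A] Ex (Dual.inD A (A ⧸ m)) L j) := fun i j hj =>
    (Ext.shiftSrc (Dual.inD A (A ⧸ m)) L (-d) j i (by omega)).symm
  let z := fun (Y : Dual.D A) => postIso (A := A) X ((shiftFunctorZero (Dual.D A) ℤ).app Y).symm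
  let eW0 : (X ⟶ W') ≃ₗ[A] A ⧸ m := ((z W').trans (eW 0 d' (by omega))).trans ed'
  let eL0 : (X ⟶ L) ≃ₗ[A] A ⧸ m := ((z L).trans (eL 0 d (by omega))).trans ed
  -- the comparison map
  have hkv : ∀ i : ℤ, i ≠ n → Subsingleton (Ex (DRing.toD (coind k E)) W i) := fun i hi => by
    haveI := hd' (i + d) (by omega)
    exact ((preIso eC.symm (W⟦i⟧)).trans
      (Ext.shiftSrc (Dual.inD A (A ⧸ m)) W (-d) (i + d) i (by omega)).symm).injective.subsingleton
  obtain ⟨δ, hT⟩ := exists_triangle hE (L := ModuleCat.of A m) (M := ModuleCat.of A A) (N := k)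
    (Submodule.subtype m) m.mkQ (Submodule.subtype_injective _) (Submodule.mkQ_surjective _)
    (LinearMap.exact_subtype_mkQ m)
  haveI : Module.Finite A m := Module.Finite.of_fg (IsNoetherian.noetherian _)
  have hsurj := Ext.surjective_pre₁ _ hT (W := W) (i := n) rfl
    (van_finite hv hE hH hW hWi n hkv m (n + 1) (by omega))
  obtain ⟨t, ht⟩ := hsurj (eC.hom ≫ eW0.symm (Ideal.Quotient.mk m 1))
  let φ : L ⟶ W' := DerivedCategory.Q.map (coindSelf E).inv ≫ t
  let q : X ⟶ L := eC.inv ≫ DerivedCategory.Q.map (cMap E (M := ModuleCat.of A A) (N := k) m.mkQ ≫ (coindSelf E).hom)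
  have hq : q ≫ φ = eW0.symm (Ideal.Quotient.mk m 1) := by
    let a₀ := cMap E (M := ModuleCat.of A A) (N := k) m.mkQ
    have e1 : DerivedCategory.Q.map (a₀ ≫ (coindSelf E).hom) ≫ DerivedCategory.Q.map (coindSelf E).inv ≫ t =
        DerivedCategory.Q.map a₀ ≫ t :=
      (congrArg (· ≫ DerivedCategory.Q.map (coindSelf E).inv ≫ t) (DerivedCategory.Q.map_comp a₀ (coindSelf E).hom)).trans
        ((Category.assoc _ _ _).trans (congrArg (DerivedCategory.Q.map a₀ ≫ ·) ((Category.assoc _ _ _).symm.trans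
          ((congrArg (· ≫ t) ((DerivedCategory.Q.map_comp _ _).symm.trans ((congrArg DerivedCategory.Q.map
            (coindSelf E).hom_inv_id).trans (DerivedCategory.Q.map_id _)))).trans (Category.id_comp t)))))
    exact (Category.assoc _ _ _).trans ((congrArg (eC.inv ≫ ·) (e1.trans ht)).trans (eC.inv_hom_id_assoc _))
  have hne : eW0.symm (Ideal.Quotient.mk m 1) ≠ 0 := fun h => by
    have h1 : (Ideal.Quotient.mk m 1 : A ⧸ m) = 0 := eW0.symm.injective (h.trans (map_zero _).symm)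
    exact (IsLocalRing.maximalIdeal.isMaximal A).ne_top
      ((Ideal.eq_top_iff_one m).2 (Ideal.Quotient.eq_zero_iff_mem.1 h1))
  have hpost : Function.Bijective (post X φ : (X ⟶ L) →ₗ[A] (X ⟶ W')) := by
    have h0 : eW0.toLinearMap ∘ₗ (post X φ) ∘ₗ eL0.symm.toLinearMap ≠ 0 := fun h => hne (by
      refine hq.symm.trans (eW0.injective ?_)
      have := LinearMap.congr_fun h (eL0 q)
      simp only [LinearMap.comp_apply, LinearEquiv.coe_coe, LinearEquiv.symm_apply_apply, LinearMap.zero_apply] at this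
      exact this.trans (map_zero _).symm)
    have h1 := LinearMap.bijective_of_ne_zero h0
    rwa [LinearMap.coe_comp, LinearEquiv.coe_coe, Function.Bijective.of_comp_iff' eW0.bijective,
      LinearMap.coe_comp, LinearEquiv.coe_coe, Function.Bijective.of_comp_iff _ eL0.symm.bijective] at h1
  obtain ⟨C, g, h, hC⟩ := distinguished_cocone_triangle φ
  let T := Triangle.mk φ g h
  have hW'f : ∀ i : ℤ, Module.Finite A (Dual.HD A W' i) := fun i =>
    haveI := hW (n + i); Module.Finite.equiv (PCoh.hShift W n i (n + i) rfl).symm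
  obtain ⟨E', hv', hE', ⟨e'⟩⟩ := hWi
  have hlow : ∀ i : ℤ, i < min (a - 1) (a' - n) → Subsingleton (Dual.HD A C i) := fun i hi => by
    haveI := hasInjAmp_lower hv hE (Iso.refl (DRing.toD E)) (i + 1) (Or.inl (by omega))
    haveI := hasInjAmp_lower hv' hE' e' (n + i) (Or.inl (by omega))
    haveI : Subsingleton (Dual.HD A W' i) := (PCoh.hShift W n i (n + i) rfl).injective.subsingleton
    exact PCoh.subsingleton₃ T hC i (i + 1) rfl (inferInstanceAs (Subsingleton (Dual.HD A (DRing.toD E) (i + 1))))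
      (inferInstanceAs (Subsingleton (Dual.HD A W' i)))
  have hCk : ∀ i : ℤ, Subsingleton (X ⟶ C⟦i⟧) := fun i => by
    rcases eq_or_ne i 0 with rfl | hi0
    · have hs : Subsingleton (X ⟶ C) := subsingleton_of_forall_eq 0 fun f => by
        haveI : Subsingleton (X ⟶ L⟦(1 : ℤ)⟧) := haveI := hd (1 + d) (by omega); (eL 1 (1 + d) rfl).injective.subsingleton
        obtain ⟨u, hu⟩ := Triangle.coyoneda_exact₃ T hC f (Subsingleton.elim (α := X ⟶ L⟦(1 : ℤ)⟧) _ _)
        obtain ⟨v, rfl⟩ := hpost.2 u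
        rw [hu]
        show (v ≫ φ) ≫ g = 0
        rw [Category.assoc, show φ ≫ g = 0 from comp_distTriang_mor_zero₁₂ T hC, comp_zero]
      exact @Function.Injective.subsingleton _ (X ⟶ C) _ (z C).symm.injective hs
    rcases eq_or_ne i (-1) with rfl | hi1
    · have hT2 := inv_rot_of_distTriang _ hC
      refine subsingleton_of_forall_eq 0 fun f => ?_
      have h1 : f ≫ T.invRotate.mor₁ = 0 := hpost.1 (by
        show (f ≫ T.invRotate.mor₁) ≫ φ = 0 ≫ φ
        exact ((Category.assoc _ _ _).trans ((congrArg (f ≫ ·) (comp_distTriang_mor_zero₁₂ _ hT2)).trans comp_zero)).trans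
          zero_comp.symm)
      obtain ⟨u, hu⟩ := Triangle.coyoneda_exact₂ _ (inv_rot_of_distTriang _ hT2) f h1
      haveI : Subsingleton (X ⟶ W'⟦(-1 : ℤ)⟧) :=
        haveI := hd' (n + -1 + d) (by omega); (eW (-1) _ rfl).injective.subsingleton
      rw [hu]
      exact (congrArg (· ≫ _) (Subsingleton.elim (α := X ⟶ W'⟦(-1 : ℤ)⟧) u 0)).trans zero_comp
    haveI : Subsingleton (X ⟶ W'⟦i⟧) :=
      haveI := hd' (n + i + d) (by omega); (eW i _ rfl).injective.subsingleton
    haveI : Subsingleton (X ⟶ L⟦i + 1⟧) :=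
      haveI := hd (i + 1 + d) (by omega); (eL (i + 1) _ rfl).injective.subsingleton
    have hs := Triangle.shift_distinguished T.rotate.rotate (rot_of_distTriang _ (rot_of_distTriang _ hC)) i
    refine Ext.subsingleton_post₂ _ (Triangle.shift_distinguished T.rotate (rot_of_distTriang _ hC) i)
      (inferInstanceAs (Subsingleton (X ⟶ W'⟦i⟧))) ?_
    exact (postIso X ((shiftFunctorAdd' (Dual.D A) 1 i (i + 1) (by omega)).app L)).symm.injective.subsingleton
  have hzero : IsZero C := isZero_of_ext_residueField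
    (finite_HD_obj₃ T hC hH hW'f) hlow fun i => by
      haveI := hCk (i - d)
      exact (Ext.shiftSrc (Dual.inD A (A ⧸ m)) C (-d) i (i - d) (by omega)).injective.subsingleton
  haveI : IsIso φ := (Triangle.isZero₃_iff_isIso₁ T hC).1 hzero
  exact ⟨asIso φ⟩

omit hv hE hH hW hWi in
/-- Dualizing complexes over a local ring are unique up to shift. -/
theorem unique_up_to_shift (ω ω' : Dual.D A) (hω : Dual.IsDualizing A ω) (hω' : Dual.IsDualizing A ω') :
    ∃ n : ℤ, Nonempty (ω' ≅ ω⟦n⟧) := by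
  obtain ⟨E, a, b, hv, hE, ⟨e⟩⟩ := exists_injRep (K := ω') hω'.finite_injective_dimension
  obtain ⟨d', hd', ⟨ed'⟩⟩ := exists_degree hω (IsLocalRing.maximalIdeal A)
  obtain ⟨d, hd, ⟨ed⟩⟩ := exists_degree hω' (IsLocalRing.maximalIdeal A)
  obtain ⟨a', b', hWi⟩ := Ext.fid_iff.1 (show Ext.FID ω from hω.finite_injective_dimension)
  let eX : ∀ i, Ex (Dual.inD A (A ⧸ IsLocalRing.maximalIdeal A)) (DRing.toD E) i ≃ₗ[A]
      (Dual.inD A (A ⧸ IsLocalRing.maximalIdeal A) ⟶ ω'⟦i⟧) := fun i =>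
    postIso _ ((shiftFunctor (Dual.D A) i).mapIso e)
  obtain ⟨φ⟩ := nonempty_iso_shift hv hE (finite_HD_of_iso e hω'.finite_cohomology) hω.finite_cohomology hWi d d'
    (fun i hi => haveI := hd i hi; (eX i).injective.subsingleton) ((eX d).trans ed) hd' ed'
  exact ⟨d' - d, ⟨e.symm ≪≫ φ⟩⟩

end Groth.Agent.H4DR.Dualizing
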