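import Groth.Agent.H4DR.Dualizing.Shift
import Groth.Agent.H4DR.Dualizing.MinPrime
import Groth.Agent.H4DR.FlatBC.Dualizing
import Mathlib.RingTheory.TensorProduct.Quotient
import Mathlib.RingTheory.Localization.AtPrime.Basic

/-!
# A dualizing complex at a prime: the dimension function
-/

set_option autoImplicit false
set_option linter.style.haveILetI false
set_option linter.unusedVariables false

universe u v

open CategoryTheory CategoryTheory.Limits Pretriangulated TensorProduct
open Groth.Agent.H4DR.Ext (Ex pre preIso addLin)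
open Groth.Agent.H4DR.FlatBC (F FD Bij exBC hBC toFₗ)

attribute [local instance] HasDerivedCategory.standard

namespace Groth.Agent.H4DR.Dualizing

variable {A : Type u} [CommRing A]

/-- The local ring at a prime. -/
abbrev Loc (p : PrimeSpectrum A) : Type u := Localization.AtPrime p.asIdeal

/-- `ω_p`. -/
noncomputable abbrev loc (ω : Dual.D A) (p : PrimeSpectrum A) : Dual.D (Loc p) :=
  haveI := IsLocalization.flat (Loc p) p.asIdeal.primeCompl
  (FD A (Loc p)).obj ω

variable {B : Type u} [CommRing B] [Algebra A B]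

theorem comap_mem_support {N : Type v} [AddCommGroup N] [Module A N] {P : PrimeSpectrum B}
    (h : P ∈ Module.support B (B ⊗[A] N)) : PrimeSpectrum.comap (algebraMap A B) P ∈ Module.support A N := by
  by_contra hN
  rw [Module.notMem_support_iff'] at hN
  refine (Module.notMem_support_iff'.2 fun t => ?_) h
  induction t using TensorProduct.induction_on with
  | zero => exact ⟨1, P.2.one_notMem, smul_zero _⟩
  | add x y hx hy =>
    obtain ⟨r, hr, hrx⟩ := hx
    obtain ⟨s, hs, hsy⟩ := hy
    exact ⟨r * s, P.2.mul_notMem hr hs, by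
      rw [smul_add, mul_smul r s y, hsy, smul_zero, add_zero, mul_comm, mul_smul, hrx, smul_zero]⟩
  | tmul b n =>
    obtain ⟨s, hs, hsn⟩ := hN n
    exact ⟨algebraMap A B s, hs, by
      rw [algebraMap_smul, ← TensorProduct.tmul_smul, hsn, TensorProduct.tmul_zero]⟩

theorem mem_support_iff_nontrivial (p : PrimeSpectrum A) (N : Type v) [AddCommGroup N] [Module A N] :
    p ∈ Module.support A N ↔ Nontrivial (Loc p ⊗[A] N) :=
  Module.mem_support_iff.trans (LocalizedModule.equivTensorProduct p.asIdeal.primeCompl N).toEquiv.nontrivial_congr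

variable [IsNoetherianRing A] {ω : Dual.D A}

section BC

variable [Module.Flat A B] (hω : Dual.IsDualizing A ω)
include hω

/-- `B ⊗ Ext^i(M, ω) = Ext^i(B ⊗ M, ω_B)`. -/
noncomputable def exModuleBC (M : Type u) [AddCommGroup M] [Module A M] [Module.Finite A M] (i : ℤ) :
    B ⊗[A] Ex (Dual.inD A M) ω i ≃ₗ[B]
      Ex (Dual.inD B ((F A B).obj (ModuleCat.of A M))) ((FD A B).obj ω) i :=
  (exBC (FlatBC.bij_module_of_bounded (B := B) (W := ω⟦i⟧) (a := Classical.choose (exists_bounds hω) - i)
    (FlatBC.subsingleton_HD_shift (fun j hj =>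
      (Classical.choose_spec (Classical.choose_spec (exists_bounds hω))) j (Or.inl hj)) i) M)).trans
    (preIso (((F A B).mapDerivedCategorySingleFunctor 0).app (ModuleCat.of A M)).symm _)

/-- `B ⊗ Ext^i(A/I, ω) = Ext^i(B/IB, ω_B)`. -/
noncomputable def exQuotBC (I : Ideal A) (i : ℤ) :
    B ⊗[A] Ex (Dual.inD A (A ⧸ I)) ω i ≃ₗ[B]
      Ex (Dual.inD B (B ⧸ I.map (algebraMap A B))) ((FD A B).obj ω) i :=
  (exModuleBC hω (A ⧸ I) i).trans (Ext.exCongr
    ((Algebra.TensorProduct.quotIdealMapEquivTensorQuot B I).toLinearEquiv.trans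
      (toFₗ B (ModuleCat.of A (A ⧸ I)))) _)

end BC

variable (hω : Dual.IsDualizing A ω)
include hω

theorem isDualizing_loc (p : PrimeSpectrum A) : Dual.IsDualizing (Loc p) (loc ω p) :=
  haveI := IsLocalization.flat (Loc p) p.asIdeal.primeCompl
  haveI : IsNoetherianRing (Loc p) := IsLocalization.isNoetherianRing p.asIdeal.primeCompl (Loc p) ‹_›
  FlatBC.isDualizing_localization p.asIdeal.primeCompl hω

/-- The degree of `ω` at `p`. -/
noncomputable def deg (p : PrimeSpectrum A) : ℤ :=
  haveI : IsNoetherianRing (Loc p) := IsLocalization.isNoetherianRing p.asIdeal.primeCompl (Loc p) ‹_›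
  Classical.choose (exists_normalized (isDualizing_loc hω p))

theorem isNormalized_deg (p : PrimeSpectrum A) : Dual.IsNormalized (Loc p) ((loc ω p)⟦deg hω p⟧) :=
  haveI : IsNoetherianRing (Loc p) := IsLocalization.isNoetherianRing p.asIdeal.primeCompl (Loc p) ‹_›
  (Classical.choose_spec (exists_normalized (isDualizing_loc hω p))).1

/-- `Ext^i(A/p, ω)_p` is nonzero in the degree of `p` only. -/
theorem mem_support_iff_deg (p : PrimeSpectrum A) (i : ℤ) :
    p ∈ Module.support A (Ex (Dual.inD A (A ⧸ p.asIdeal)) ω i) ↔ i = deg hω p := by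
  haveI := IsLocalization.flat (Loc p) p.asIdeal.primeCompl
  haveI : IsNoetherianRing (Loc p) := IsLocalization.isNoetherianRing p.asIdeal.primeCompl (Loc p) ‹_›
  have h := Classical.choose_spec (exists_normalized (isDualizing_loc hω p))
  rw [mem_support_iff_nontrivial, (exQuotBC (B := Loc p) hω p.asIdeal i).toEquiv.nontrivial_congr,
    Localization.AtPrime.map_eq_maximalIdeal]
  refine ⟨fun hn => ?_, fun hi => hi ▸ h.2.1⟩
  by_contra hi
  exact not_subsingleton_iff_nontrivial.2 hn (h.2.2 i hi)

theorem deg_mem_range (p : PrimeSpectrum A) {a b : ℤ} (hab : ∀ (M : Type u) [AddCommGroup M] [Module A M] (i : ℤ),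
    (i < a ∨ b < i) → Subsingleton (Dual.inD A M ⟶ ω⟦i⟧)) : a ≤ deg hω p ∧ deg hω p ≤ b := by
  have h := (mem_support_iff_deg hω p (deg hω p)).2 rfl
  haveI : Nontrivial (Ex (Dual.inD A (A ⧸ p.asIdeal)) ω (deg hω p)) := not_subsingleton_iff_nontrivial.1 fun hs =>
    Set.notMem_empty _ ((Module.support_eq_empty_iff (R := A)
      (M := Ex (Dual.inD A (A ⧸ p.asIdeal)) ω (deg hω p))).2 hs ▸ h)
  by_contra hc
  exact not_subsingleton_iff_nontrivial.2 ‹_› (hab (A ⧸ p.asIdeal) _ (by omega))

/-- The degree drops by the dimension of the local ring of `A/p` at `q`. -/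
theorem deg_eq_sub {p q : PrimeSpectrum A} (hle : p ≤ q) {d : ℕ}
    (hd : ringKrullDim (Loc q ⧸ p.asIdeal.map (algebraMap A (Loc q))) = d) : deg hω p = deg hω q - d := by
  haveI := IsLocalization.flat (Loc q) q.asIdeal.primeCompl
  haveI : IsNoetherianRing (Loc q) := IsLocalization.isNoetherianRing q.asIdeal.primeCompl (Loc q) ‹_›
  have hdisj : Disjoint (q.asIdeal.primeCompl : Set A) (p.asIdeal : Set A) :=
    Set.disjoint_left.2 fun a ha hap => ha (hle hap)
  haveI := IsLocalization.isPrime_of_isPrime_disjoint q.asIdeal.primeCompl (Loc q) p.asIdeal p.2 hdisj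
  have hω' := isDualizing_shift (isDualizing_loc hω q) (deg hω q)
  have h := top_prime hω' (isNormalized_deg hω q) d (p.asIdeal.map (algebraMap A (Loc q)))
    (by rw [Module.supportDim_quotient_eq_ringKrullDim, hd]) fun d' _ M => top_spec hω' (isNormalized_deg hω q) d' M
  rw [← ((addLin (Dual.inD (Loc q) (Loc q ⧸ p.asIdeal.map (algebraMap A (Loc q)))) (loc ω q) (deg hω q) (-(d : ℤ))
    (deg hω q - d) (by ring)).trans (exQuotBC (B := Loc q) hω p.asIdeal (deg hω q - d)).symm).symm.support_eq] at h
  have hp : PrimeSpectrum.comap (algebraMap A (Loc q))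
      ⟨p.asIdeal.map (algebraMap A (Loc q)), ‹_›⟩ = p := PrimeSpectrum.ext
    (IsLocalization.under_map_of_isPrime_disjoint q.asIdeal.primeCompl (Loc q) p.2 hdisj)
  have h' := comap_mem_support h
  rw [hp] at h'
  exact ((mem_support_iff_deg hω p _).1 h').symm

end Groth.Agent.H4DR.Dualizing
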