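import Groth.Agent.H4DR.Dualizing.FiniteMap
import Groth.Agent.H4DR.Dualizing.Gorenstein
import Groth.Agent.H4DR.Dualizing.Pointwise
import Groth.Agent.H4DR.Ext.Point
import Groth.Agent.H4DR.Dualizing.Prime
import Groth.Agent.H02CA.GorFlatLocal
import Groth.Agent.H4DR.Dualizing.Dimension
import Mathlib.RingTheory.KrullDimension.Polynomial
import Mathlib.RingTheory.Ideal.Quotient.Operations

/-!
# Dualizing complexes along maps with Gorenstein fibres
-/

set_option autoImplicit false
set_option linter.style.haveILetI false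
set_option linter.unusedVariables false

universe u

open CategoryTheory CategoryTheory.Limits Pretriangulated TensorProduct
open Groth.Agent.H4DR.Ext (Ex exCongr preIso postIso)
open Groth.Agent.H26Dual2 (TD reF)

attribute [local instance] HasDerivedCategory.standard

namespace Groth.Agent.H4DR.Dualizing

variable {L F : Type u} [CommRing L] [CommRing F]

/-- If `Ext_L(F, W)` is `F` in one degree then `RHom_L(F, W)` is a shift of `F`. -/
theorem nonempty_rightAdjoint_single (ψ : L →+* F) (hs : Function.Surjective ψ)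
    [(TD ψ).IsLeftAdjoint] (W : Dual.D L) (c : ℤ)
    (hvan : letI := Module.compHom F ψ; ∀ i : ℤ, i ≠ c → Subsingleton (Ex (Dual.inD L F) W i))
    (hc : letI := Module.compHom F ψ; Nonempty (Ex (Dual.inD L F) W c ≃ₗ[L] F)) :
    Nonempty ((TD ψ).rightAdjoint.obj W ≅ (Dual.inD F F)⟦-c⟧) := by
  let adj : DRing.restrictD ψ ⊣ _ := Adjunction.ofIsLeftAdjoint (TD ψ)
  let R := (TD ψ).rightAdjoint
  letI iF : Module L F := Module.compHom F ψ
  let r : ∀ (M : Type u) [AddCommGroup M] [Module F M], letI := Module.compHom M ψ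
      ((DRing.restrictD ψ).obj (Dual.inD F M)) ≅ Dual.inD L M := fun M _ _ =>
    ((reF ψ).mapDerivedCategorySingleFunctor 0).app (ModuleCat.of F M)
  let T : ∀ (M : Type u) [AddCommGroup M] [Module F M] (i : ℤ), letI := Module.compHom M ψ
      Ex (Dual.inD F M) (R.obj W) i ≃+ Ex (Dual.inD L M) W i := fun M _ _ i =>
    letI := Module.compHom M ψ
    { (exAdj adj (Dual.inD F M) W i).trans (Iso.homFromEquiv (r M)) with
      map_add' := fun f g => by
        show (r M).inv ≫ ((adj.homEquiv _ _).symm ((f + g) ≫ _)) =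
          (r M).inv ≫ ((adj.homEquiv _ _).symm (f ≫ _)) + (r M).inv ≫ ((adj.homEquiv _ _).symm (g ≫ _))
        haveI : (DRing.restrictD ψ).Additive := inferInstance
        simp only [Adjunction.homEquiv_counit, Preadditive.add_comp, Functor.map_add, Preadditive.comp_add] }
  have hT : ∀ (M : Type u) [AddCommGroup M] [Module F M] (i : ℤ) (a : L) (f : Ex (Dual.inD F M) (R.obj W) i),
      T M i (ψ a • f) = a • T M i f := fun M _ _ i a f => by
    letI := Module.compHom M ψ
    show (r M).inv ≫ exAdj adj _ W i (ψ a • f) = a • ((r M).inv ≫ exAdj adj _ W i f)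
    rw [exAdj_smul, Linear.comp_smul]
  have hHD : ∀ i, i ≠ c → Subsingleton (Dual.HD F (R.obj W) i) := fun i hi => by
    haveI := hvan i hi
    haveI : Subsingleton (Ex (Dual.inD F F) (R.obj W) i) := (T F i).injective.subsingleton
    exact (Ext.evalEquiv (R.obj W) i).symm.injective.subsingleton
  obtain ⟨ec⟩ := hc
  let g : Dual.HD F (R.obj W) c ≃+ F :=
    (Ext.evalEquiv (R.obj W) c).symm.toAddEquiv.trans ((T F c).trans ec.toAddEquiv)
  let gF : Dual.HD F (R.obj W) c ≃ₗ[F] F :=
    { g with
      map_smul' := fun b x => by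
        obtain ⟨a, rfl⟩ := hs b
        show g (ψ a • x) = ψ a * g x
        show ec (T F c ((Ext.evalEquiv (R.obj W) c).symm (ψ a • x))) = _
        rw [map_smul, hT, map_smul]
        rfl }
  obtain ⟨eR⟩ := nonempty_iso_single c hHD gF
  exact ⟨eR⟩

/-- If `Ext_L(F, W)` is `F` in one degree and `F` is Gorenstein then `W` is dualizing. -/
theorem isDualizing_of_quotient [IsLocalRing L] [IsNoetherianRing L] (ψ : L →+* F) (hs : Function.Surjective ψ)
    [LocCoh.IsGorensteinLocalRing F] (W : Dual.D L) (hfin : ∀ i : ℤ, Module.Finite L (Dual.HD L W i))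
    (hbdd : ∃ a : ℤ, ∀ i : ℤ, i < a → Subsingleton (Dual.HD L W i)) (c : ℤ)
    (hvan : letI := Module.compHom F ψ; ∀ i : ℤ, i ≠ c → Subsingleton (Ex (Dual.inD L F) W i))
    (hc : letI := Module.compHom F ψ; Nonempty (Ex (Dual.inD L F) W c ≃ₗ[L] F)) :
    Dual.IsDualizing L W := by
  have hψ : ψ.Finite := RingHom.Finite.of_surjective ψ hs
  haveI : IsLocalRing F := inferInstance
  haveI : IsNoetherianRing F := inferInstance
  haveI := H26Dual2.isLeftAdjoint_TD ψ
  let adj : DRing.restrictD ψ ⊣ _ := Adjunction.ofIsLeftAdjoint (TD ψ)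
  let R := (TD ψ).rightAdjoint
  letI iF : Module L F := Module.compHom F ψ
  let r : ∀ (M : Type u) [AddCommGroup M] [Module F M], letI := Module.compHom M ψ
      ((DRing.restrictD ψ).obj (Dual.inD F M)) ≅ Dual.inD L M := fun M _ _ =>
    ((reF ψ).mapDerivedCategorySingleFunctor 0).app (ModuleCat.of F M)
  let T : ∀ (M : Type u) [AddCommGroup M] [Module F M] (i : ℤ), letI := Module.compHom M ψ
      Ex (Dual.inD F M) (R.obj W) i ≃+ Ex (Dual.inD L M) W i := fun M _ _ i =>
    letI := Module.compHom M ψ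
    { (exAdj adj (Dual.inD F M) W i).trans (Iso.homFromEquiv (r M)) with
      map_add' := fun f g => by
        show (r M).inv ≫ ((adj.homEquiv _ _).symm ((f + g) ≫ _)) =
          (r M).inv ≫ ((adj.homEquiv _ _).symm (f ≫ _)) + (r M).inv ≫ ((adj.homEquiv _ _).symm (g ≫ _))
        haveI : (DRing.restrictD ψ).Additive := inferInstance
        simp only [Adjunction.homEquiv_counit, Preadditive.add_comp, Functor.map_add, Preadditive.comp_add] }
  have hT : ∀ (M : Type u) [AddCommGroup M] [Module F M] (i : ℤ) (a : L) (f : Ex (Dual.inD F M) (R.obj W) i),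
      T M i (ψ a • f) = a • T M i f := fun M _ _ i a f => by
    letI := Module.compHom M ψ
    show (r M).inv ≫ exAdj adj _ W i (ψ a • f) = a • ((r M).inv ≫ exAdj adj _ W i f)
    rw [exAdj_smul, Linear.comp_smul]
  obtain ⟨eR⟩ := nonempty_rightAdjoint_single ψ hs W c hvan hc
  obtain ⟨N, hN⟩ := (inferInstance : LocCoh.IsGorensteinLocalRing F).exists_hasInjectiveDimensionLT
  have hRW : Dual.IsDualizing F (R.obj W) :=
    isDualizing_of_iso eR.symm (isDualizing_shift (isDualizing_inD_self N) (-c))
  obtain ⟨d, hd0, ⟨ed⟩⟩ := exists_degree hRW (IsLocalRing.maximalIdeal F)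
  let K := F ⧸ IsLocalRing.maximalIdeal F
  letI iK : Module L K := Module.compHom K ψ
  have hker : IsLocalRing.maximalIdeal L ≤ LinearMap.ker (LinearMap.toSpanSingleton L K (Ideal.Quotient.mk _ 1)) :=
    fun a ha => by
      show ψ a • (Ideal.Quotient.mk (IsLocalRing.maximalIdeal F) 1) = 0
      rw [← Ideal.Quotient.mk_eq_mk, ← Submodule.Quotient.mk_smul, Submodule.Quotient.mk_eq_zero, smul_eq_mul, mul_one]
      exact (IsLocalHom.of_surjective ψ hs).map_nonunit a |> fun h => fun hu => ha (h hu)
  let κ : (L ⧸ IsLocalRing.maximalIdeal L) →ₗ[L] K := Submodule.liftQ _ _ hker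
  have hκ : Function.Bijective κ := by
    refine ⟨(injective_iff_map_eq_zero _).2 fun x hx => ?_, fun y => ?_⟩
    · obtain ⟨a, rfl⟩ := Submodule.Quotient.mk_surjective _ x
      refine (Submodule.Quotient.mk_eq_zero _).2 fun hu => ?_
      have h1 : ψ a • (Ideal.Quotient.mk (IsLocalRing.maximalIdeal F) 1) = 0 := hx
      rw [← Ideal.Quotient.mk_eq_mk, ← Submodule.Quotient.mk_smul, Submodule.Quotient.mk_eq_zero, smul_eq_mul,
        mul_one] at h1
      exact h1 (hu.map ψ)
    · obtain ⟨b, rfl⟩ := Ideal.Quotient.mk_surjective y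
      obtain ⟨a, rfl⟩ := hs b
      exact ⟨Submodule.Quotient.mk a, by
        show ψ a • (Ideal.Quotient.mk (IsLocalRing.maximalIdeal F) 1) = _
        rw [← Ideal.Quotient.mk_eq_mk, ← Submodule.Quotient.mk_smul, smul_eq_mul, mul_one, Ideal.Quotient.mk_eq_mk]⟩
  let eκ : ∀ i, Ex (Dual.inD L (L ⧸ IsLocalRing.maximalIdeal L)) W i ≃ₗ[L] Ex (Dual.inD L K) W i := fun i =>
    (exCongr (LinearEquiv.ofBijective κ hκ) _).symm
  refine isDualizing_of_residueField W hfin hbdd d (fun i hi => ?_) ⟨?_⟩
  · haveI := hd0 i hi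
    haveI : Subsingleton (Ex (Dual.inD L K) W i) := (T K i).symm.injective.subsingleton
    exact (eκ i).injective.subsingleton
  · let t : Ex (Dual.inD L K) W d ≃+ K := (T K d).symm.trans ed.toAddEquiv
    let tL : Ex (Dual.inD L K) W d ≃ₗ[L] K :=
      { t with
        map_smul' := fun a x => by
          obtain ⟨y, rfl⟩ := (T K d).surjective x
          show ed ((T K d).symm (a • T K d y)) = ψ a • ed ((T K d).symm (T K d y))
          rw [← hT, AddEquiv.symm_apply_apply, AddEquiv.symm_apply_apply, map_smul] }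
    exact (eκ d).trans (tL.trans (LinearEquiv.ofBijective κ hκ).symm)

/-- If `W` is dualizing and `Ext_L(F, W)` is `F` in one degree then `F` is Gorenstein. -/
theorem isGorenstein_of_quotient [IsNoetherianRing L] [IsLocalRing F] (ψ : L →+* F) (hs : Function.Surjective ψ)
    (W : Dual.D L) (hW : Dual.IsDualizing L W) (c : ℤ)
    (hvan : letI := Module.compHom F ψ; ∀ i : ℤ, i ≠ c → Subsingleton (Ex (Dual.inD L F) W i))
    (hc : letI := Module.compHom F ψ; Nonempty (Ex (Dual.inD L F) W c ≃ₗ[L] F)) :
    LocCoh.IsGorensteinLocalRing F := by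
  haveI : IsNoetherianRing F := isNoetherianRing_of_surjective L F ψ hs
  haveI := H26Dual2.isLeftAdjoint_TD ψ
  obtain ⟨eR⟩ := nonempty_rightAdjoint_single ψ hs W c hvan hc
  exact isGorenstein_of_isDualizing_inD (isDualizing_of_iso
    (((shiftFunctor (Dual.D F) c).mapIso eR) ≪≫ (shiftFunctorCompIsoId (Dual.D F) (-c) c (neg_add_cancel c)).app _)
    (isDualizing_shift (isDualizing_rightAdjoint (Adjunction.ofIsLeftAdjoint (TD ψ)) (RingHom.Finite.of_surjective ψ hs) hW) c))

end Groth.Agent.H4DR.Dualizing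

namespace Groth.Agent.H4DR.Dualizing

open Groth.Agent.H4DR.FlatBC (F FD exBC hBC toFₗ)

variable {A B : Type u} [CommRing A] [CommRing B] [Algebra A B] [Module.Flat A B]
  [IsNoetherianRing A] [IsNoetherianRing B] {ω : Dual.D A}

/-- The local ring of the fibre at `q`. -/
abbrev FibreLoc (A : Type u) {B : Type u} [CommRing A] [CommRing B] [Algebra A B] (q : PrimeSpectrum B) : Type u :=
  Loc q ⧸ ((PrimeSpectrum.comap (algebraMap A B) q).asIdeal.map (algebraMap A B)).map (algebraMap B (Loc q))

/-- `Ext(F, ω_q)` for the local ring `F` of the fibre at `q` is `F` in the degree of the prime below. -/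
theorem exists_fibre_ex (hω : Dual.IsDualizing A ω) (q : PrimeSpectrum B) :
    (∀ i : ℤ, i ≠ deg hω (PrimeSpectrum.comap (algebraMap A B) q) →
      Subsingleton (Ex (Dual.inD (Loc q) (FibreLoc A q)) (loc ((FD A B).obj ω) q) i)) ∧
      Nonempty (Ex (Dual.inD (Loc q) (FibreLoc A q)) (loc ((FD A B).obj ω) q)
        (deg hω (PrimeSpectrum.comap (algebraMap A B) q)) ≃ₗ[Loc q] FibreLoc A q) := by
  obtain ⟨a, b, hab⟩ := exists_bounds hω
  let L := Loc q
  let p : PrimeSpectrum A := PrimeSpectrum.comap (algebraMap A B) q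
  haveI : Module.Flat B L := IsLocalization.flat L q.asIdeal.primeCompl
  haveI : IsNoetherianRing L := IsLocalization.isNoetherianRing q.asIdeal.primeCompl L ‹_›
  haveI : Module.Flat A (Loc p) := IsLocalization.flat (Loc p) p.asIdeal.primeCompl
  haveI : IsNoetherianRing (Loc p) := IsLocalization.isNoetherianRing p.asIdeal.primeCompl (Loc p) ‹_›
  let J : Ideal B := p.asIdeal.map (algebraMap A B)
  have hlow : ∀ j : ℤ, j < a → Subsingleton (Dual.HD B ((FD A B).obj ω) j) := fun j hj =>
    FlatBC.subsingleton_HD_FD (hab j (Or.inl hj))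
  let M : ℤ → Type (u + 1) := fun j => Ex (Dual.inD A (A ⧸ p.asIdeal)) ω j
  let e : ∀ j : ℤ, L ⊗[B] (B ⊗[A] M j) ≃ₗ[L]
      Ex (Dual.inD L (FibreLoc A q)) (loc ((FD A B).obj ω) q) j := fun j =>
    (AlgebraTensorModule.congr (LinearEquiv.refl L L) (exQuotBC (B := B) hω p.asIdeal j)).trans
    (((FlatBC.exBC (FlatBC.bij_module_of_bounded (B := L) (W := ((FD A B).obj ω)⟦j⟧) (a := a - j)
        (FlatBC.subsingleton_HD_shift hlow j) (B ⧸ J))).trans
      (preIso (((F B L).mapDerivedCategorySingleFunctor 0).app (ModuleCat.of B (B ⧸ J))).symm _)).trans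
      (exCongr ((Algebra.TensorProduct.quotIdealMapEquivTensorQuot L J).toLinearEquiv.trans
        (toFₗ L (ModuleCat.of B (B ⧸ J)))) _))
  refine ⟨fun j hj => ?_, ?_⟩
  · haveI : Subsingleton (L ⊗[B] (B ⊗[A] M j)) := by
      refine not_nontrivial_iff_subsingleton.1 fun hne => ?_
      exact hj ((mem_support_iff_deg hω p j).1 (comap_mem_support ((mem_support_iff_nontrivial q _).2 hne)))
    exact (e j).symm.injective.subsingleton
  · let c := deg hω p
    have hloc := isDualizing_loc hω p
    let em : Loc p ⊗[A] M c ≃ₗ[Loc p] Ex (Dual.inD (Loc p) (Loc p ⧸ IsLocalRing.maximalIdeal (Loc p))) (loc ω p) c :=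
      (exQuotBC (B := Loc p) hω p.asIdeal c).trans
        (exCongr (Ideal.quotientEquivAlgOfEq (Loc p) Localization.AtPrime.map_eq_maximalIdeal.symm).toLinearEquiv _)
    obtain ⟨d, hd0, ⟨ed⟩⟩ := exists_degree hloc (IsLocalRing.maximalIdeal (Loc p))
    obtain rfl : d = c := by
      by_contra hne
      haveI := hd0 c (Ne.symm hne)
      haveI : Nontrivial (Loc p ⊗[A] M c) := (mem_support_iff_nontrivial p _).1 ((mem_support_iff_deg hω p c).2 rfl)
      haveI := em.injective.nontrivial
      exact not_subsingleton _ ‹Subsingleton (Ex (Dual.inD (Loc p) (Loc p ⧸ IsLocalRing.maximalIdeal (Loc p))) (loc ω p) c)›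
    letI algP : Algebra (Loc p) L := (Localization.localRingHom p.asIdeal q.asIdeal (algebraMap A B) rfl).toAlgebra
    haveI : IsScalarTower A (Loc p) L := IsScalarTower.of_algebraMap_eq fun x =>
      ((Localization.localRingHom_to_map p.asIdeal q.asIdeal (algebraMap A B) rfl x).trans
        (IsScalarTower.algebraMap_apply A B L x).symm).symm
    have hJ : (IsLocalRing.maximalIdeal (Loc p)).map (algebraMap (Loc p) L) = J.map (algebraMap B L) := by
      rw [← Localization.AtPrime.map_eq_maximalIdeal, Ideal.map_map, Ideal.map_map, ← IsScalarTower.algebraMap_eq,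
        ← IsScalarTower.algebraMap_eq]
    exact ⟨((e c).symm.trans ((AlgebraTensorModule.cancelBaseChange A B L L (M c)).trans
      (AlgebraTensorModule.cancelBaseChange A (Loc p) L L (M c)).symm)).trans
      ((AlgebraTensorModule.congr (LinearEquiv.refl L L) (em.trans ed)).trans
        ((Algebra.TensorProduct.quotIdealMapEquivTensorQuot L (IsLocalRing.maximalIdeal (Loc p))).symm.toLinearEquiv.trans
          (Ideal.quotientEquivAlgOfEq L hJ).toLinearEquiv))⟩

omit [Module.Flat A B] [IsNoetherianRing A] [IsNoetherianRing B] in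
theorem isGorensteinLocalRing_fibreLoc (q : PrimeSpectrum B)
    (hG : LocCoh.IsGorensteinRing ((PrimeSpectrum.comap (algebraMap A B) q).asIdeal.Fiber B)) :
    LocCoh.IsGorensteinLocalRing (FibreLoc A q) := by
  let p : PrimeSpectrum A := PrimeSpectrum.comap (algebraMap A B) q
  let Q := PrimeSpectrum.preimageEquivFiber A B p ⟨q, rfl⟩
  have hQ : Q.asIdeal.comap Algebra.TensorProduct.includeRight = q.asIdeal :=
    congr($((PrimeSpectrum.preimageEquivFiber A B p).left_inv ⟨q, rfl⟩).1.asIdeal)
  have key : ∀ (r : Ideal B) [r.IsPrime], Q.asIdeal.comap Algebra.TensorProduct.includeRight = r →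
      LocCoh.IsGorensteinLocalRing
        (Localization.AtPrime r ⧸ (p.asIdeal.map (algebraMap A B)).map (algebraMap B (Localization.AtPrime r))) := by
    intro r _ hr
    subst hr
    set r := Q.asIdeal.comap Algebra.TensorProduct.includeRight with hr'
    haveI : r.LiesOver p.asIdeal :=
      ⟨congr($(((PrimeSpectrum.preimageEquivFiber A B p).symm ⟨Q.asIdeal, inferInstance⟩).2.symm).asIdeal)⟩
    letI := Localization.AtPrime.algebraOfLiesOver p.asIdeal r
    have heq : p.asIdeal.map (algebraMap A (Localization.AtPrime r)) =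
        (p.asIdeal.map (algebraMap A B)).map (algebraMap B (Localization.AtPrime r)) := by
      rw [Ideal.map_map, ← IsScalarTower.algebraMap_eq]
    exact (H02CA.GorFlat.gor_iff_of_ringEquiv ((Ideal.Fiber.localizationAlgEquivQuotient p.asIdeal Q.asIdeal).toRingEquiv.trans
      (Ideal.quotEquivOfEq heq))).1 (hG.isGorensteinLocalRing_localization _)
  exact key q.asIdeal hQ

/-- The restriction of scalars along a quotient map is the quotient module. -/
noncomputable def compHomEquiv {R : Type u} [CommRing R] (K : Ideal R) :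
    letI := Module.compHom (R ⧸ K) (Ideal.Quotient.mk K)
    @LinearEquiv R R _ _ (RingHom.id R) (RingHom.id R) _ _ (R ⧸ K) (R ⧸ K) _ _
      (Module.compHom (R ⧸ K) (Ideal.Quotient.mk K)) (Submodule.Quotient.module K) :=
  letI := Module.compHom (R ⧸ K) (Ideal.Quotient.mk K)
  { AddEquiv.refl (R ⧸ K) with
    map_smul' := fun r x => by
      obtain ⟨x, rfl⟩ := Ideal.Quotient.mk_surjective x
      rfl }

theorem isDualizing_loc_FD_of_fibre (hω : Dual.IsDualizing A ω) (q : PrimeSpectrum B)
    (hG : LocCoh.IsGorensteinRing ((PrimeSpectrum.comap (algebraMap A B) q).asIdeal.Fiber B)) :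
    Dual.IsDualizing (Loc q) (loc ((FD A B).obj ω) q) := by
  obtain ⟨a, b, hab⟩ := exists_bounds hω
  haveI : Module.Flat B (Loc q) := IsLocalization.flat (Loc q) q.asIdeal.primeCompl
  haveI : IsNoetherianRing (Loc q) := IsLocalization.isNoetherianRing q.asIdeal.primeCompl (Loc q) ‹_›
  haveI := isGorensteinLocalRing_fibreLoc q hG
  obtain ⟨hv, ⟨e⟩⟩ := exists_fibre_ex hω q
  let K := ((PrimeSpectrum.comap (algebraMap A B) q).asIdeal.map (algebraMap A B)).map (algebraMap B (Loc q))
  refine isDualizing_of_quotient (Ideal.Quotient.mk K) Ideal.Quotient.mk_surjective _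
    (FlatBC.finite_HD_FD (FlatBC.finite_HD_FD hω.finite_cohomology))
    ⟨a, fun i hi => FlatBC.subsingleton_HD_FD (FlatBC.subsingleton_HD_FD (hab i (Or.inl hi)))⟩
    (deg hω (PrimeSpectrum.comap (algebraMap A B) q)) (fun i hi => ?_) ?_
  · haveI := hv i hi
    exact (exCongr (compHomEquiv K) _).symm.injective.subsingleton
  · exact ⟨((exCongr (compHomEquiv K) _).symm.trans e).trans (compHomEquiv K).symm⟩

end Groth.Agent.H4DR.Dualizing

namespace Groth.Agent.H4DR.Dualizing

open Groth.Agent.H4DR.FlatBC (FD)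

variable {A B : Type u} [CommRing A] [CommRing B] [Algebra A B] [IsNoetherianRing A] [IsNoetherianRing B]
  {ω : Dual.D A}

/-- Flat base change of a dualizing complex along a map with Gorenstein fibres. -/
theorem isDualizing_FD_of_fibres [Module.Flat A B] (hω : Dual.IsDualizing A ω) (hdim : ringKrullDim B < ⊤)
    (hG : ∀ p : PrimeSpectrum A, LocCoh.IsGorensteinRing (p.asIdeal.Fiber B)) :
    Dual.IsDualizing B ((FD A B).obj ω) := by
  obtain ⟨a, b, hab⟩ := exists_bounds hω
  exact isDualizing_of_pointwise hdim _ (FlatBC.finite_HD_FD hω.finite_cohomology)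
    ⟨a, fun i hi => FlatBC.subsingleton_HD_FD (hab i (Or.inl hi))⟩
    fun q => isDualizing_loc_FD_of_fibre hω q (hG _)

omit [IsNoetherianRing B] in
theorem ringKrullDim_lt_top_of_finiteType [Algebra.FiniteType A B] (h : ringKrullDim A < ⊤) :
    ringKrullDim B < ⊤ := by
  obtain ⟨n, f, hf⟩ := Algebra.FiniteType.iff_quotient_mvPolynomial''.1 ‹Algebra.FiniteType A B›
  refine (ringKrullDim_le_of_surjective f.toRingHom hf).trans_lt ?_
  rw [MvPolynomial.ringKrullDim_of_isNoetherianRing, Nat.card_eq_fintype_card, Fintype.card_fin]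
  generalize ringKrullDim A = s at h
  induction s using WithBot.recBotCoe with
  | bot => simp
  | coe s =>
    induction s using ENat.recTopCoe with
    | top => exact absurd h (lt_irrefl _)
    | coe m =>
      show ((m : ℕ∞) : WithBot ℕ∞) + ((n : ℕ∞) : WithBot ℕ∞) < ⊤
      rw [← WithBot.coe_add, ← Nat.cast_add]
      exact WithBot.coe_lt_coe.2 (ENat.natCast_lt_top _)

omit [IsNoetherianRing B] in
/-- Descent of dualizing complexes along a faithfully flat map. -/
theorem isDualizing_of_FD [Module.FaithfullyFlat A B] {K : Dual.D A} (hK' : Dual.IsDualizing B ((FD A B).obj K)) :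
    Dual.IsDualizing A K := by
  have hB := FlatBC.jFaithful_faithfullyFlat (A := A) B
  obtain ⟨a, b, hab⟩ := exists_bounds hK'
  obtain ⟨c, d, hcd⟩ := hK'.finite_injective_dimension
  have hbd : ∀ i : ℤ, (i < a ∨ b < i) → Subsingleton (Dual.HD A K i) := fun i hi =>
    FlatBC.subsingleton_HD_of_family _ hB fun _ => hab i hi
  have hfin : ∀ i : ℤ, Module.Finite A (Dual.HD A K i) := fun i =>
    FlatBC.finite_of_family _ hB _ fun _ =>
      haveI := hK'.finite_cohomology i
      Module.Finite.equiv (FlatBC.hBC B i K)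
  have hamp := FlatBC.injAmp_descent (a := c) (b := d) _ hB (fun j hj => hbd j (Or.inl hj))
    fun _ M _ _ i hi => hcd M i hi
  exact FlatBC.isDualizing_descent _ hB hfin ⟨a, b, hbd⟩ (fun _ => hK')
    ⟨c, d, fun M _ _ i hi => Ext.subsingleton_inD_of_injAmp hamp M hi⟩

theorem lbase_iff_of_fibres [Module.FaithfullyFlat A B] [Algebra.FiniteType A B]
    [DRing.HasLBaseChange (algebraMap A B)]
    (hG : ∀ p : PrimeSpectrum A, LocCoh.IsGorensteinRing (p.asIdeal.Fiber B)) (K : Dual.D A) :
    Dual.IsDualizing A K ↔ Dual.IsDualizing B ((DRing.LBaseChange (algebraMap A B)).obj K) :=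
  ⟨fun hK => isDualizing_of_iso (FlatBC.lbaseIso K).symm
      (isDualizing_FD_of_fibres hK (ringKrullDim_lt_top_of_finiteType (ringKrullDim_lt_top hK)) hG),
    fun hK => isDualizing_of_FD (isDualizing_of_iso (FlatBC.lbaseIso K) hK)⟩

end Groth.Agent.H4DR.Dualizing

namespace Groth.Agent.H4DR.Dualizing

open Groth.Agent.H4DR.FlatBC (FD)

variable {A B : Type u} [CommRing A] [CommRing B] [Algebra A B] [Module.Flat A B]
  [IsNoetherianRing A] [IsNoetherianRing B] {ω : Dual.D A}

/-- If the base change of a dualizing complex is dualizing then the fibres are Gorenstein. -/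
theorem isGorensteinRing_fibre_of_dualizing (hω : Dual.IsDualizing A ω) (hB : Dual.IsDualizing B ((FD A B).obj ω))
    (p : PrimeSpectrum A) [IsNoetherianRing (p.asIdeal.Fiber B)] :
    LocCoh.IsGorensteinRing (p.asIdeal.Fiber B) :=
  { isGorensteinLocalRing_localization := fun Q _ => by
      let r := Q.comap Algebra.TensorProduct.includeRight
      haveI : r.LiesOver p.asIdeal :=
        ⟨congr($(((PrimeSpectrum.preimageEquivFiber A B p).symm ⟨Q, inferInstance⟩).2.symm).asIdeal)⟩
      letI := Localization.AtPrime.algebraOfLiesOver p.asIdeal r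
      let q : PrimeSpectrum B := ⟨r, inferInstance⟩
      have heq : p.asIdeal.map (algebraMap A (Localization.AtPrime r)) =
          ((PrimeSpectrum.comap (algebraMap A B) q).asIdeal.map (algebraMap A B)).map
            (algebraMap B (Localization.AtPrime r)) := by
        rw [Ideal.map_map, ← IsScalarTower.algebraMap_eq]
        exact congrArg (fun I => Ideal.map _ I) (Ideal.LiesOver.over (P := r) (p := p.asIdeal))
      let e := (Ideal.Fiber.localizationAlgEquivQuotient p.asIdeal Q).toRingEquiv.trans (Ideal.quotEquivOfEq heq)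
      haveI : IsNoetherianRing (Loc q) := IsLocalization.isNoetherianRing q.asIdeal.primeCompl (Loc q) ‹_›
      haveI : IsLocalRing (FibreLoc A q) := e.isLocalRing
      obtain ⟨hv, ⟨ex⟩⟩ := exists_fibre_ex hω q
      let K := ((PrimeSpectrum.comap (algebraMap A B) q).asIdeal.map (algebraMap A B)).map (algebraMap B (Loc q))
      refine (H02CA.GorFlat.gor_iff_of_ringEquiv e).2 (isGorenstein_of_quotient (Ideal.Quotient.mk K)
        Ideal.Quotient.mk_surjective _ (isDualizing_loc hB q) (deg hω (PrimeSpectrum.comap (algebraMap A B) q))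
        (fun i hi => ?_) ⟨((exCongr (compHomEquiv K) _).symm.trans ex).trans (compHomEquiv K).symm⟩)
      haveI := hv i hi
      exact (exCongr (compHomEquiv K) _).symm.injective.subsingleton }

end Groth.Agent.H4DR.Dualizing
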