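import Groth.Agent.H4DR.Dualizing.Biduality
import Groth.Agent.H4DR.Ext.LocalDevissage

/-!
# The residue field criterion for dualizing complexes
-/

set_option autoImplicit false
set_option linter.style.haveILetI false
set_option linter.unusedVariables false

universe u

open CategoryTheory CategoryTheory.Limits Pretriangulated
open Groth.Agent.H4DR.DComplete (coind hQ)
open Groth.Agent.H4DR.Ext (Ex pre preIso postIso)
open Groth.Agent.H4DR.RHom (cls exists_cls cls_eq_zero_iff)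

attribute [local instance] HasDerivedCategory.standard

namespace Groth.Agent.H4DR.Dualizing

variable {A : Type u} [CommRing A]

theorem exists_injRep {K : Dual.D A} (h : Ext.FID K) :
    ∃ (E : DRing.Cx A) (a b : ℤ), DRing.VanishesOutside E a b ∧ DRing.TermwiseInjective E ∧
      Nonempty (DRing.toD E ≅ K) := by
  obtain ⟨a, b, E, hv, hE, he⟩ := Ext.fid_iff.1 h
  exact ⟨E, a, b, hv, hE, he⟩

variable {E : DRing.Cx A}

lemma finite_HD_of_iso {K L : Dual.D A} (e : K ≅ L) (h : ∀ i : ℤ, Module.Finite A (Dual.HD A L i)) (i : ℤ) :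
    Module.Finite A (Dual.HD A K i) :=
  haveI := h i
  Module.Finite.equiv (PCoh.hEquiv i e).symm

/-- `T E A i` is `Hom(E, E⟦i⟧)`. -/
noncomputable def selfEquiv (E : DRing.Cx A) {K : Dual.D A} (e : DRing.toD E ≅ K) (i : ℤ) : T E A i ≃ₗ[A] Ex K K i :=
  (preIso (DerivedCategory.Q.mapIso (coindSelf E)).symm _).trans
    ((preIso e.symm _).trans (postIso K ((shiftFunctor (Dual.D A) i).mapIso e)))

lemma selfEquiv_ev {K : Dual.D A} (e : DRing.toD E ≅ K) (a : A) :
    selfEquiv E e 0 (ev E A a) = a • (shiftFunctorZero (Dual.D A) ℤ).inv.app K := by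
  rw [show a = a • (1 : A) from (mul_one a).symm, map_smul, map_smul, show a • (1 : A) = a from mul_one a]
  refine congrArg (a • ·) ?_
  have h1 : (coindSelf E).inv ≫ evC E (ModuleCat.of A A) (1 : A) = 𝟙 E :=
    HomologicalComplex.hom_ext _ _ fun i => ModuleCat.hom_ext (LinearMap.ext fun (x : E.X i) =>
      (one_smul A x :))
  dsimp only [selfEquiv]
  simp [preIso, postIso, ev, Linear.homCongr_apply]
  rw [← DerivedCategory.Q.map_comp_assoc, h1, CategoryTheory.Functor.map_id, Category.id_comp]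
  have := (shiftFunctorZero (Dual.D A) ℤ).inv.naturality e.hom
  rw [Functor.id_map] at this
  rw [← this, Iso.inv_hom_id_assoc]

theorem isRefl_self_iff {K : Dual.D A} (e : DRing.toD E ≅ K) :
    IsRefl E A ↔ (Function.Bijective (fun a : A => a • 𝟙 K) ∧ ∀ i : ℤ, i ≠ 0 → Subsingleton (K ⟶ K⟦i⟧)) := by
  let φ : (K ⟶ K) ≃ₗ[A] Ex K K 0 := postIso K ((shiftFunctorZero (Dual.D A) ℤ).app K).symm
  have h1 : (selfEquiv E e 0) ∘ (ev E A) = φ ∘ (fun a : A => a • 𝟙 K) := funext fun a => by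
    show selfEquiv E e 0 (ev E A a) = φ (a • 𝟙 K)
    rw [selfEquiv_ev, map_smul]
    refine congrArg (a • ·) ?_
    simp [φ, postIso, Linear.homCongr_apply]
  constructor
  · intro h
    refine ⟨?_, fun i hi => haveI := h.van i hi; (selfEquiv E e i).symm.injective.subsingleton⟩
    have h2 := (selfEquiv E e 0).bijective.comp h.bij
    rw [h1] at h2
    exact (Function.Bijective.of_comp_iff' φ.bijective _).1 h2
  · rintro ⟨hb, hv⟩
    refine ⟨?_, fun i hi => haveI := hv i hi; (selfEquiv E e i).injective.subsingleton⟩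
    have h2 := φ.bijective.comp hb
    rw [← h1] at h2
    exact (Function.Bijective.of_comp_iff' (selfEquiv E e 0).bijective _).1 h2

theorem isRefl_self_of_isDualizing {K : Dual.D A} (h : Dual.IsDualizing A K) (e : DRing.toD E ≅ K) : IsRefl E A :=
  (isRefl_self_iff e).2 ⟨h.toEnd_bijective, h.ext_self_subsingleton⟩

theorem isDualizing_of_isRefl [IsNoetherianRing A] {a b : ℤ} (hv : DRing.VanishesOutside E a b)
    (hE : DRing.TermwiseInjective E) {K : Dual.D A} (e : DRing.toD E ≅ K)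
    (hfin : ∀ i : ℤ, Module.Finite A (Dual.HD A K i)) (hA : IsRefl E A) : Dual.IsDualizing A K where
  isNoetherianRing := inferInstance
  finite_injective_dimension := ⟨a, b, fun M _ _ i hi =>
    Ext.subsingleton_inD_of_injAmp ⟨E, hv, hE, ⟨e⟩⟩ M hi⟩
  finite_cohomology := hfin
  toEnd_bijective := ((isRefl_self_iff e).1 hA).1
  ext_self_subsingleton := ((isRefl_self_iff e).1 hA).2

/-- An object with cohomology in one degree. -/
theorem nonempty_iso_single {X : Dual.D A} (d : ℤ) (hX : ∀ j, j ≠ d → Subsingleton (Dual.HD A X j))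
    {Y : Type u} [AddCommGroup Y] [Module A Y] (eY : Dual.HD A X d ≃ₗ[A] Y) :
    Nonempty (X ≅ (Dual.inD A Y)⟦-d⟧) := by
  haveI : DerivedCategory.IsGE X d := (DerivedCategory.isGE_iff X d).2 fun i hi =>
    ModuleCat.isZero_of_iff_subsingleton.2 (hX i (by omega))
  haveI : DerivedCategory.IsLE X d := (DerivedCategory.isLE_iff X d).2 fun i hi =>
    ModuleCat.isZero_of_iff_subsingleton.2 (hX i (by omega))
  obtain ⟨Z, ⟨e⟩⟩ := DerivedCategory.exists_iso_singleFunctor_obj_of_isGE_of_isLE X d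
  let e' : X ≅ DRing.toD ((HomologicalComplex.single (ModuleCat.{u} A) (ComplexShape.up ℤ) d).obj Z) :=
    e ≪≫ (DerivedCategory.singleFunctorIsoCompQ (ModuleCat.{u} A) d).app Z
  let eZ : Y ≃ₗ[A] Z := eY.symm ≪≫ₗ PCoh.hEquiv d e' ≪≫ₗ
    ((DerivedCategory.homologyFunctorFactors (ModuleCat.{u} A) d).app _ ≪≫
      HomologicalComplex.singleObjHomologySelfIso _ _ _).toLinearEquiv
  exact ⟨e' ≪≫ PCoh.singleIso Z d ≪≫ (shiftFunctor (Dual.D A) (-d)).mapIso
    ((DerivedCategory.singleFunctor (ModuleCat.{u} A) 0).mapIso eZ.toModuleIso).symm⟩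

variable {a b : ℤ}

/-- If evaluation at `1` vanishes then every cocycle is a coboundary. -/
theorem exists_lift_of_ev_eq_zero [CochainComplex.IsKInjective E] (I : Ideal A) (h : ev E (A ⧸ I) (Ideal.Quotient.mk I 1) = 0)
    (j : ℤ) (z : (A ⧸ I) →ₗ[A] E.X j) (hz : (E.d j (j + 1)).hom ∘ₗ z = 0) :
    ∃ w : (A ⧸ I) →ₗ[A] E.X (j - 1), (E.d (j - 1) j).hom ∘ₗ w = z := by
  have h0 : DerivedCategory.Q.map (evC E (ModuleCat.of A (A ⧸ I)) (Ideal.Quotient.mk I 1)) = 0 :=
    (cancel_mono ((shiftFunctorZero (Dual.D A) ℤ).inv.app (DRing.toD E))).1 (h.trans zero_comp.symm)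
  obtain ⟨H⟩ := RHom.nonempty_homotopy_of_Q_map _ h0
  let mulc : (A ⧸ I) →ₗ[A] ((A ⧸ I) →ₗ[A] E.X j) := (LinearMap.llcomp A _ _ _ z) ∘ₗ LinearMap.mul A (A ⧸ I)
  refine ⟨(H.hom j (j - 1)).hom ∘ₗ mulc, LinearMap.ext fun c => ?_⟩
  have hc := congr($(H.comm j).hom (mulc c))
  have hd : ((coind (ModuleCat.of A (A ⧸ I)) E).d j (j + 1)).hom (mulc c) = 0 :=
    LinearMap.ext fun y => LinearMap.congr_fun hz (c * y)
  rw [dNext_eq _ (show (ComplexShape.up ℤ).Rel j (j + 1) by simp),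
    prevD_eq _ (show (ComplexShape.up ℤ).Rel (j - 1) j by simp)] at hc
  simp only [HomologicalComplex.zero_f, add_zero, ModuleCat.hom_add, ModuleCat.hom_comp] at hc
  refine Eq.trans ?_ (Eq.trans hc.symm (congrArg z (mul_one c)))
  refine Eq.symm ?_
  show ((H.hom (j + 1) j).hom (((coind (ModuleCat.of A (A ⧸ I)) E).d j (j + 1)).hom (mulc c)) : E.X j) + _ = _
  rw [hd, map_zero, zero_add]
  rfl

variable [IsLocalRing A] (hv : DRing.VanishesOutside E a b) (hE : DRing.TermwiseInjective E)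
include hv hE

theorem isRefl_residueField_of_ext (d : ℤ)
    (hvan : ∀ i : ℤ, i ≠ d → Subsingleton (Ex (Dual.inD A (A ⧸ IsLocalRing.maximalIdeal A)) (DRing.toD E) i))
    (hd : Nonempty (Ex (Dual.inD A (A ⧸ IsLocalRing.maximalIdeal A)) (DRing.toD E) d ≃ₗ[A]
      A ⧸ IsLocalRing.maximalIdeal A)) : IsRefl E (A ⧸ IsLocalRing.maximalIdeal A) := by
  obtain ⟨ed⟩ := hd
  haveI := Ext.isKInjective_of_vanishesOutside hv hE
  let m := IsLocalRing.maximalIdeal A
  let k := ModuleCat.of A (A ⧸ m)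
  let eH : ∀ j, Dual.HD A (DRing.toD (coind k E)) j ≃ₗ[A] Ex (Dual.inD A (A ⧸ m)) (DRing.toD E) j := fun j =>
    (hQ _ j).trans (exEquiv E k j).symm
  obtain ⟨eC⟩ := nonempty_iso_single d (fun j hj => haveI := hvan j hj; (eH j).injective.subsingleton)
    ((eH d).trans ed)
  let eT : ∀ i, T E (A ⧸ m) i ≃ₗ[A] Ex (Dual.inD A (A ⧸ m)) (DRing.toD E) (i + d) := fun i =>
    (preIso eC.symm _).trans (Ext.shiftSrc (Dual.inD A (A ⧸ m)) (DRing.toD E) (-d) (i + d) i (by omega)).symm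
  refine ⟨?_, fun i hi => haveI := hvan (i + d) (by omega); (eT i).injective.subsingleton⟩
  let e0 : T E (A ⧸ m) 0 ≃ₗ[A] A ⧸ m := (eT 0).trans ((LinearEquiv.cast (R := A)
    (M := fun i => Ex (Dual.inD A (A ⧸ m)) (DRing.toD E) i) (zero_add d)).trans ed)
  have hne : ev E (A ⧸ m) (Ideal.Quotient.mk m 1) ≠ 0 := fun h => by
    obtain ⟨z, hz, hzc⟩ := exists_cls (coind k E) d (exEquiv E k d (ed.symm (Ideal.Quotient.mk m 1)))
    obtain ⟨w, hw⟩ := exists_lift_of_ev_eq_zero m h d z hz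
    rw [(cls_eq_zero_iff _ _ z hz).2 ⟨w, hw⟩] at hzc
    have h1 : (Ideal.Quotient.mk m 1 : A ⧸ m) = 0 :=
      ed.symm.injective (((exEquiv E k d).injective (hzc.symm.trans (map_zero _).symm)).trans (map_zero _).symm)
    exact (IsLocalRing.maximalIdeal.isMaximal A).ne_top
      ((Ideal.eq_top_iff_one m).2 (Ideal.Quotient.eq_zero_iff_mem.1 h1))
  haveI : IsSimpleModule A (A ⧸ m) := isSimpleModule_iff_isCoatom.2
    (Ideal.isMaximal_def.1 (IsLocalRing.maximalIdeal.isMaximal A))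
  have h := LinearMap.bijective_of_ne_zero (f := e0.toLinearMap ∘ₗ ev E (A ⧸ m)) fun h0 =>
    hne (e0.injective ((LinearMap.congr_fun h0 (Ideal.Quotient.mk m 1)).trans (map_zero _).symm))
  exact (Function.Bijective.of_comp_iff' e0.bijective _).1 h

omit hv hE in
/-- The residue field criterion. -/
theorem isDualizing_of_residueField [IsNoetherianRing A] (R : Dual.D A) (hfin : ∀ i : ℤ, Module.Finite A (Dual.HD A R i))
    (hbdd : ∃ a : ℤ, ∀ i : ℤ, i < a → Subsingleton (Dual.HD A R i)) (d : ℤ)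
    (hvan : ∀ i : ℤ, i ≠ d → Subsingleton (Dual.inD A (IsLocalRing.ResidueField A) ⟶ R⟦i⟧))
    (hd : Nonempty ((Dual.inD A (IsLocalRing.ResidueField A) ⟶ R⟦d⟧) ≃ₗ[A] IsLocalRing.ResidueField A)) :
    Dual.IsDualizing A R := by
  obtain ⟨a, ha⟩ := hbdd
  have hamp : DRing.HasInjAmplitudeIn A a (max a d) R := Ext.injAmp_of_vanish R a (max a d) fun I i hi => by
    rcases hi with hi | hi
    · exact Ext.subsingleton_ex_low ha (A ⧸ I) i hi
    · exact Ext.subsingleton_ex_quotient hfin ha (fun i => max a d < i) (fun i hi => by omega)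
        (fun i hi => hvan i (by omega)) I i hi
  obtain ⟨E, hv, hE, ⟨e⟩⟩ := hamp
  have hH := finite_HD_of_iso e hfin
  let eX : ∀ i, Ex (Dual.inD A (A ⧸ IsLocalRing.maximalIdeal A)) (DRing.toD E) i ≃ₗ[A]
      Ex (Dual.inD A (IsLocalRing.ResidueField A)) R i := fun i =>
    postIso _ ((shiftFunctor (Dual.D A) i).mapIso e)
  obtain ⟨ed⟩ := hd
  have hk := isRefl_residueField_of_ext hv hE d (fun i hi => haveI := hvan i hi; (eX i).injective.subsingleton)
    ⟨(eX d).trans ed⟩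
  exact isDualizing_of_isRefl hv hE e hfin (isRefl_of_residueField hv hE hH hk A)

end Groth.Agent.H4DR.Dualizing
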