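import Groth.Agent.H4DR.Dualizing.Dimension
import Groth.Agent.H4Depth.SupportLoc

/-!
# The degrees in which `Ext^i(M, ω)` is supported at a prime
-/

set_option autoImplicit false
set_option linter.style.haveILetI false
set_option linter.unusedVariables false

universe u

open CategoryTheory CategoryTheory.Limits Pretriangulated TensorProduct
open Groth.Agent.H4DR.Ext (Ex addLin exCongr)
open Groth.Agent.H4DR.FlatBC (F FD toFₗ)

attribute [local instance] HasDerivedCategory.standard

namespace Groth.Agent.H4DR.Dualizing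

variable {A : Type u} [CommRing A] [IsNoetherianRing A] {ω : Dual.D A} (hω : Dual.IsDualizing A ω)
include hω

section

variable (M : Type u) [AddCommGroup M] [Module A M] [Module.Finite A M]

theorem mem_support_ex_iff (q : PrimeSpectrum A) (i : ℤ) :
    q ∈ Module.support A (Ex (Dual.inD A M) ω i) ↔
      Nontrivial (Ex (Dual.inD (Loc q) (LocalizedModule q.asIdeal.primeCompl M))
        ((loc ω q)⟦deg hω q⟧) (i - deg hω q)) := by
  haveI := IsLocalization.flat (Loc q) q.asIdeal.primeCompl
  rw [mem_support_iff_nontrivial, (exModuleBC (B := Loc q) hω M i).toEquiv.nontrivial_congr]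
  let e1 := exCongr (A := Loc q) ((LocalizedModule.equivTensorProduct q.asIdeal.primeCompl M).trans
    (toFₗ (Loc q) (ModuleCat.of A M))) ((loc ω q)⟦i⟧)
  let e2 := (addLin (Dual.inD (Loc q) (LocalizedModule q.asIdeal.primeCompl M)) (loc ω q) (deg hω q)
    (i - deg hω q) i (by ring)).symm
  exact (e1.trans e2).toEquiv.nontrivial_congr

theorem support_ex_subset (i : ℤ) : Module.support A (Ex (Dual.inD A M) ω i) ⊆ Module.support A M := fun q hq => by
  rw [mem_support_ex_iff hω M] at hq
  by_contra h
  haveI : Subsingleton (LocalizedModule q.asIdeal.primeCompl M) := Module.notMem_support_iff.1 h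
  exact not_subsingleton_iff_nontrivial.2 hq (Ext.subsingleton_ex_of_subsingleton _ _)

/-- The degrees at `q` lie between `deg q - dim M_q` and `deg q - depth M_q`, both attained. -/
theorem exists_interval (q : PrimeSpectrum A) (hq : q ∈ Module.support A M) :
    ∃ δ D : ℕ, LocCoh.depth (Loc q) (LocalizedModule q.asIdeal.primeCompl M) = δ ∧
      Module.supportDim (Loc q) (LocalizedModule q.asIdeal.primeCompl M) = D ∧ δ ≤ D ∧
      q ∈ Module.support A (Ex (Dual.inD A M) ω (deg hω q - δ)) ∧
      q ∈ Module.support A (Ex (Dual.inD A M) ω (deg hω q - D)) ∧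
      ∀ i, q ∈ Module.support A (Ex (Dual.inD A M) ω i) → deg hω q - D ≤ i ∧ i ≤ deg hω q - δ := by
  haveI : IsNoetherianRing (Loc q) := IsLocalization.isNoetherianRing q.asIdeal.primeCompl (Loc q) ‹_›
  haveI : Nontrivial (LocalizedModule q.asIdeal.primeCompl M) := Module.mem_support_iff.1 hq
  have hω' := isDualizing_shift (isDualizing_loc hω q) (deg hω q)
  have hn := isNormalized_deg hω q
  obtain ⟨D, hD⟩ := H4Depth.exists_nat_supportDim_eq (R := Loc q) (M := LocalizedModule q.asIdeal.primeCompl M)
  obtain ⟨δ, hδ⟩ := ENat.ne_top_iff_exists.1 (H4Depth.idealDepth_ne_top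
    (H4Depth.maximalIdeal_smul_top_ne_top (R := Loc q) (M := LocalizedModule q.asIdeal.primeCompl M)))
  have hδ' : LocCoh.depth (Loc q) (LocalizedModule q.asIdeal.primeCompl M) = δ := hδ.symm
  obtain ⟨hz, htop⟩ := depth_spec hω' hn δ _ hδ'
  have hdb := dimBound hω' hn (LocalizedModule q.asIdeal.primeCompl M)
  have hle : δ ≤ D := by
    have := ((hdb (-(δ : ℤ))).2 htop).1
    rw [hD, show (- -(δ : ℤ)).toNat = δ by simp] at this
    exact Nat.cast_le.1 this
  refine ⟨δ, D, hδ', hD, hle, ?_, ?_, fun i hi => ?_⟩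
  · rw [mem_support_ex_iff hω M, show deg hω q - δ - deg hω q = -(δ : ℤ) by ring]
    exact htop
  · rw [mem_support_ex_iff hω M, show deg hω q - D - deg hω q = -(D : ℤ) by ring]
    exact nontrivial_ex_top hω' hn _ D hD
  · rw [mem_support_ex_iff hω M] at hi
    obtain ⟨h1, h2⟩ := (hdb _).2 hi
    rw [hD] at h1
    have h1' := Nat.cast_le.1 h1
    refine ⟨by omega, ?_⟩
    by_contra hc
    refine not_subsingleton_iff_nontrivial.2 hi ?_
    have := hz (-(i - deg hω q)).toNat (by omega)
    rwa [show (-(((-(i - deg hω q)).toNat : ℕ) : ℤ)) = i - deg hω q by omega] at this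

omit [Module.Finite A M] in
/-- `dim M_q` bounds the drop of the degree along generizations in the support, and is attained. -/
theorem dim_localized_spec (q : PrimeSpectrum A) {D : ℕ}
    (hD : Module.supportDim (Loc q) (LocalizedModule q.asIdeal.primeCompl M) = D) :
    (∀ r ∈ Module.support A M, r ≤ q → deg hω q - deg hω r ≤ D) ∧
      ∃ r ∈ Module.support A M, r ≤ q ∧ deg hω q - deg hω r = D := by
  haveI : IsNoetherianRing (Loc q) := IsLocalization.isNoetherianRing q.asIdeal.primeCompl (Loc q) ‹_›
  have h1 : ∀ r ∈ Module.support A M, r ≤ q → deg hω q - deg hω r ≤ D := fun r hr hrq => by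
    obtain ⟨d, hd, he, -⟩ := exists_dim hω hrq
    have hdisj : Disjoint (q.asIdeal.primeCompl : Set A) (r.asIdeal : Set A) :=
      Set.disjoint_left.2 fun a ha hap => ha (hrq hap)
    haveI := IsLocalization.isPrime_of_isPrime_disjoint q.asIdeal.primeCompl (Loc q) r.asIdeal r.2 hdisj
    have hR : (⟨r.asIdeal.map (algebraMap A (Loc q)), ‹_›⟩ : PrimeSpectrum (Loc q)) ∈
        Module.support (Loc q) (LocalizedModule q.asIdeal.primeCompl M) := by
      rw [H4Depth.mem_support_localizedModule_iff q.asIdeal.primeCompl (Loc q) (LocalizedModule.mkLinearMap _ M),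
        show PrimeSpectrum.comap (algebraMap A (Loc q)) ⟨r.asIdeal.map (algebraMap A (Loc q)), ‹_›⟩ = r from
          PrimeSpectrum.ext (IsLocalization.under_map_of_isPrime_disjoint q.asIdeal.primeCompl (Loc q) r.2 hdisj)]
      exact hr
    have h2 := H4Depth.ringKrullDim_quotient_le_supportDim hR
    rw [hd, hD] at h2
    have := Nat.cast_le.1 h2
    omega
  refine ⟨h1, ?_⟩
  obtain ⟨P, hP, hPd⟩ := exists_prime_of_le_supportDim D hD.ge
  rw [H4Depth.mem_support_localizedModule_iff q.asIdeal.primeCompl (Loc q) (LocalizedModule.mkLinearMap _ M)] at hP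
  have hrq : PrimeSpectrum.comap (algebraMap A (Loc q)) P ≤ q := fun a ha =>
    (IsLocalization.AtPrime.to_map_mem_maximal_iff (Loc q) q.asIdeal a).1 (IsLocalRing.le_maximalIdeal P.2.ne_top ha)
  refine ⟨_, hP, hrq, le_antisymm (h1 _ hP hrq) ?_⟩
  obtain ⟨d, hd, he, -⟩ := exists_dim hω hrq
  rw [PrimeSpectrum.comap_asIdeal,
    show (P.asIdeal.comap (algebraMap A (Loc q))).map (algebraMap A (Loc q)) = P.asIdeal from
      IsLocalization.map_under q.asIdeal.primeCompl (Loc q) P.asIdeal] at hd
  rw [hd] at hPd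
  have := Nat.cast_le.1 hPd
  omega

end

/-- Over a local ring with a normalized complex the degree is `-dim A/p`. -/
theorem deg_normalized [IsLocalRing A] (hn : Dual.IsNormalized A ω) (p : PrimeSpectrum A) {d : ℕ}
    (hd : ringKrullDim (A ⧸ p.asIdeal) = d) : deg hω p = -(d : ℤ) := by
  have h := top_prime hω hn d p.asIdeal (by rw [Module.supportDim_quotient_eq_ringKrullDim, hd])
    fun d' _ M => top_spec hω hn d' M
  exact ((mem_support_iff_deg hω p _).1 h).symm

end Groth.Agent.H4DR.Dualizing
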