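import Groth.Agent.H4DR.Dualizing.TopDepth
import Groth.Agent.H4DR.Dualizing.Local
import Groth.Agent.H4DR.LD.Applications
import Groth.Agent.H4Depth.LocDepth
import Mathlib.RingTheory.Localization.BaseChange
import Mathlib.Algebra.Module.LocalizedModule.IsLocalization

/-!
# The top module `Ext^{-n}(M, ω)`: support, `(S_2)` and associated primes
-/

set_option autoImplicit false
set_option linter.style.haveILetI false
set_option linter.unusedVariables false

universe u

open CategoryTheory CategoryTheory.Limits TensorProduct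
open Groth.Agent.H4DR.Ext (Ex addLin exCongr)
open Groth.Agent.H4DR.FlatBC (toFₗ)

attribute [local instance] HasDerivedCategory.standard

namespace Groth.Agent.H4DR.Dualizing

variable {A : Type u} [CommRing A] [IsLocalRing A] [IsNoetherianRing A] {ω : Dual.D A}
  (hω : Dual.IsDualizing A ω) (hn : Dual.IsNormalized A ω)
  (M : Type u) [AddCommGroup M] [Module A M] [Module.Finite A M]

omit [IsLocalRing A] in
include hω in
/-- `Ext^i(M, ω)_q` computed over the local ring at `q`. -/
theorem nonempty_localized_ex {N : Type u} [AddCommGroup N] [Module A N] {i : ℤ}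
    (s : N ≃ₗ[A] Ex (Dual.inD A M) ω i) (q : PrimeSpectrum A) :
    Nonempty (LocalizedModule q.asIdeal.primeCompl N ≃ₗ[Loc q]
      Ex (Dual.inD (Loc q) (LocalizedModule q.asIdeal.primeCompl M)) ((loc ω q)⟦deg hω q⟧) (i - deg hω q)) := by
  haveI := IsLocalization.flat (Loc q) q.asIdeal.primeCompl
  let e1 := exCongr (A := Loc q) ((LocalizedModule.equivTensorProduct q.asIdeal.primeCompl M).trans
    (toFₗ (Loc q) (ModuleCat.of A M))) ((loc ω q)⟦i⟧)
  let e2 := (addLin (Dual.inD (Loc q) (LocalizedModule q.asIdeal.primeCompl M)) (loc ω q) (deg hω q)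
    (i - deg hω q) i (by ring)).symm
  exact ⟨(LocalizedModule.equivTensorProduct q.asIdeal.primeCompl N).trans
    (((TensorProduct.AlgebraTensorModule.congr (LinearEquiv.refl (Loc q) (Loc q)) s).trans
      (exModuleBC (B := Loc q) hω M i)).trans (e1.trans e2))⟩

omit hω [Module.Finite A M] in
theorem exists_dim_quotient (p : PrimeSpectrum A) : ∃ e : ℕ, ringKrullDim (A ⧸ p.asIdeal) = e := by
  haveI : Nontrivial (A ⧸ p.asIdeal) := Ideal.Quotient.nontrivial_iff.2 p.2.ne_top
  obtain ⟨e, he⟩ := H4Depth.exists_nat_supportDim_eq (R := A) (M := A ⧸ p.asIdeal)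
  exact ⟨e, by rwa [Module.supportDim_quotient_eq_ringKrullDim] at he⟩

variable {n : ℕ} (hM : Module.supportDim A M = n)
include hω hn hM

theorem dim_add_le {p : PrimeSpectrum A} {e D : ℕ} (he : ringKrullDim (A ⧸ p.asIdeal) = e)
    (hD : Module.supportDim (Loc p) (LocalizedModule p.asIdeal.primeCompl M) = D) : e + D ≤ n := by
  obtain ⟨r, hr, hrp, hrd⟩ := (dim_localized_spec hω M p hD).2
  obtain ⟨d, hd⟩ := exists_dim_quotient r
  rw [deg_normalized hω hn p he, deg_normalized hω hn r hd] at hrd
  have := H4Depth.ringKrullDim_quotient_le_supportDim hr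
  rw [hd, hM] at this
  have := Nat.cast_le.1 this
  omega

/-- The support of the top module. -/
theorem mem_support_top_iff (p : PrimeSpectrum A) :
    p ∈ Module.support A (Ex (Dual.inD A M) ω (-(n : ℤ))) ↔
      ∃ q ∈ Module.support A M, q ≤ p ∧ ringKrullDim (A ⧸ q.asIdeal) = n := by
  obtain ⟨e, he⟩ := exists_dim_quotient p
  refine ⟨fun h => ?_, fun ⟨q, hq, hqp, hqn⟩ => ?_⟩
  · have hp := support_ex_subset hω M _ h
    obtain ⟨δ, D, hδ, hD, -, -, -, hint⟩ := exists_interval hω M p hp
    obtain ⟨h1, -⟩ := hint _ h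
    rw [deg_normalized hω hn p he] at h1
    obtain ⟨r, hr, hrp, hrd⟩ := (dim_localized_spec hω M p hD).2
    obtain ⟨d, hd⟩ := exists_dim_quotient r
    rw [deg_normalized hω hn p he, deg_normalized hω hn r hd] at hrd
    have := H4Depth.ringKrullDim_quotient_le_supportDim hr
    rw [hd, hM] at this
    have := Nat.cast_le.1 this
    exact ⟨r, hr, hrp, by rw [hd]; exact congrArg Nat.cast (show d = n by omega)⟩
  · have hp : p ∈ Module.support A M := Module.mem_support_mono hqp hq
    obtain ⟨δ, D, hδ, hD, -, -, htop, -⟩ := exists_interval hω M p hp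
    have h1 := (dim_localized_spec hω M p hD).1 q hq hqp
    rw [deg_normalized hω hn p he, deg_normalized hω hn q hqn] at h1
    have h2 := dim_add_le hω hn M hM he hD
    rw [deg_normalized hω hn p he] at htop
    rwa [show -(e : ℤ) - (D : ℤ) = -(n : ℤ) by omega] at htop

/-- The dimension of the top module at a prime, and its depth. -/
theorem top_localized_spec {N : Type u} [AddCommGroup N] [Module A N] (s : N ≃ₗ[A] Ex (Dual.inD A M) ω (-(n : ℤ)))
    {p : PrimeSpectrum A} (hp : p ∈ Module.support A N) :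
    ∃ e D : ℕ, ringKrullDim (A ⧸ p.asIdeal) = e ∧ e + D = n ∧
      Module.supportDim (Loc p) (LocalizedModule p.asIdeal.primeCompl N) = D ∧
      ((min 2 D : ℕ) : ℕ∞) ≤ LocCoh.depth (Loc p) (LocalizedModule p.asIdeal.primeCompl N) := by
  haveI : IsNoetherianRing (Loc p) := IsLocalization.isNoetherianRing p.asIdeal.primeCompl (Loc p) ‹_›
  have hω' := isDualizing_shift (isDualizing_loc hω p) (deg hω p)
  have hn' := isNormalized_deg hω p
  rw [s.support_eq, mem_support_top_iff hω hn M hM] at hp
  obtain ⟨q, hq, hqp, hqn⟩ := hp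
  have hpM : p ∈ Module.support A M := Module.mem_support_mono hqp hq
  obtain ⟨e, he⟩ := exists_dim_quotient p
  obtain ⟨δ, D, hδ, hD, -, -, -, -⟩ := exists_interval hω M p hpM
  have h1 := (dim_localized_spec hω M p hD).1 q hq hqp
  rw [deg_normalized hω hn p he, deg_normalized hω hn q hqn] at h1
  have h2 := dim_add_le hω hn M hM he hD
  obtain ⟨ε⟩ := nonempty_localized_ex hω M s p
  refine ⟨e, D, he, by omega, ?_, ?_⟩
  · rw [Module.supportDim_eq_of_equiv ε,
      show -(n : ℤ) - deg hω p = -(D : ℤ) by rw [deg_normalized hω hn p he]; omega]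
    refine le_antisymm ?_ (top_spec hω' hn' D _ hD)
    simpa using (dimBound hω' hn' (LocalizedModule p.asIdeal.primeCompl M) (-(D : ℤ))).1
  · rw [H4Depth.depth_congr ε, show -(n : ℤ) - deg hω p = -(D : ℤ) by rw [deg_normalized hω hn p he]; omega]
    exact le_depth_ex_top hω' hn' _ hD.le

theorem hasSk_two_top {N : Type u} [AddCommGroup N] [Module A N] (s : N ≃ₗ[A] Ex (Dual.inD A M) ω (-(n : ℤ))) :
    LocCoh.HasSk 2 A N := by
  intro p hp
  by_cases h : (⟨p, hp⟩ : PrimeSpectrum A) ∈ Module.support A N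
  · obtain ⟨e, D, -, -, hD, hdep⟩ := top_localized_spec hω hn M hM s h
    rw [show Module.supportDim (Localization.AtPrime p) (LocalizedModule p.primeCompl N) = D from hD]
    refine le_trans (le_of_eq ?_) (WithBot.coe_le_coe.2 hdep)
    rcases Nat.le_total 2 D with h2 | h2
    · rw [min_eq_left h2, min_eq_left (show ((2 : ℕ) : WithBot ℕ∞) ≤ D from Nat.cast_le.2 h2)]
      rfl
    · rw [min_eq_right h2, min_eq_right (show (D : WithBot ℕ∞) ≤ ((2 : ℕ) : WithBot ℕ∞) from Nat.cast_le.2 h2)]
      rfl
  · haveI : Subsingleton (LocalizedModule p.primeCompl N) := Module.notMem_support_iff.1 h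
    rw [Module.supportDim_eq_bot_of_subsingleton]
    exact (min_le_right _ _).trans bot_le

/-- The associated primes of the top module are the primes of the support of dimension `n`. -/
theorem associatedPrimes_top {N : Type u} [AddCommGroup N] [Module A N] [Module.Finite A N]
    (s : N ≃ₗ[A] Ex (Dual.inD A M) ω (-(n : ℤ))) :
    associatedPrimes A N = {p | p ∈ associatedPrimes A M ∧ ringKrullDim (A ⧸ p) = n} := by
  ext p
  constructor
  · intro hp
    have hpp : p.IsPrime := hp.isPrime
    obtain ⟨-, g, hg⟩ := (isAssociatedPrime_iff_exists_injective_linearMap p N).1 hp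
    let z := g (Submodule.Quotient.mk 1)
    have hz : ∀ a : A, a • z = 0 ↔ a ∈ p := fun a => by
      show a • g (Submodule.Quotient.mk 1) = 0 ↔ _
      rw [← map_smul, map_eq_zero_iff g hg, ← Submodule.Quotient.mk_smul, smul_eq_mul, mul_one,
        Submodule.Quotient.mk_eq_zero]
    have hsupp : (⟨p, hpp⟩ : PrimeSpectrum A) ∈ Module.support A N :=
      Module.mem_support_iff'.2 ⟨z, fun a ha h0 => ha ((hz a).1 h0)⟩
    obtain ⟨e, D, he, hsum, hD, hdep⟩ := top_localized_spec hω hn M hM s hsupp
    have hD0 : D = 0 := by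
      by_contra hne
      let P : PrimeSpectrum A := ⟨p, hpp⟩
      haveI : Nontrivial (LocalizedModule P.asIdeal.primeCompl N) := Module.mem_support_iff.1 hsupp
      have hne' := H4Depth.maximalIdeal_smul_top_ne_top (R := Loc P) (M := LocalizedModule P.asIdeal.primeCompl N)
      obtain ⟨rs, hlen, hrs, hreg⟩ := H4Depth.exists_isWeaklyRegular_of_le_idealDepth hne' (n := 1)
        ((Nat.cast_le.2 (show 1 ≤ min 2 D by omega)).trans hdep)
      obtain ⟨x, rfl⟩ := List.length_eq_one_iff.1 hlen
      have hx := hrs x (by simp)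
      have hxreg := ((RingTheory.Sequence.isWeaklyRegular_cons_iff _ x []).1 hreg).1
      let z' := LocalizedModule.mkLinearMap P.asIdeal.primeCompl N z
      obtain ⟨a, t, rfl⟩ := IsLocalization.exists_mk'_eq P.asIdeal.primeCompl x
      rw [IsLocalization.AtPrime.mk'_mem_maximal_iff (Loc P) P.asIdeal] at hx
      have h0 : IsLocalization.mk' (Loc P) a t • z' = 0 := by
        rw [← (Module.End.isUnit_iff _).1 (IsLocalizedModule.map_units
          (LocalizedModule.mkLinearMap P.asIdeal.primeCompl N) t) |>.1.eq_iff]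
        show (t : A) • (IsLocalization.mk' (Loc P) a t • z') = (t : A) • 0
        rw [smul_zero, ← smul_assoc, Algebra.smul_def (t : A), mul_comm, IsLocalization.mk'_spec, algebraMap_smul,
          ← map_smul, (hz a).2 hx, map_zero]
      have hz' : z' = 0 := hxreg.right_eq_zero_of_smul h0
      obtain ⟨c, hc⟩ := (IsLocalizedModule.eq_zero_iff P.asIdeal.primeCompl _).1 hz'
      exact c.2 ((hz c).1 hc)
    have hen : ringKrullDim (A ⧸ p) = n := by
      rw [show n = e by omega]
      exact he
    refine ⟨?_, hen⟩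
    have hsM := support_ex_subset hω M _ (s.support_eq ▸ hsupp)
    refine Module.associatedPrimes.minimalPrimes_annihilator_subset_associatedPrimes A M
      ⟨⟨hpp, Module.mem_support_iff_of_finite.1 hsM⟩, fun q hq hqp => ?_⟩
    by_contra hne
    obtain ⟨d, hd⟩ := exists_dim_quotient (⟨q, hq.1⟩ : PrimeSpectrum A)
    have h1 := succ_le_ringKrullDim_quotient (q := ⟨q, hq.1⟩) (P := ⟨p, hpp⟩)
      (lt_of_le_not_ge (show q ≤ p from hqp) hne) (n := n) (le_of_eq hen.symm)
    have h2 := H4Depth.ringKrullDim_quotient_le_supportDim (p := ⟨q, hq.1⟩)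
      ((Module.mem_support_iff_of_finite (R := A) (M := M)).2 hq.2)
    rw [hM] at h2
    have := Nat.cast_le.1 (h1.trans h2)
    omega
  · rintro ⟨hp, hpn⟩
    have hpp : p.IsPrime := hp.isPrime
    have hpM : (⟨p, hpp⟩ : PrimeSpectrum A) ∈ Module.support A M :=
      Module.mem_support_iff_of_finite.2 ((Submodule.annihilator_top (R := A) (M := M)).symm.trans_le (IsAssociatedPrime.annihilator_le hp))
    have hsupp : (⟨p, hpp⟩ : PrimeSpectrum A) ∈ Module.support A N := by
      rw [s.support_eq, mem_support_top_iff hω hn M hM]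
      exact ⟨_, hpM, le_rfl, hpn⟩
    refine Module.associatedPrimes.minimalPrimes_annihilator_subset_associatedPrimes A N
      ⟨⟨hpp, Module.mem_support_iff_of_finite.1 hsupp⟩, fun q hq hqp => ?_⟩
    by_contra hne
    obtain ⟨d, hd⟩ := exists_dim_quotient (⟨q, hq.1⟩ : PrimeSpectrum A)
    have hqM := support_ex_subset hω M _ (s.support_eq ▸
      (Module.mem_support_iff_of_finite.2 hq.2 : (⟨q, hq.1⟩ : PrimeSpectrum A) ∈ Module.support A N))
    have h1 := succ_le_ringKrullDim_quotient (q := ⟨q, hq.1⟩) (P := ⟨p, hpp⟩)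
      (lt_of_le_not_ge (show q ≤ p from hqp) hne) (n := n) (le_of_eq hpn.symm)
    have h2 := H4Depth.ringKrullDim_quotient_le_supportDim hqM
    rw [hM] at h2
    have := Nat.cast_le.1 (h1.trans h2)
    omega

end Groth.Agent.H4DR.Dualizing
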