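import Groth.Agent.H4DR.Dualizing.Compare
import Groth.Agent.H4Depth.DepthLemmas
import Mathlib.RingTheory.KrullDimension.Regular
import Mathlib.RingTheory.KrullDimension.NonZeroDivisors

/-!
# Normalized dualizing complexes: vanishing, depth, dimension of `Ext^i(M, ω)`
-/

set_option autoImplicit false
set_option linter.style.haveILetI false
set_option linter.unusedVariables false

universe u v w z

open CategoryTheory CategoryTheory.Limits Pretriangulated
open scoped Pointwise
open Groth.Agent.H4DR.Ext (Ex pre)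

attribute [local instance] HasDerivedCategory.standard

namespace Groth.Agent.H4DR.Dualizing

variable {A : Type u} [CommRing A]

theorem supportDim_le_max_of_exact {L : Type v} {M : Type w} {N : Type z} [AddCommGroup L] [Module A L]
    [AddCommGroup M] [Module A M] [AddCommGroup N] [Module A N] {f : L →ₗ[A] M} {g : M →ₗ[A] N}
    (hfg : Function.Exact f g) : Module.supportDim A M ≤ max (Module.supportDim A L) (Module.supportDim A N) := by
  have h1 : Module.support A M ⊆ Module.support A L ∪ Module.support A N := fun p hp => by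
    have he : Function.Exact (LinearMap.range f).subtype g.rangeRestrict := fun x =>
      ⟨fun h => ⟨⟨x, (hfg x).1 (congrArg Subtype.val h)⟩, rfl⟩,
        fun ⟨y, e⟩ => Subtype.ext ((hfg x).2 (e ▸ y.2))⟩
    rw [Module.support_of_exact he Subtype.val_injective g.surjective_rangeRestrict] at hp
    exact hp.imp (fun h => Module.support_subset_of_surjective f.rangeRestrict f.surjective_rangeRestrict h)
      (fun h => Module.support_subset_of_injective (LinearMap.range g).subtype Subtype.val_injective h)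
  refine iSup_le fun q => ?_
  rcases h1 q.head.2 with hl | hn
  · refine le_trans ?_ (le_max_left _ _)
    let q' : LTSeries (Module.support A L) :=
      { length := q.length
        toFun := fun i => ⟨(q i).1, Module.mem_support_mono (q.monotone (Fin.zero_le i)) hl⟩
        step := fun i => q.step i }
    exact le_iSup (fun p : LTSeries (Module.support A L) => (p.length : WithBot ℕ∞)) q'
  · refine le_trans ?_ (le_max_right _ _)
    let q' : LTSeries (Module.support A N) :=
      { length := q.length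
        toFun := fun i => ⟨(q i).1, Module.mem_support_mono (q.monotone (Fin.zero_le i)) hn⟩
        step := fun i => q.step i }
    exact le_iSup (fun p : LTSeries (Module.support A N) => (p.length : WithBot ℕ∞)) q'

variable [IsLocalRing A] [IsNoetherianRing A] {ω : Dual.D A}

theorem norm_degree (hω : Dual.IsDualizing A ω) (hn : Dual.IsNormalized A ω) :
    Nonempty (Ex (Dual.inD A (A ⧸ IsLocalRing.maximalIdeal A)) ω 0 ≃ₗ[A] A ⧸ IsLocalRing.maximalIdeal A) := by
  obtain ⟨n, hvan, ⟨e⟩⟩ := exists_degree hω (IsLocalRing.maximalIdeal A)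
  rcases eq_or_ne n 0 with rfl | hn0
  · exact ⟨e⟩
  · haveI : Subsingleton (Dual.inD A (A ⧸ IsLocalRing.maximalIdeal A) ⟶ ω⟦n⟧) := hn n hn0
    haveI : Subsingleton (A ⧸ IsLocalRing.maximalIdeal A) := e.symm.injective.subsingleton
    exact ((IsLocalRing.maximalIdeal.isMaximal A).ne_top (Submodule.Quotient.subsingleton_iff.1 inferInstance)).elim

theorem norm_injAmp (hω : Dual.IsDualizing A ω) (hn : Dual.IsNormalized A ω) :
    ∃ a : ℤ, DRing.HasInjAmplitudeIn A a 0 ω := by
  obtain ⟨a, b, ha⟩ := exists_bounds hω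
  refine ⟨a, Ext.injAmp_of_vanish ω a 0 fun I i hi => ?_⟩
  rcases hi with hi | hi
  · exact Ext.subsingleton_ex_low (fun j hj => ha j (Or.inl hj)) (A ⧸ I) i hi
  · exact Ext.subsingleton_ex_quotient hω.finite_cohomology (fun j hj => ha j (Or.inl hj)) (fun i => 0 < i)
      (fun i hi => by omega) (fun i hi => hn i hi.ne') I i hi

theorem subsingleton_ex_pos (hω : Dual.IsDualizing A ω) (hn : Dual.IsNormalized A ω) (M : Type u) [AddCommGroup M]
    [Module A M] {i : ℤ} (hi : 0 < i) : Subsingleton (Ex (Dual.inD A M) ω i) := by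
  obtain ⟨a, h⟩ := norm_injAmp hω hn
  exact Ext.subsingleton_inD_of_injAmp h M (Or.inr hi)

omit [IsLocalRing A] in
theorem finite_ex_dualizing (hω : Dual.IsDualizing A ω) (M : Type u) [AddCommGroup M] [Module A M] [Module.Finite A M]
    (i : ℤ) : Module.Finite A (Ex (Dual.inD A M) ω i) := by
  obtain ⟨a, b, h⟩ := Ext.fid_iff.1 (show Ext.FID ω from hω.finite_injective_dimension)
  exact Ext.finite_ex_module hω.finite_cohomology h ((i - a).toNat + 1) M i (by omega)

omit [IsLocalRing A] [IsNoetherianRing A] in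
lemma pre_inM_smul {M : Type u} [AddCommGroup M] [Module A M] (x : A) (W : Dual.D A) (s : Dual.inD A M ⟶ W) :
    pre (Ext.inM (L := ModuleCat.of A M) (M := ModuleCat.of A M) (x • LinearMap.id)) W s = x • s := by
  show Ext.inM (L := ModuleCat.of A M) (M := ModuleCat.of A M) (x • LinearMap.id) ≫ s = x • s
  rw [show Ext.inM (L := ModuleCat.of A M) (M := ModuleCat.of A M) (x • LinearMap.id) = x • 𝟙 _ from
    Ext.inM_smul_id (ModuleCat.of A M) x]
  exact (Linear.smul_comp _ _ _ _ _ _).trans (congrArg (x • ·) (Category.id_comp s))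

theorem depth_spec (hω : Dual.IsDualizing A ω) (hn : Dual.IsNormalized A ω) : ∀ (n : ℕ) (M : Type u) [AddCommGroup M]
    [Module A M] [Module.Finite A M] [Nontrivial M], LocCoh.depth A M = n →
      (∀ δ : ℕ, δ < n → Subsingleton (Ex (Dual.inD A M) ω (-(δ : ℤ)))) ∧
        Nontrivial (Ex (Dual.inD A M) ω (-(n : ℤ)))
  | 0, M, _, _, _, _, hd => by
    refine ⟨fun δ h => absurd h (Nat.not_lt_zero δ), ?_⟩
    have hne : IsLocalRing.maximalIdeal A • (⊤ : Submodule A M) ≠ ⊤ := fun h =>
      (Submodule.subsingleton_iff A).not.2 (not_subsingleton M) ((subsingleton_iff_bot_eq_top).1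
        (Submodule.eq_bot_of_le_smul_of_le_jacobson_bot (IsLocalRing.maximalIdeal A) ⊤ Module.Finite.fg_top h.ge
          (IsLocalRing.maximalIdeal_le_jacobson ⊥)).symm)
    obtain ⟨p, hp, hle⟩ := (H4Depth.idealDepth_eq_zero_iff_exists_associatedPrime hne).1 hd
    obtain rfl : IsLocalRing.maximalIdeal A = p :=
      le_antisymm hle (IsLocalRing.le_maximalIdeal hp.isPrime.ne_top)
    obtain ⟨-, f, hf⟩ := (isAssociatedPrime_iff_exists_injective_linearMap _ M).1 hp
    obtain ⟨δ, hT⟩ := Ext.exists_triangle f (LinearMap.range f).mkQ hf (Submodule.mkQ_surjective _)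
      (LinearMap.exact_map_mkQ_range f)
    obtain ⟨e⟩ := norm_degree hω hn
    have hs := Ext.surjective_pre₁ _ hT (W := ω) (i := 0) rfl (subsingleton_ex_pos hω hn _ one_pos)
    haveI : Nontrivial (Ex (Dual.inD A (A ⧸ IsLocalRing.maximalIdeal A)) ω 0) := by
      haveI := Submodule.Quotient.nontrivial_iff.2 (IsLocalRing.maximalIdeal.isMaximal A).ne_top
      exact e.symm.injective.nontrivial
    show Nontrivial (Ex (Dual.inD A M) ω (-((0 : ℕ) : ℤ)))
    rw [Nat.cast_zero, neg_zero]
    exact (show Function.Surjective (fun t : Ex (Dual.inD A M) ω 0 =>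
      (pre _ (ω⟦(0 : ℤ)⟧) t : Ex (Dual.inD A (A ⧸ IsLocalRing.maximalIdeal A)) ω 0)) from hs).nontrivial
  | n + 1, M, _, _, _, _, hd => by
    have hne : IsLocalRing.maximalIdeal A • (⊤ : Submodule A M) ≠ ⊤ := fun h =>
      (Submodule.subsingleton_iff A).not.2 (not_subsingleton M) ((subsingleton_iff_bot_eq_top).1
        (Submodule.eq_bot_of_le_smul_of_le_jacobson_bot (IsLocalRing.maximalIdeal A) ⊤ Module.Finite.fg_top h.ge
          (IsLocalRing.maximalIdeal_le_jacobson ⊥)).symm)
    obtain ⟨x, hx, hreg⟩ := (H4Depth.one_le_idealDepth_iff hne).1 (by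
      show (1 : ℕ∞) ≤ LocCoh.depth A M
      rw [hd]; exact_mod_cast Nat.le_add_left 1 n)
    have hQd : LocCoh.depth A (QuotSMulTop x M) = n := by
      have h := H4Depth.idealDepth_quotSMulTop_add_one hx hreg
      rw [show LocCoh.idealDepth (IsLocalRing.maximalIdeal A) M = ((n + 1 : ℕ) : ℕ∞) from hd, Nat.cast_succ] at h
      exact WithTop.add_right_cancel (WithTop.one_ne_top) h
    haveI : Nontrivial (QuotSMulTop x M) := Submodule.Quotient.nontrivial_iff.2 fun h => hne (top_le_iff.1
      (h.ge.trans ((Submodule.ideal_span_singleton_smul x ⊤).ge.trans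
        (Submodule.smul_mono_left (Ideal.span_le.2 (Set.singleton_subset_iff.2 hx))))))
    obtain ⟨ih1, ih2⟩ := depth_spec hω hn n (QuotSMulTop x M) hQd
    have hex : Function.Exact (x • LinearMap.id : M →ₗ[A] M) (Submodule.mkQ (x • (⊤ : Submodule A M))) := fun t => by
      rw [Submodule.mkQ_apply, Submodule.Quotient.mk_eq_zero]
      exact ⟨fun h => let ⟨u, _, hu⟩ := h; ⟨u, hu⟩, fun ⟨u, hu⟩ => ⟨u, trivial, hu⟩⟩
    obtain ⟨δ, hT⟩ := Ext.exists_triangle (x • LinearMap.id : M →ₗ[A] M) (Submodule.mkQ (x • (⊤ : Submodule A M)))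
      (fun a b h => hreg h) (Submodule.mkQ_surjective _) hex
    have hz : ∀ d : ℕ, d < n + 1 → Subsingleton (Ex (Dual.inD A M) ω (-(d : ℤ))) := fun d hd' => by
      haveI := finite_ex_dualizing hω M (-(d : ℤ))
      have hQ : Subsingleton (Ex (Dual.inD A (QuotSMulTop x M)) ω (-(d : ℤ) + 1)) := by
        rcases Nat.eq_zero_or_pos d with rfl | hpos
        · exact subsingleton_ex_pos hω hn _ (by simp)
        · rw [show (-(d : ℤ) + 1) = -((d - 1 : ℕ) : ℤ) by omega]
          exact ih1 _ (by omega)
      have hs := Ext.surjective_pre₁ _ hT (W := ω) rfl hQ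
      have h0 : (⊤ : Submodule A (Ex (Dual.inD A M) ω (-(d : ℤ)))) = ⊥ := by
        refine Submodule.eq_bot_of_le_smul_of_le_jacobson_bot (IsLocalRing.maximalIdeal A) _ Module.Finite.fg_top
          (fun t _ => ?_) (IsLocalRing.maximalIdeal_le_jacobson ⊥)
        obtain ⟨(s : Ex (Dual.inD A M) ω (-(d : ℤ))), rfl⟩ := hs t
        exact (pre_inM_smul x _ s) ▸ Submodule.smul_mem_smul hx Submodule.mem_top
      exact Submodule.subsingleton_iff A |>.1 (subsingleton_iff_bot_eq_top.1 h0.symm)
    refine ⟨hz, not_subsingleton_iff_nontrivial.1 fun hsub => not_subsingleton_iff_nontrivial.2 ih2 ?_⟩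
    exact Ext.subsingleton_pre₃ _ hT (W := ω) (i := -((n + 1 : ℕ) : ℤ)) (j := -(n : ℤ)) (by push_cast; ring) hsub
      (hz n (by omega))

theorem depth_eq_iff (hω : Dual.IsDualizing A ω) (hn : Dual.IsNormalized A ω) (M : Type u) [AddCommGroup M]
    [Module A M] [Module.Finite A M] [Nontrivial M] (n : ℕ) :
    LocCoh.depth A M = n ↔ ((∀ δ : ℕ, δ < n → Subsingleton (Ex (Dual.inD A M) ω (-(δ : ℤ)))) ∧
        Nontrivial (Ex (Dual.inD A M) ω (-(n : ℤ)))) := by
  refine ⟨depth_spec hω hn n M, fun ⟨h1, h2⟩ => ?_⟩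
  have hne : IsLocalRing.maximalIdeal A • (⊤ : Submodule A M) ≠ ⊤ := fun h =>
    (Submodule.subsingleton_iff A).not.2 (not_subsingleton M) ((subsingleton_iff_bot_eq_top).1
      (Submodule.eq_bot_of_le_smul_of_le_jacobson_bot (IsLocalRing.maximalIdeal A) ⊤ Module.Finite.fg_top h.ge
        (IsLocalRing.maximalIdeal_le_jacobson ⊥)).symm)
  obtain ⟨m, hm⟩ := ENat.ne_top_iff_exists.1 (H4Depth.idealDepth_ne_top hne)
  have hm' : LocCoh.depth A M = m := hm.symm
  obtain ⟨g1, g2⟩ := depth_spec hω hn m M hm'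
  rw [hm', Nat.cast_inj]
  rcases lt_trichotomy m n with h | h | h
  · exact (not_subsingleton_iff_nontrivial.2 g2 (h1 m h)).elim
  · exact h
  · exact (not_subsingleton_iff_nontrivial.2 h2 (g1 n h)).elim

/-- `dim Supp Ext^i(M, ω) ≤ -i` and `Ext^i(M, ω) = 0` outside `[-dim M, 0]`. -/
def DimBound (ω : Dual.D A) (M : Type u) [AddCommGroup M] [Module A M] : Prop :=
  ∀ i : ℤ, Module.supportDim A (Ex (Dual.inD A M) ω i) ≤ ((-i).toNat : WithBot ℕ∞) ∧
    (Nontrivial (Ex (Dual.inD A M) ω i) → ((-i).toNat : WithBot ℕ∞) ≤ Module.supportDim A M ∧ i ≤ 0)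

omit [IsLocalRing A] [IsNoetherianRing A] in
lemma DimBound.of_subsingleton (M : Type u) [AddCommGroup M] [Module A M] [Subsingleton M] : DimBound ω M := fun i => by
  have hs := Ext.subsingleton_ex_of_subsingleton (A := A) M (ω⟦i⟧)
  exact ⟨(Module.supportDim_eq_bot_of_subsingleton A _).le.trans bot_le,
    fun h => (not_subsingleton_iff_nontrivial.2 h hs).elim⟩

omit [IsLocalRing A] [IsNoetherianRing A] in
lemma DimBound.extension {L M N : Type u} [AddCommGroup L] [Module A L] [AddCommGroup M] [Module A M]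
    [AddCommGroup N] [Module A N] {f : L →ₗ[A] M} {g : M →ₗ[A] N} (hf : Function.Injective f)
    (hg : Function.Surjective g) (hfg : Function.Exact f g) (h1 : DimBound ω L) (h3 : DimBound ω N) :
    DimBound ω M := fun i => by
  obtain ⟨δ, hT⟩ := Ext.exists_triangle f g hf hg hfg
  refine ⟨(supportDim_le_max_of_exact (Ext.exact_pre₂ _ hT (ω⟦i⟧))).trans (max_le (h3 i).1 (h1 i).1), fun hne => ?_⟩
  by_cases hL : Subsingleton (Ex (Dual.inD A L) ω i)
  · haveI : Nontrivial (Ex (Dual.inD A N) ω i) := not_subsingleton_iff_nontrivial.1 fun hN =>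
      not_subsingleton_iff_nontrivial.2 hne (Ext.subsingleton_pre₂ _ hT hL hN)
    exact ⟨((h3 i).2 inferInstance).1.trans (Module.supportDim_le_of_surjective g hg), ((h3 i).2 inferInstance).2⟩
  · haveI := not_subsingleton_iff_nontrivial.1 hL
    exact ⟨((h1 i).2 inferInstance).1.trans (Module.supportDim_le_of_injective f hf), ((h1 i).2 inferInstance).2⟩

omit [IsLocalRing A] [IsNoetherianRing A] in
lemma DimBound.of_equiv {M N : Type u} [AddCommGroup M] [Module A M] [AddCommGroup N] [Module A N]
    (e : M ≃ₗ[A] N) (h : DimBound ω M) : DimBound ω N := fun i => by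
  let eE : Ex (Dual.inD A N) ω i ≃ₗ[A] Ex (Dual.inD A M) ω i := Ext.exCongr e (ω⟦i⟧)
  refine ⟨(Module.supportDim_eq_of_equiv eE).trans_le (h i).1, fun hne => ?_⟩
  rw [← Module.supportDim_eq_of_equiv e]
  exact (h i).2 eE.symm.surjective.nontrivial

theorem dimBound (hω : Dual.IsDualizing A ω) (hn : Dual.IsNormalized A ω) (M : Type u) [AddCommGroup M]
    [Module A M] [Module.Finite A M] : DimBound ω M := by
  have hquot : ∀ J : Ideal A, DimBound ω (A ⧸ J) := fun J => by
    refine Ext.quotient_induction (fun J => DimBound ω (A ⧸ J)) ?_ ?_ ?_ ?_ J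
    · haveI : Subsingleton (A ⧸ (⊤ : Ideal A)) := Submodule.Quotient.subsingleton_iff.2 rfl
      exact DimBound.of_subsingleton _
    · intro i
      rcases eq_or_ne i 0 with rfl | hi
      · obtain ⟨e⟩ := norm_degree hω hn
        haveI : Nontrivial (A ⧸ IsLocalRing.maximalIdeal A) :=
          Submodule.Quotient.nontrivial_iff.2 (IsLocalRing.maximalIdeal.isMaximal A).ne_top
        letI := Ideal.Quotient.field (IsLocalRing.maximalIdeal A)
        have h0 : Module.supportDim A (A ⧸ IsLocalRing.maximalIdeal A) = 0 := by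
          rw [Module.supportDim_quotient_eq_ringKrullDim]; exact ringKrullDim_eq_zero_of_field _
        simp only [neg_zero, Int.toNat_zero, Nat.cast_zero, Module.supportDim_eq_of_equiv e, h0, le_refl, and_self,
          implies_true]
      · haveI : Subsingleton (Ex (Dual.inD A (A ⧸ IsLocalRing.maximalIdeal A)) ω i) := hn i hi
        exact ⟨(Module.supportDim_eq_bot_of_subsingleton A _).le.trans bot_le,
          fun h => (not_subsingleton_iff_nontrivial.2 h inferInstance).elim⟩
    · intro J c h1 h2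
      obtain ⟨f, g, hf, hg, hfg⟩ := Ext.colon_ses J c
      exact DimBound.extension hf hg hfg h1 h2
    · intro p _ x hx hxp hQ i
      obtain ⟨g, hf, hg, hfg⟩ := Ext.prime_ses p hxp
      obtain ⟨δ, hT⟩ := Ext.exists_triangle _ g hf hg hfg
      haveI := finite_ex_dualizing hω (A ⧸ p) i
      let N := Ex (Dual.inD A (A ⧸ p)) ω i
      let c : N →ₗ[A] Ex (Dual.inD A (A ⧸ (p ⊔ Ideal.span {x}))) ω (i + 1) := Ext.conn
        (Triangle.mk (Ext.inM (L := ModuleCat.of A (A ⧸ p)) (M := ModuleCat.of A (A ⧸ p)) (x • LinearMap.id))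
          (Ext.inM (L := ModuleCat.of A (A ⧸ p)) (M := ModuleCat.of A (A ⧸ (p ⊔ Ideal.span {x}))) g) δ) ω i (i + 1) rfl
      have hc : LinearMap.ker c ≤ x • (⊤ : Submodule A N) := fun t ht => by
        obtain ⟨(s : N), hs⟩ := Ext.ker_conn_le _ hT rfl ht
        rw [← hs]
        exact (pre_inM_smul x _ s) ▸ Submodule.smul_mem_pointwise_smul s x _ Submodule.mem_top
      by_cases hN : Subsingleton N
      · exact ⟨(Module.supportDim_eq_bot_of_subsingleton A _).le.trans bot_le,
          fun h => (not_subsingleton_iff_nontrivial.2 h hN).elim⟩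
      haveI := not_subsingleton_iff_nontrivial.1 hN
      have hQN : Module.supportDim A (QuotSMulTop x N) ≤
          Module.supportDim A (Ex (Dual.inD A (A ⧸ (p ⊔ Ideal.span {x}))) ω (i + 1)) :=
        (Module.supportDim_le_of_surjective (Submodule.factor hc) (Submodule.factor_surjective hc)).trans
          (Module.supportDim_le_of_injective (LinearMap.ker c |>.liftQ c le_rfl)
            (LinearMap.ker_eq_bot.1 (Submodule.ker_liftQ_eq_bot' _ _ rfl)))
      haveI : Nontrivial (QuotSMulTop x N) := Submodule.Quotient.nontrivial_iff.2 fun h =>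
        (Submodule.subsingleton_iff A).not.2 hN ((subsingleton_iff_bot_eq_top).1
          (Submodule.eq_bot_of_le_smul_of_le_jacobson_bot (Ideal.span {x}) ⊤ Module.Finite.fg_top
            ((Submodule.ideal_span_singleton_smul x ⊤).trans h).ge
            ((Ideal.span_le.2 (Set.singleton_subset_iff.2 hx)).trans (IsLocalRing.maximalIdeal_le_jacobson ⊥))).symm)
      haveI : Nontrivial (Ex (Dual.inD A (A ⧸ (p ⊔ Ideal.span {x}))) ω (i + 1)) :=
        not_subsingleton_iff_nontrivial.1 fun h =>
          Module.supportDim_ne_bot_of_nontrivial A (QuotSMulTop x N)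
            (le_bot_iff.1 (hQN.trans (Module.supportDim_eq_bot_of_subsingleton A _).le))
      obtain ⟨h1, hi1⟩ := (hQ (i + 1)).2 inferInstance
      have hi : (-i).toNat = (-(i + 1)).toNat + 1 := by omega
      have hdim : Module.supportDim A (A ⧸ (p ⊔ Ideal.span {x})) + 1 ≤ Module.supportDim A (A ⧸ p) := by
        rw [Module.supportDim_quotient_eq_ringKrullDim, Module.supportDim_quotient_eq_ringKrullDim,
          ← RingEquiv.ringKrullDim (DoubleQuot.quotQuotEquivQuotSup p (Ideal.span {x})),
          Ideal.map_span, Set.image_singleton]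
        exact ringKrullDim_quotient_succ_le_of_nonZeroDivisor (mem_nonZeroDivisors_of_ne_zero
          fun h => hxp (Ideal.Quotient.eq_zero_iff_mem.1 h))
      refine ⟨?_, fun _ => ⟨?_, by omega⟩⟩
      · refine (Module.supportDim_le_supportDim_quotSMulTop_succ_of_mem_jacobson
          (IsLocalRing.maximalIdeal_le_jacobson (Module.annihilator A N) hx)).trans ?_
        rw [hi, Nat.cast_succ]
        exact add_le_add (hQN.trans (hQ (i + 1)).1) le_rfl
      · rw [hi, Nat.cast_succ]
        exact (add_le_add h1 le_rfl).trans hdim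
  induction ‹Module.Finite A M› using IsNoetherianRing.induction_on_isQuotientEquivQuotientPrime A with
  | subsingleton N => exact DimBound.of_subsingleton _
  | quotient N p e => exact (hquot p.asIdeal).of_equiv e.symm
  | exact N₁ N₂ N₃ f g hf hg hfg h1 h3 => exact DimBound.extension hf hg hfg h1 h3

end Groth.Agent.H4DR.Dualizing
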