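import Groth.Agent.H26Dual2.RightAdj
import Groth.Agent.H26Dual2.HomFinite
import Groth.Agent.H4DR.Dualizing.Criterion
import Groth.Agent.H4DR.Dualizing.Normalized
import Groth.Agent.H4DR.Dualizing.Compare
import Groth.Agent.H4DR.FlatBC.Dualizing

/-!
# Dualizing complexes along finite maps
-/

set_option autoImplicit false
set_option linter.style.haveILetI false
set_option linter.unusedVariables false

universe u

open CategoryTheory CategoryTheory.Limits Pretriangulated
open Groth.Agent.H4DR.DComplete (coind)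
open Groth.Agent.H4DR.Ext (Ex)
open Groth.Agent.H26Dual2 (TD reF coF coCx coAdj reCx nonempty_homotopy_coAdj)

attribute [local instance] HasDerivedCategory.standard

namespace Groth.Agent.H4DR.Dualizing

variable {A B : Type u} [CommRing A] [CommRing B] (ψ : A →+* B)

/-- The counit at a K-injective complex. -/
noncomputable def epsCo (I : DRing.Cx A) : (TD ψ).obj (DRing.toD ((coCx ψ).obj I)) ⟶ DRing.toD I :=
  ((reF ψ).mapDerivedCategoryFactors.app ((coCx ψ).obj I)).hom ≫ DerivedCategory.Q.map ((coAdj ψ).counit.app I)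

/-- `Hom(B, I)` represents `X ↦ Hom(res X, I)`. -/
theorem bijective_epsCo (I : DRing.Cx A) [CochainComplex.IsKInjective I] (X : Dual.D B) :
    Function.Bijective (fun u : X ⟶ DRing.toD ((coCx ψ).obj I) => (TD ψ).map u ≫ epsCo ψ I) := by
  suffices h : ∀ X₀ : DRing.Cx B, Function.Bijective
      (fun u : DRing.toD X₀ ⟶ DRing.toD ((coCx ψ).obj I) => (TD ψ).map u ≫ epsCo ψ I) by
    obtain ⟨X₀, ⟨e⟩⟩ : ∃ X₀ : DRing.Cx B, Nonempty (DRing.toD X₀ ≅ X) :=
      ⟨_, ⟨DerivedCategory.Q.objObjPreimageIso X⟩⟩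
    refine ⟨fun u v huv => ?_, fun w => ?_⟩
    · rw [← cancel_epi e.hom]
      refine (h X₀).1 ?_
      dsimp only
      rw [Functor.map_comp, Functor.map_comp, Category.assoc, Category.assoc]
      exact congrArg (_ ≫ ·) huv
    · obtain ⟨u, hu⟩ := (h X₀).2 ((TD ψ).map e.hom ≫ w)
      refine ⟨e.inv ≫ u, ?_⟩
      dsimp only at hu ⊢
      rw [Functor.map_comp, Category.assoc, hu, ← Functor.map_comp_assoc, e.inv_hom_id,
        CategoryTheory.Functor.map_id, Category.id_comp]
  intro X₀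
  have key : ∀ g : X₀ ⟶ (coCx ψ).obj I, (TD ψ).map (DerivedCategory.Q.map g) ≫ epsCo ψ I =
      ((reF ψ).mapDerivedCategoryFactors.app X₀).hom ≫ DerivedCategory.Q.map (((coAdj ψ).homEquiv _ _).symm g) := by
    intro g
    have h1 := (reF ψ).mapDerivedCategoryFactors.hom.naturality g
    simp only [Functor.comp_map] at h1
    rw [Adjunction.homEquiv_counit, Functor.map_comp]
    exact (reassoc_of% h1) _
  refine ⟨?_, fun w => ?_⟩
  · rintro u v huv
    obtain ⟨gu, rfl⟩ := H16Derived.InjDim.exists_chain_map _ X₀ u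
    obtain ⟨gv, rfl⟩ := H16Derived.InjDim.exists_chain_map _ X₀ v
    dsimp only at huv
    rw [key, key, cancel_epi, ← sub_eq_zero, ← Functor.map_sub] at huv
    obtain ⟨hh⟩ := H16Derived.InjDim.homotopic_zero_of_Q_map I _ _ huv
    have h2 : ((coAdj ψ).homEquiv X₀ I).symm (gu - gv) =
        ((coAdj ψ).homEquiv _ _).symm gu - ((coAdj ψ).homEquiv _ _).symm gv := by
      simp only [Adjunction.homEquiv_counit]
      rw [Functor.map_sub, Preadditive.sub_comp]
    obtain ⟨hh'⟩ := (nonempty_homotopy_coAdj ψ X₀ I (gu - gv)).2 (h2 ▸ ⟨hh⟩)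
    rw [← sub_eq_zero, ← Functor.map_sub, DerivedCategory.Q_map_eq_of_homotopy (h := hh'), Functor.map_zero]
  · obtain ⟨g', hg'⟩ := H16Derived.InjDim.exists_chain_map I ((reCx ψ).obj X₀)
      (((reF ψ).mapDerivedCategoryFactors.app X₀).inv ≫ w)
    refine ⟨DerivedCategory.Q.map ((coAdj ψ).homEquiv _ _ g'), ?_⟩
    dsimp only
    rw [key, Equiv.symm_apply_apply, hg']
    exact Iso.hom_inv_id_assoc _ _

variable {ψ} {R : Dual.D A ⥤ Dual.D B} (adj : DRing.restrictD ψ ⊣ R)

include adj in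
/-- The value of the right adjoint. -/
theorem exists_iso_coCx {K : Dual.D A} {I : DRing.Cx A} [CochainComplex.IsKInjective I] (e : DRing.toD I ≅ K) :
    Nonempty (DRing.toD ((coCx ψ).obj I) ≅ R.obj K) := by
  have hb : ∀ X : Dual.D B, Function.Bijective
      (fun u : X ⟶ DRing.toD ((coCx ψ).obj I) => (TD ψ).map u ≫ (epsCo ψ I ≫ e.hom)) := fun X => by
    simpa [Function.comp_def] using ((Iso.homToEquiv (Z := (TD ψ).obj X) e).bijective.comp (bijective_epsCo ψ I X))
  let r : ((TD ψ).op ⋙ yoneda.obj K).RepresentableBy (DRing.toD ((coCx ψ).obj I)) :=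
    { homEquiv := fun {X} => Equiv.ofBijective _ (hb X)
      homEquiv_comp := fun {X X'} f g => by
        simp only [Equiv.ofBijective_apply, Functor.map_comp, Category.assoc]
        rfl }
  exact ⟨r.uniqueUpToIso (adj.representableBy K)⟩

/-- A right adjoint of restriction commutes with shifts. -/
noncomputable def shiftR (n : ℤ) : R ⋙ shiftFunctor (Dual.D B) n ≅ shiftFunctor (Dual.D A) n ⋙ R :=
  (((shiftEquiv' (Dual.D B) (-n) n (neg_add_cancel n)).toAdjunction.comp adj).ofNatIsoLeft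
      ((TD ψ).commShiftIso (-n))).rightAdjointUniq
    (adj.comp (shiftEquiv' (Dual.D A) (-n) n (neg_add_cancel n)).toAdjunction)

/-- `Ext_B(X, R K) = Ext_A(res X, K)`. -/
noncomputable def exAdj (X : Dual.D B) (K : Dual.D A) (i : ℤ) :
    Ex X (R.obj K) i ≃ Ex ((DRing.restrictD ψ).obj X) K i :=
  (Iso.homToEquiv ((shiftR adj i).app K)).trans (adj.homEquiv X (K⟦i⟧)).symm

include adj in
theorem subsingleton_ex_inD (M : Type u) [AddCommGroup M] [Module B M] (K : Dual.D A) (i : ℤ)
    (h : letI := Module.compHom M ψ; Subsingleton (Ex (Dual.inD A M) K i)) :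
    Subsingleton (Ex (Dual.inD B M) (R.obj K) i) := by
  letI := Module.compHom M ψ
  haveI : Subsingleton ((reF ψ ⋙ DerivedCategory.singleFunctor (ModuleCat A) 0).obj (ModuleCat.of B M) ⟶
      (shiftFunctor (Dual.D A) i).obj K) := h
  exact ((exAdj adj (Dual.inD B M) K i).trans
    (Iso.homFromEquiv (((reF ψ).mapDerivedCategorySingleFunctor 0).app (ModuleCat.of B M)))).subsingleton

/-- The function underlying an element of `Hom_A(B, X)`. -/
noncomputable def coeCo (X : ModuleCat.{u} A) (f : (reF ψ).obj ((coF ψ).obj X)) :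
    (ModuleCat.restrictScalars ψ).obj (ModuleCat.of B B) →ₗ[A] X :=
  ModuleCat.CoextendScalars.equiv ψ X (show (coF ψ).obj X from f)

/-- `Hom_A(B, X)`, restricted. -/
noncomputable def resCo (X : ModuleCat.{u} A) :
    letI := ψ.toAlgebra
    (reF ψ).obj ((coF ψ).obj X) ≃ₗ[A] (B →ₗ[A] X) :=
  letI := ψ.toAlgebra
  { toFun := fun f => { toFun := fun b => coeCo X f b
                        map_add' := fun x y => map_add (coeCo X f) x y
                        map_smul' := fun a x => map_smul (coeCo X f) a x }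
    invFun := fun g => show (coF ψ).obj X from (ModuleCat.CoextendScalars.equiv ψ X).symm
      { toFun := fun b => g b
        map_add' := fun x y => map_add g x y
        map_smul' := fun a x => map_smul g a x }
    left_inv := fun _ => rfl
    right_inv := fun _ => rfl
    map_add' := fun _ _ => rfl
    map_smul' := fun a f => LinearMap.ext fun b => by
      show coeCo X f (b * ψ a : B) = a • coeCo X f b
      exact (congrArg (coeCo X f) (mul_comm b (ψ a))).trans (map_smul (coeCo X f) a b) }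

/-- `Hom_A(B, E)`, restricted. -/
noncomputable def resCoCx (E : DRing.Cx A) :
    letI := ψ.toAlgebra
    (reCx ψ).obj ((coCx ψ).obj E) ≅ coind (ModuleCat.of A B) E :=
  letI := ψ.toAlgebra
  HomologicalComplex.Hom.isoOfComponents (fun i => (resCo (ψ := ψ) (E.X i)).toModuleIso) (fun i j _ => rfl)

variable [IsNoetherianRing A] [IsNoetherianRing B]

include adj in
/-- The right adjoint of restriction along a finite map preserves dualizing complexes. -/
theorem isDualizing_rightAdjoint (hψ : ψ.Finite) {ω : Dual.D A} (hω : Dual.IsDualizing A ω) :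
    Dual.IsDualizing B (R.obj ω) := by
  letI := ψ.toAlgebra
  haveI : Module.Finite A B := hψ
  obtain ⟨a, b, E, hv, hE, ⟨e⟩⟩ := Ext.fid_iff.1 (show Ext.FID ω from hω.finite_injective_dimension)
  haveI := Ext.isKInjective_of_vanishesOutside hv hE
  obtain ⟨eJ⟩ := exists_iso_coCx adj e
  obtain ⟨c, d, hcd⟩ := exists_bounds hω
  have hr := isRefl_of_finite hv hE (isRefl_self_of_isDualizing hω e) B
  refine isDualizing_of_iso eJ ⟨inferInstance, ⟨a, b, fun M _ _ i hi => ?_⟩, fun i => ?_, ?_, fun i hi => ?_⟩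
  · letI := Module.compHom M ψ
    haveI := subsingleton_ex_inD adj M ω i (Ext.subsingleton_inD_of_injAmp ⟨E, hv, hE, ⟨e⟩⟩ M hi)
    exact (Ext.postIso _ ((shiftFunctor (Dual.D B) i).mapIso eJ)).injective.subsingleton
  · haveI := H26Dual2.finite_rightAdjoint hψ adj hω.finite_cohomology (c := c) (fun j hj => hcd j (Or.inl hj)) i
    exact Module.Finite.equiv (PCoh.hEquiv i eJ).symm
  · let J := (coCx ψ).obj E
    let r : DRing.toD (coind (ModuleCat.of A B) E) ≅ (TD ψ).obj (DRing.toD J) :=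
      DerivedCategory.Q.mapIso (resCoCx E).symm ≪≫ ((reF ψ).mapDerivedCategoryFactors.app J).symm
    have h0 : ∀ c : B, r.hom ≫ ((TD ψ).map (c • 𝟙 (DRing.toD J)) ≫ epsCo ψ E) =
        DerivedCategory.Q.map (evC E (ModuleCat.of A B) c) := fun c => by
      have h1 := (reF ψ).mapDerivedCategoryFactors.inv.naturality (c • 𝟙 J)
      simp only [Functor.comp_map, Functor.map_smul DerivedCategory.Q, CategoryTheory.Functor.map_id DerivedCategory.Q] at h1
      simp only [r, epsCo, Iso.trans_hom, Iso.symm_hom, Category.assoc]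
      simp only [Iso.app_hom, Iso.app_inv]
      erw [← reassoc_of% h1]
      erw [Iso.inv_hom_id_app_assoc]
      simp only [Functor.mapIso_hom, Iso.symm_hom]
      erw [← DerivedCategory.Q.map_comp, ← DerivedCategory.Q.map_comp]
      refine congrArg DerivedCategory.Q.map (HomologicalComplex.hom_ext _ _ fun i => ModuleCat.hom_ext
        (LinearMap.ext fun (g : B →ₗ[A] E.X i) => ?_))
      show g (1 * c) = g c
      rw [one_mul]
    let Φ : (DRing.toD J ⟶ DRing.toD J) ≃ T E B 0 :=
      (Equiv.ofBijective _ (bijective_epsCo ψ E (DRing.toD J))).trans ((Iso.homFromEquiv r.symm).trans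
        (Iso.homToEquiv ((shiftFunctorZero (Dual.D A) ℤ).app (DRing.toD E)).symm))
    have hΦ : Φ ∘ (fun c : B => c • 𝟙 (DRing.toD J)) = ev E B := funext fun c => by
      show (r.symm.inv ≫ ((TD ψ).map (c • 𝟙 (DRing.toD J)) ≫ epsCo ψ E)) ≫ _ = _
      rw [Iso.symm_inv, h0]
      rfl
    exact (Function.Bijective.of_comp_iff' Φ.bijective _).1 (hΦ ▸ hr.bij)
  · let r : DRing.toD (coind (ModuleCat.of A B) E) ≅ (TD ψ).obj (DRing.toD ((coCx ψ).obj E)) :=
      DerivedCategory.Q.mapIso (resCoCx E).symm ≪≫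
        ((reF ψ).mapDerivedCategoryFactors.app ((coCx ψ).obj E)).symm
    haveI := hr.van i hi
    exact ((Iso.homToEquiv ((shiftFunctor (Dual.D B) i).mapIso eJ)).trans
      ((exAdj adj _ ω i).trans ((Iso.homFromEquiv r.symm).trans
        (Iso.homToEquiv ((shiftFunctor (Dual.D A) i).mapIso e.symm))))).subsingleton

end Groth.Agent.H4DR.Dualizing

namespace Groth.Agent.H4DR.Dualizing

variable {A B : Type u} [CommRing A] [CommRing B] {ψ : A →+* B} {R : Dual.D A ⥤ Dual.D B}
  (adj : DRing.restrictD ψ ⊣ R)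

lemma exAdj_smul (X : Dual.D B) (K : Dual.D A) (i : ℤ) (a : A) (f : Ex X (R.obj K) i) :
    exAdj adj X K i (ψ a • f) = a • exAdj adj X K i f := by
  show (adj.homEquiv X (K⟦i⟧)).symm ((ψ a • f) ≫ _) = a • (adj.homEquiv X (K⟦i⟧)).symm (f ≫ _)
  rw [Linear.smul_comp]
  simp only [Adjunction.homEquiv_counit]
  rw [show ψ a • (f ≫ ((shiftR adj i).app K).hom) = (ψ a • 𝟙 X) ≫ f ≫ ((shiftR adj i).app K).hom by simp,
    Functor.map_comp, H26Dual2.restrictD_smul_id, Category.assoc]
  simp

lemma exAdj_zero (X : Dual.D B) (K : Dual.D A) (i : ℤ) : exAdj adj X K i 0 = 0 := by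
  simpa using exAdj_smul adj X K i 0 0

include adj in
theorem isNormalized_rightAdjoint [IsNoetherianRing A] [IsLocalRing A] [IsLocalRing B] [IsLocalHom ψ]
    (hψ : ψ.Finite) {ω : Dual.D A} (hω : Dual.IsDualizing A ω) (hn : Dual.IsNormalized A ω) :
    Dual.IsNormalized B (R.obj ω) := fun i hi => by
  letI := ψ.toAlgebra
  haveI : Module.Finite A B := hψ
  refine subsingleton_ex_inD adj (IsLocalRing.ResidueField B) ω i ?_
  letI := Module.compHom (IsLocalRing.ResidueField B) ψ
  haveI : Module.Finite A (IsLocalRing.ResidueField B) := by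
    refine Module.Finite.of_surjective
      ({ toFun := IsLocalRing.residue B, map_add' := map_add _, map_smul' := fun a x => ?_ } :
        B →ₗ[A] IsLocalRing.ResidueField B) IsLocalRing.residue_surjective
    show IsLocalRing.residue B (ψ a * x) = IsLocalRing.residue B (ψ a) * IsLocalRing.residue B x
    exact map_mul _ _ _
  refine not_nontrivial_iff_subsingleton.1 fun hne => ?_
  obtain ⟨h1, h2⟩ := (dimBound hω hn (IsLocalRing.ResidueField B) i).2 hne
  have hann : IsLocalRing.maximalIdeal A ≤ Module.annihilator A (IsLocalRing.ResidueField B) := fun a ha =>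
    Module.mem_annihilator.2 fun x => by
      show IsLocalRing.residue B (ψ a) * x = 0
      rw [(IsLocalRing.residue_eq_zero_iff _).2 (show ψ a ∈ IsLocalRing.maximalIdeal B from map_nonunit ψ a ha), zero_mul]
  rw [Module.supportDim_eq_ringKrullDim_quotient_annihilator] at h1
  have h3 := h1.trans (ringKrullDim_le_of_surjective (Ideal.Quotient.factor hann) (Ideal.Quotient.factor_surjective hann))
  letI := Ideal.Quotient.field (IsLocalRing.maximalIdeal A)
  rw [ringKrullDim_eq_zero_of_field] at h3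
  have : ((-i).toNat : WithBot ℕ∞) ≤ ((0 : ℕ) : WithBot ℕ∞) := by simpa using h3
  have := Nat.cast_le.1 this
  omega

end Groth.Agent.H4DR.Dualizing

namespace Groth.Agent.H4DR.Dualizing

/-- Finite algebras over rings with dualizing complexes have dualizing complexes. -/
theorem exists_isDualizing_finite {A B : Type u} [CommRing A] [CommRing B] [IsNoetherianRing A] (ψ : A →+* B)
    (hψ : ψ.Finite) {ω : Dual.D A} (hω : Dual.IsDualizing A ω) : ∃ ω' : Dual.D B, Dual.IsDualizing B ω' := by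
  letI := ψ.toAlgebra
  haveI : Module.Finite A B := hψ
  haveI : IsNoetherianRing B := IsNoetherianRing.of_finite A B
  haveI := H26Dual2.isLeftAdjoint_TD ψ
  exact ⟨_, isDualizing_rightAdjoint (Adjunction.ofIsLeftAdjoint (TD ψ)) hψ hω⟩

end Groth.Agent.H4DR.Dualizing

namespace Groth.Agent.H4DR.Dualizing

variable {A B : Type u} [CommRing A] [CommRing B] {ψ : A →+* B} {R : Dual.D A ⥤ Dual.D B}
  (adj : DRing.restrictD ψ ⊣ R)

include adj in
/-- The dimension function restricts. -/
theorem nontrivial_localized_ex_iff (hs : Function.Surjective ψ) (q : PrimeSpectrum B) (K : Dual.D A) (i : ℤ) :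
    Nontrivial (LocalizedModule q.asIdeal.primeCompl (Ex (Dual.inD B (B ⧸ q.asIdeal)) (R.obj K) i)) ↔
      Nontrivial (LocalizedModule (q.asIdeal.comap ψ).primeCompl
        (Ex (Dual.inD A (A ⧸ q.asIdeal.comap ψ)) K i)) := by
  letI := Module.compHom (B ⧸ q.asIdeal) ψ
  let l : (A ⧸ q.asIdeal.comap ψ) →ₗ[A] (B ⧸ q.asIdeal) := Submodule.liftQ _
    ({ toFun := fun a => Ideal.Quotient.mk q.asIdeal (ψ a)
       map_add' := fun x y => by simp
       map_smul' := fun a x => by
         show Ideal.Quotient.mk q.asIdeal (ψ (a * x)) = (ψ a) • (Ideal.Quotient.mk q.asIdeal (ψ x))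
         rw [map_mul, map_mul]; rfl } : A →ₗ[A] B ⧸ q.asIdeal) fun a ha => Ideal.Quotient.eq_zero_iff_mem.2 ha
  have hl : Function.Bijective l := by
    refine ⟨(injective_iff_map_eq_zero _).2 fun x => Submodule.Quotient.induction_on _ x fun a ha =>
      Ideal.Quotient.eq_zero_iff_mem.2 (show a ∈ q.asIdeal.comap ψ from Ideal.mem_comap.2 <| (Ideal.Quotient.eq_zero_iff_mem (I := q.asIdeal)).1 (show Ideal.Quotient.mk q.asIdeal (ψ a) = 0 from ha)), fun y => ?_⟩
    obtain ⟨b, rfl⟩ := Ideal.Quotient.mk_surjective y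
    obtain ⟨a, rfl⟩ := hs b
    exact ⟨Submodule.Quotient.mk a, rfl⟩
  let π : Ex ((DRing.restrictD ψ).obj (Dual.inD B (B ⧸ q.asIdeal))) K i ≃ₗ[A]
      Ex (Dual.inD A (A ⧸ q.asIdeal.comap ψ)) K i :=
    (Ext.preIso (((reF ψ).mapDerivedCategorySingleFunctor 0).app (ModuleCat.of B (B ⧸ q.asIdeal))).symm _).trans
      (Ext.exCongr (LinearEquiv.ofBijective l hl) _)
  let e := (exAdj adj (Dual.inD B (B ⧸ q.asIdeal)) K i).trans π.toEquiv
  have he : ∀ (a : A) f, e (ψ a • f) = a • e f := fun a f => by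
    show π (exAdj adj _ K i (ψ a • f)) = a • π (exAdj adj _ K i f)
    rw [exAdj_smul, map_smul]
  have he0 : e 0 = 0 := by
    show π (exAdj adj _ K i 0) = 0
    rw [exAdj_zero, map_zero]
  rw [← not_subsingleton_iff_nontrivial, ← not_subsingleton_iff_nontrivial, LocalizedModule.subsingleton_iff,
    LocalizedModule.subsingleton_iff]
  refine not_congr ⟨fun h y => ?_, fun h x => ?_⟩
  · obtain ⟨s, hsq, hsx⟩ := h (e.symm y)
    obtain ⟨a, rfl⟩ := hs s
    exact ⟨a, hsq, by rw [← e.apply_symm_apply y, ← he, hsx, he0]⟩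
  · obtain ⟨a, ha, hax⟩ := h (e x)
    exact ⟨ψ a, ha, e.injective (by rw [he, hax, he0])⟩

end Groth.Agent.H4DR.Dualizing

namespace Groth.Agent.H4DR.Dualizing

variable {A : Type u} [CommRing A]

/-- The triangle of `RHom(A/f, ω) → ω → ω`. -/
theorem exists_triangle_quotient_span {f : A} (hf : f ∈ nonZeroDivisors A) {R : Dual.D A ⥤ Dual.D (A ⧸ Ideal.span {f})}
    (adj : DRing.restrictD (Ideal.Quotient.mk (Ideal.span {f})) ⊣ R) {ω : Dual.D A} (hω : Dual.IsDualizing A ω) :
    ∃ (u : (DRing.restrictD (Ideal.Quotient.mk (Ideal.span {f}))).obj (R.obj ω) ⟶ ω)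
      (w : ω ⟶ ((DRing.restrictD (Ideal.Quotient.mk (Ideal.span {f}))).obj (R.obj ω))⟦(1 : ℤ)⟧),
      Triangle.mk u (f • 𝟙 ω) w ∈ distTriang (Dual.D A) := by
  obtain ⟨a, b, E, hv, hE, ⟨e⟩⟩ := Ext.fid_iff.1 (show Ext.FID ω from hω.finite_injective_dimension)
  haveI := Ext.isKInjective_of_vanishesOutside hv hE
  obtain ⟨eJ⟩ := exists_iso_coCx adj e
  letI := (Ideal.Quotient.mk (Ideal.span {f})).toAlgebra
  let m : A →ₗ[A] A := LinearMap.mulLeft A f
  let g : A →ₗ[A] A ⧸ Ideal.span {f} := Algebra.linearMap A _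
  have hinj : Function.Injective m := fun x y h => (mem_nonZeroDivisors_iff_right.1 hf) |> fun h0 =>
    sub_eq_zero.1 (h0 (x - y) (by simp only [m, LinearMap.mulLeft_apply] at h; rw [sub_mul, mul_comm x, mul_comm y, h, sub_self]))
  have hex : Function.Exact m g := fun x => by
    refine (Ideal.Quotient.eq_zero_iff_mem (I := Ideal.span {f})).trans (Ideal.mem_span_singleton'.trans ?_)
    exact ⟨fun ⟨c, hc⟩ => ⟨c, (mul_comm f c).trans hc⟩, fun ⟨c, hc⟩ => ⟨c, (mul_comm c f).trans hc⟩⟩
  obtain ⟨δ, hT⟩ := exists_triangle hE (L := ModuleCat.of A A) (M := ModuleCat.of A A)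
    (N := ModuleCat.of A (A ⧸ Ideal.span {f})) m g hinj Ideal.Quotient.mk_surjective hex
  let r : DRing.toD (coind (ModuleCat.of A (A ⧸ Ideal.span {f})) E) ≅
      (DRing.restrictD (Ideal.Quotient.mk (Ideal.span {f}))).obj (R.obj ω) :=
    DerivedCategory.Q.mapIso (resCoCx (ψ := Ideal.Quotient.mk (Ideal.span {f})) E).symm ≪≫
      ((reF (Ideal.Quotient.mk (Ideal.span {f}))).mapDerivedCategoryFactors.app _).symm ≪≫
      (DRing.restrictD (Ideal.Quotient.mk (Ideal.span {f}))).mapIso eJ
  let s : DRing.toD (coind (ModuleCat.of A A) E) ≅ ω := DerivedCategory.Q.mapIso (coindSelf E) ≪≫ e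
  refine ⟨r.inv ≫ DerivedCategory.Q.map (cMap E g) ≫ s.hom, s.inv ≫ δ ≫ r.hom⟦(1 : ℤ)⟧',
    isomorphic_distinguished _ hT _ (Triangle.isoMk _ _ r.symm s.symm s.symm ?_ ?_ ?_)⟩
  · show (r.inv ≫ DerivedCategory.Q.map (cMap E g) ≫ s.hom) ≫ s.inv = r.inv ≫ DerivedCategory.Q.map (cMap E g)
    simp
  · show (f • 𝟙 ω) ≫ s.inv = s.inv ≫ DerivedCategory.Q.map (cMap E m)
    rw [show m = f • (LinearMap.id : A →ₗ[A] A) from LinearMap.ext fun x => rfl]
    erw [cMap_smul, Functor.map_smul, cMap_id, CategoryTheory.Functor.map_id]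
    rw [Linear.smul_comp, Linear.comp_smul, Category.id_comp]
    exact congrArg (f • ·) (Category.comp_id _).symm
  · show (s.inv ≫ δ ≫ r.hom⟦(1 : ℤ)⟧') ≫ r.inv⟦(1 : ℤ)⟧' = s.inv ≫ δ
    simp [← Functor.map_comp]

end Groth.Agent.H4DR.Dualizing
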