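import Groth.Agent.H4DR.Dualizing.Compare

/-!
# Shifts of dualizing complexes
-/

set_option autoImplicit false
set_option linter.style.haveILetI false
set_option linter.unusedVariables false

universe u

open CategoryTheory CategoryTheory.Limits Pretriangulated
open Groth.Agent.H4DR.Ext (Ex postIso addLin shiftSrc shiftLin)

attribute [local instance] HasDerivedCategory.standard

namespace Groth.Agent.H4DR.Dualizing

variable {A : Type u} [CommRing A]

theorem isDualizing_shift {ω : Dual.D A} (h : Dual.IsDualizing A ω) (n : ℤ) : Dual.IsDualizing A (ω⟦n⟧) where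
  isNoetherianRing := h.isNoetherianRing
  finite_injective_dimension := by
    obtain ⟨a, b, hab⟩ := h.finite_injective_dimension
    exact ⟨a - n, b - n, fun M _ _ i hi =>
      haveI := hab M (n + i) (by omega)
      (addLin (Dual.inD A M) ω n i (n + i) rfl).injective.subsingleton⟩
  finite_cohomology i :=
    haveI := h.finite_cohomology (n + i)
    Module.Finite.equiv (PCoh.hShift ω n i (n + i) rfl).symm
  toEnd_bijective := by
    have he : (fun a : A => a • 𝟙 (ω⟦n⟧)) = shiftLin ω ω n ∘ (fun a : A => a • 𝟙 ω) := funext fun a => by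
      simp only [Function.comp_apply, map_smul]
      exact congrArg (a • ·) ((shiftFunctor (Dual.D A) n).map_id ω).symm
    rw [he]
    exact (shiftLin ω ω n).bijective.comp h.toEnd_bijective
  ext_self_subsingleton i hi :=
    haveI := h.ext_self_subsingleton i hi
    ((addLin (ω⟦n⟧) ω n i (n + i) rfl).trans
      (shiftSrc ω ω n i (n + i) (add_comm i n)).symm).injective.subsingleton

/-- The shift normalizing a dualizing complex over a local ring. -/
theorem exists_normalized [IsLocalRing A] [IsNoetherianRing A] {ω : Dual.D A} (h : Dual.IsDualizing A ω) :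
    ∃ n : ℤ, Dual.IsNormalized A (ω⟦n⟧) ∧
      Nontrivial (Ex (Dual.inD A (A ⧸ IsLocalRing.maximalIdeal A)) ω n) ∧
      ∀ i : ℤ, i ≠ n → Subsingleton (Ex (Dual.inD A (A ⧸ IsLocalRing.maximalIdeal A)) ω i) := by
  obtain ⟨n, h1, ⟨e⟩⟩ := exists_degree h (IsLocalRing.maximalIdeal A)
  refine ⟨n, fun i hi => ?_, ?_, h1⟩
  · haveI : Subsingleton (Dual.inD A (IsLocalRing.ResidueField A) ⟶ ω⟦n + i⟧) := h1 (n + i) (by omega)
    exact (addLin (Dual.inD A (IsLocalRing.ResidueField A)) ω n i (n + i) rfl).injective.subsingleton
  · haveI : Nontrivial (A ⧸ IsLocalRing.maximalIdeal A) :=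
      Submodule.Quotient.nontrivial_iff.2 (IsLocalRing.maximalIdeal.isMaximal A).ne_top
    exact e.symm.injective.nontrivial

end Groth.Agent.H4DR.Dualizing
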