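import Groth.Agent.H4DR.Dualizing.Twist
import Groth.Agent.H4DR.Dualizing.Compare

/-!
# Twists of a dualizing complex determine the shift and the module
-/

set_option autoImplicit false
set_option linter.style.haveILetI false
set_option linter.unusedVariables false

universe u

open CategoryTheory CategoryTheory.Limits MonoidalCategory
open Groth.Agent.H4DR.TorAmp (tens)

attribute [local instance] HasDerivedCategory.standard

namespace Groth.Agent.H4DR.Dualizing

variable {A : Type u} [CommRing A]

/-- Successive twists. -/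
noncomputable def twComp (P P' R : ModuleCat.{u} A) [Module.Flat A P] [Module.Flat A P'] [Module.Flat A R]
    (s : P ⊗ P' ≅ R) (K : Dual.D A) : (TW P').obj ((TW P).obj K) ≅ (TW R).obj K :=
  let X := DerivedCategory.Q.objPreimage K
  let e := DerivedCategory.Q.objObjPreimageIso K
  let c : tensorRight P ⋙ tensorRight P' ≅ tensorRight R :=
    (tensorRightTensor P P').symm ≪≫ (tensoringRight (ModuleCat.{u} A)).mapIso s
  (TW P').mapIso ((TW P).mapIso e.symm ≪≫ (tensorRight P).mapDerivedCategoryFactors.app X) ≪≫
    (tensorRight P').mapDerivedCategoryFactors.app ((tens P).obj X) ≪≫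
    DerivedCategory.Q.mapIso (HomologicalComplex.Hom.isoOfComponents
      (C₁ := (tens P').obj ((tens P).obj X)) (C₂ := (tens R).obj X) (fun i => c.app (X.X i))
      (fun i j _ => (c.hom.naturality (X.d i j)).symm)) ≪≫
    ((tensorRight R).mapDerivedCategoryFactors.app X).symm ≪≫ (TW R).mapIso e

/-- `(X ⊗ P) ⊗ P^∨ = X`. -/
noncomputable def cancelEquiv (P : Type u) [AddCommGroup P] [Module A P] [Module.Invertible A P]
    (X : Type u) [AddCommGroup X] [Module A X] :
    TensorProduct A (TensorProduct A X P) (Module.Dual A P) ≃ₗ[A] X :=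
  (TensorProduct.assoc A X P (Module.Dual A P)).trans
    ((TensorProduct.congr (LinearEquiv.refl A X)
      ((TensorProduct.comm A P (Module.Dual A P)).trans (Module.Invertible.linearEquiv A P))).trans
      (TensorProduct.rid A X))

lemma subsingleton_tensor_left (X Y : Type u) [AddCommGroup X] [Module A X] [AddCommGroup Y] [Module A Y]
    [Subsingleton X] : Subsingleton (TensorProduct A X Y) :=
  subsingleton_of_forall_eq 0 fun t => by
    induction t using TensorProduct.induction_on with
    | zero => rfl
    | tmul x p => rw [Subsingleton.elim x 0, TensorProduct.zero_tmul]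
    | add a b ha hb => rw [ha, hb, add_zero]

lemma nontrivial_tensor_iff (P : Type u) [AddCommGroup P] [Module A P] [Module.Invertible A P]
    (X : Type u) [AddCommGroup X] [Module A X] : Nontrivial (TensorProduct A X P) ↔ Nontrivial X := by
  rw [← not_subsingleton_iff_nontrivial, ← not_subsingleton_iff_nontrivial, not_iff_not]
  refine ⟨fun h => ?_, fun h => subsingleton_tensor_left (A := A) X P⟩
  haveI := subsingleton_tensor_left (A := A) (TensorProduct A X P) (Module.Dual A P)
  exact (cancelEquiv (A := A) P X).symm.injective.subsingleton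

lemma nontrivial_HD_twist_shift (P : Type u) [AddCommGroup P] [Module A P] [Module.Invertible A P]
    (ω : Dual.D A) (n i : ℤ) :
    Nontrivial (Dual.HD A (((TW (ModuleCat.of A P)).obj ω)⟦n⟧) i) ↔ Nontrivial (Dual.HD A ω (n + i)) := by
  rw [(PCoh.hShift _ n i (n + i) rfl).toEquiv.nontrivial_congr, (hdTW P ω (n + i)).toEquiv.nontrivial_congr,
    nontrivial_tensor_iff]

theorem twist_shift_unique [IsNoetherianRing A] [Nontrivial A] {ω : Dual.D A} (hω : Dual.IsDualizing A ω)
    (P P' : Type u) [AddCommGroup P] [Module A P] [Module.Invertible A P] [AddCommGroup P'] [Module A P']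
    [Module.Invertible A P'] (n n' : ℤ)
    (h : Nonempty (((TW (ModuleCat.of A P)).obj ω)⟦n⟧ ≅ ((TW (ModuleCat.of A P')).obj ω)⟦n'⟧)) :
    n = n' ∧ Nonempty (P ≃ₗ[A] P') := by
  obtain ⟨h⟩ := h
  obtain ⟨c, d, hcd⟩ := exists_bounds hω
  have hne : ∃ i, Nontrivial (Dual.HD A ω i) := by
    by_contra hc
    simp only [not_exists, not_nontrivial_iff_subsingleton] at hc
    have hz := isZero_of_subsingleton_HD hc
    exact zero_ne_one (hω.toEnd_bijective.1 (a₁ := (0 : A)) (a₂ := 1) (hz.eq_of_src _ _))
  have hbdd : ∃ b : ℤ, ∀ z, Nontrivial (Dual.HD A ω z) → z ≤ b := ⟨d, fun z hz => by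
    by_contra hlt
    exact not_subsingleton_iff_nontrivial.2 hz (hcd z (Or.inr (by omega)))⟩
  obtain ⟨m, hm, hmax⟩ := Int.exists_greatest_of_bdd hbdd hne
  have key : ∀ i, Nontrivial (Dual.HD A ω (n + i)) ↔ Nontrivial (Dual.HD A ω (n' + i)) := fun i => by
    rw [← nontrivial_HD_twist_shift P, ← nontrivial_HD_twist_shift P',
      (PCoh.hEquiv i h).toEquiv.nontrivial_congr]
  have e1 := hmax _ ((key (m - n)).1 (by rwa [show n + (m - n) = m by ring]))
  have e2 := hmax _ ((key (m - n')).2 (by rwa [show n' + (m - n') = m by ring]))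
  obtain rfl : n = n' := by omega
  refine ⟨rfl, ?_⟩
  let k : (TW (ModuleCat.of A P)).obj ω ≅ (TW (ModuleCat.of A P')).obj ω :=
    ((shiftFunctor (Dual.D A) n).preimageIso h)
  let R := TensorProduct A P' (Module.Dual A P)
  let w : (TW (ModuleCat.of A R)).obj ω ≅ ω :=
    (twComp (ModuleCat.of A P') (ModuleCat.of A (Module.Dual A P)) (ModuleCat.of A R) (Iso.refl _) ω).symm ≪≫
      (TW (ModuleCat.of A (Module.Dual A P))).mapIso k.symm ≪≫
      (twCancel (ModuleCat.of A P) (ModuleCat.of A (Module.Dual A P)) (invCancel P)).app ω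
  obtain ⟨r⟩ := nonempty_equiv_of_twist hω R ⟨w⟩
  exact ⟨(((TensorProduct.assoc A P' (Module.Dual A P) P).trans
    ((TensorProduct.congr (LinearEquiv.refl A P') (Module.Invertible.linearEquiv A P)).trans
      (TensorProduct.rid A P'))).symm.trans
    ((TensorProduct.congr r (LinearEquiv.refl A P)).trans (TensorProduct.lid A P))).symm⟩

end Groth.Agent.H4DR.Dualizing
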