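import Groth.Agent.H4DR.Dualizing.Twist
import Groth.Agent.H4DR.Dualizing.TwistUnique
import Groth.Agent.H4DR.Dualizing.Local
import Groth.Agent.H4DR.Dualizing.Shift
import Groth.Agent.H4DR.LD.Applications
import Groth.Agent.H05EGA4.QFApply
import Mathlib.RingTheory.Spectrum.Prime.FreeLocus
import Mathlib.RingTheory.Flat.EquationalCriterion

/-!
# Dualizing complexes over a connected ring are unique up to shift and twist
-/

set_option autoImplicit false
set_option linter.style.haveILetI false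
set_option linter.unusedVariables false

universe u

open CategoryTheory CategoryTheory.Limits CochainComplex CochainComplex.HomComplex
open Groth.Agent.H4DR.Ext (Ex)
open Groth.Agent.H4DR.DComplete (coind hQ exists_Q_map_eq)
open Groth.Agent.H4DR.RHom (cls_eq_zero_iff exists_cls)
open Groth.Agent.H4DR.Dualizing.WayOut (nonempty_dual_iso)
open scoped TensorProduct

attribute [local instance] HasDerivedCategory.standard

namespace Groth.Agent.H4DR.Dualizing

variable {A : Type u} [CommRing A]

section HomClass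

variable (K J : DRing.Cx A) [CochainComplex.IsKInjective J] (i : ℤ)

/-- The morphism of a cocycle. -/
noncomputable def homOfCocycle :
    LinearMap.ker ((DRing.homCx K J).d i (i + 1)).hom →ₗ[A] (DRing.toD K ⟶ (DRing.toD J)⟦i⟧) :=
  let f : Cocycle K J i →+ (DRing.toD K ⟶ (DRing.toD J)⟦i⟧) :=
    AddMonoidHom.mk' (fun z => DerivedCategory.Q.map (Cocycle.equivHomShift.symm z) ≫
        ((DerivedCategory.Q.commShiftIso i).hom.app J))
      fun z w => by rw [map_add, Functor.map_add, Preadditive.add_comp]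
  have hf : ∀ (a : A) (z : Cocycle K J i), f (a • z) = a • f z := fun a z => by
    show DerivedCategory.Q.map (Cocycle.equivHomShift.symm (a • z)) ≫ _ = a • (DerivedCategory.Q.map _ ≫ _)
    rw [show a • z = z.precomp (a • 𝟙 K) from Cocycle.ext (Cochain.ext _ _ fun m q h => by simp [Cocycle.precomp]),
      Cocycle.equivHomShift_symm_precomp, Linear.smul_comp, Category.id_comp, Functor.map_smul, Linear.smul_comp]
  { toFun := fun z => f (Cocycle.mk (show Cochain K J i from z.1) (i + 1) rfl (LinearMap.mem_ker.1 z.2))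
    map_add' := fun z w => map_add f (Cocycle.mk (show Cochain K J i from z.1) (i + 1) rfl (LinearMap.mem_ker.1 z.2))
      (Cocycle.mk (show Cochain K J i from w.1) (i + 1) rfl (LinearMap.mem_ker.1 w.2))
    map_smul' := fun a z => hf a (Cocycle.mk (show Cochain K J i from z.1) (i + 1) rfl (LinearMap.mem_ker.1 z.2)) }

theorem homOfCocycle_surjective : Function.Surjective (homOfCocycle K J i) := fun x => by
  obtain ⟨g, hg⟩ := exists_Q_map_eq (P := K) (J := J⟦i⟧) (x ≫ (DerivedCategory.Q.commShiftIso i).inv.app J)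
  refine ⟨⟨(Cocycle.equivHomShift g).1, LinearMap.mem_ker.2 (Cocycle.δ_eq_zero _ (i + 1))⟩, ?_⟩
  show DerivedCategory.Q.map (Cocycle.equivHomShift.symm (Cocycle.equivHomShift g)) ≫ _ = x
  rw [AddEquiv.symm_apply_apply, hg]
  exact (Category.assoc _ _ _).trans ((congrArg (x ≫ ·) ((DerivedCategory.Q.commShiftIso i).app J).inv_hom_id).trans (Category.comp_id _))

theorem homOfCocycle_eq_zero_iff (z : LinearMap.ker ((DRing.homCx K J).d i (i + 1)).hom) :
    homOfCocycle K J i z = 0 ↔ clsL (DRing.homCx K J) i z = 0 := by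
  let c : Cocycle K J i := Cocycle.mk (show Cochain K J i from z.1) (i + 1) rfl (LinearMap.mem_ker.1 z.2)
  have hzero : DerivedCategory.Q.map (Cocycle.equivHomShift.symm c) = 0 ↔ c ∈ coboundaries K J i := by
    rw [← CohomologyClass.toHom_mk_eq_zero_iff, CohomologyClass.toHom_mk]
    refine ⟨fun h0 => ?_, fun h0 => ?_⟩
    · rw [HomotopyCategory.eq_of_homotopy _ _ (RHom.nonempty_homotopy_of_Q_map _ h0).some, Functor.map_zero]
    · rw [DerivedCategory.Q_map_eq_of_homotopy (h := HomotopyCategory.homotopyOfEq _ _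
        (h0.trans (Functor.map_zero _ _ _).symm)), Functor.map_zero]
  rw [mem_coboundaries_iff _ (i - 1) (by omega)] at hzero
  show DerivedCategory.Q.map (Cocycle.equivHomShift.symm c) ≫ _ = 0 ↔ _
  rw [Preadditive.IsIso.comp_right_eq_zero, hzero]
  exact (cls_eq_zero_iff (DRing.homCx K J) i z.1 (LinearMap.mem_ker.1 z.2)).symm

/-- `H^i(Hom•(K, J)) = Hom_D(K, J⟦i⟧)`. -/
noncomputable def homClassEquiv :
    Dual.HD A (DRing.toD (DRing.homCx K J)) i ≃ₗ[A] (DRing.toD K ⟶ (DRing.toD J)⟦i⟧) :=
  (hQ (DRing.homCx K J) i).trans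
    ((LinearMap.quotKerEquivOfSurjective (clsL (DRing.homCx K J) i) fun x => by
        obtain ⟨z, hz, h⟩ := exists_cls (DRing.homCx K J) i x
        exact ⟨⟨z, LinearMap.mem_ker.2 hz⟩, h⟩).symm.trans
      ((Submodule.quotEquivOfEq _ _ (by
          ext z
          exact (homOfCocycle_eq_zero_iff K J i z).symm)).trans
        (LinearMap.quotKerEquivOfSurjective _ (homOfCocycle_surjective K J i))))

end HomClass

theorem subsingleton_shift_hom' {ω : Dual.D A} (hω : Dual.IsDualizing A ω) (p i : ℤ) (hi : i ≠ p) :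
    Subsingleton (ω⟦p⟧ ⟶ ω⟦i⟧) := by
  haveI := hω.ext_self_subsingleton (i - p) (by omega)
  let c := (CategoryTheory.shiftFunctorAdd' (Dual.D A) (i - p) p i (by omega)).app ω
  refine subsingleton_of_forall_eq 0 fun f => ?_
  obtain ⟨g, hg⟩ := (CategoryTheory.shiftFunctor (Dual.D A) p).map_surjective (f ≫ c.hom)
  refine (cancel_mono c.hom).1 (hg.symm.trans ?_)
  rw [Subsingleton.elim g 0, Functor.map_zero, zero_comp]

/-- `End(ω⟦p⟧) = A`. -/
noncomputable def endShiftEquiv {ω : Dual.D A} (hω : Dual.IsDualizing A ω) (p : ℤ) :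
    A ≃ₗ[A] (ω⟦p⟧ ⟶ ω⟦p⟧) :=
  (LinearEquiv.ofBijective (LinearMap.toSpanSingleton A (ω ⟶ ω) (𝟙 ω)) hω.toEnd_bijective).trans
    (LinearEquiv.ofBijective ((CategoryTheory.shiftFunctor (Dual.D A) p).mapLinearMap A)
      ⟨(CategoryTheory.shiftFunctor (Dual.D A) p).map_injective,
        (CategoryTheory.shiftFunctor (Dual.D A) p).map_surjective⟩)

section SingleModule

/-- A sign as a linear equivalence. -/
noncomputable def LinearEquiv.smulOfUnit' {N : Type u} [AddCommGroup N] [Module A N] (s : ℤˣ) : N ≃ₗ[A] N where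
  toFun x := s • x
  map_add' x y := smul_add s x y
  map_smul' a x := smul_comm s a x
  invFun x := s • x
  left_inv x := by simp [smul_smul, Int.units_mul_self]
  right_inv x := by simp [smul_smul, Int.units_mul_self]

variable (E : DRing.Cx A) (p : ℤ) (M : ModuleCat.{u} A)

/-- Cochains out of a single module. -/
noncomputable def fromSingleLin (m q : ℤ) (h : p + m = q) :
    Cochain ((CochainComplex.singleFunctor (ModuleCat.{u} A) p).obj M) E m ≃ₗ[A] (M →ₗ[A] E.X q) :=
  ({ Cochain.fromSingleEquiv (X := M) (K := E) h with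
      map_smul' := fun a z => (congrArg (fun t => _ ≫ t) (Cochain.smul_v a z p q h)).trans (Linear.comp_smul _ _ _ _ _ _) } :
    Cochain ((CochainComplex.singleFunctor (ModuleCat.{u} A) p).obj M) E m ≃ₗ[A] (M ⟶ E.X q)).trans
      (ModuleCat.homLinearEquiv (S := A))

lemma fromSingleLin_δ (m q q' : ℤ) (h : p + m = q) (hq : q + 1 = q')
    (z : Cochain ((CochainComplex.singleFunctor (ModuleCat.{u} A) p).obj M) E m) :
    fromSingleLin E p M (m + 1) q' (by omega) (δ m (m + 1) z) = (E.d q q').hom ∘ₗ fromSingleLin E p M m q h z := by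
  obtain ⟨f, rfl⟩ : ∃ f : M ⟶ E.X q, Cochain.fromSingleMk f h = z :=
    ⟨_, (Cochain.fromSingleEquiv (X := M) (K := E) h).symm_apply_apply z⟩
  show ((Cochain.fromSingleEquiv _) (δ m (m + 1) (Cochain.fromSingleMk f h))).hom =
    (E.d q q').hom ∘ₗ ((Cochain.fromSingleEquiv h) (Cochain.fromSingleMk f h)).hom
  rw [Cochain.δ_fromSingleMk f h (m + 1) q' (by omega), Cochain.fromSingleEquiv_fromSingleMk,
    Cochain.fromSingleEquiv_fromSingleMk]
  rfl

/-- `Hom•(M[-p], E) = Hom(M, E)⟦p⟧`. -/
theorem nonempty_dual_single_module :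
    Nonempty (DRing.homCx ((CochainComplex.singleFunctor (ModuleCat.{u} A) p).obj M) E ≅ (coind M E)⟦p⟧) := by
  let c : ∀ m, ((DRing.homCx ((CochainComplex.singleFunctor (ModuleCat.{u} A) p).obj M) E).X m) ≃ₗ[A]
      (M →ₗ[A] E.X (m + p)) := fun m =>
    (fromSingleLin E p M m (m + p) (add_comm p m)).trans
      (LinearEquiv.smulOfUnit' (p * m).negOnePow)
  refine ⟨HomologicalComplex.Hom.isoOfComponents
    (fun m => LinearEquiv.toModuleIso (X₁ := (DRing.homCx ((CochainComplex.singleFunctor (ModuleCat.{u} A) p).obj M) E).X m)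
      (X₂ := ((coind M E)⟦p⟧).X m) (c m)) (fun m m' hm => ?_)⟩
  obtain rfl : m + 1 = m' := hm
  refine ModuleCat.hom_ext (LinearMap.ext fun
    (z : Cochain ((CochainComplex.singleFunctor (ModuleCat.{u} A) p).obj M) E m) => ?_)
  show p.negOnePow • ((E.d (m + p) (m + 1 + p)).hom ∘ₗ ((p * m).negOnePow • fromSingleLin E p M m (m + p) (add_comm p m) z)) =
    (p * (m + 1)).negOnePow • fromSingleLin E p M (m + 1) (m + 1 + p) (by omega) (δ m (m + 1) z)
  rw [fromSingleLin_δ E p M m (m + p) (m + 1 + p) (add_comm p m) (by omega) z]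
  simp only [Units.smul_def, LinearMap.comp_smul, smul_smul]
  congr 1
  rw [← Units.val_mul, ← Int.negOnePow_add, show p + p * m = p * (m + 1) by ring]

end SingleModule

variable [IsNoetherianRing A] {ω ω' : Dual.D A} (hω : Dual.IsDualizing A ω) (hω' : Dual.IsDualizing A ω')
include hω hω'

/-- `Hom(ω', ω⟦i⟧)` at a prime. -/
theorem exists_localized_ex (q : PrimeSpectrum A) :
    ∃ k : ℤ, (∀ i : ℤ, i ≠ k → Subsingleton (Loc q ⊗[A] Ex ω' ω i)) ∧
      Nonempty ((Loc q ⊗[A] Ex ω' ω k) ≃ₗ[Loc q] Loc q) := by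
  haveI := IsLocalization.flat (Loc q) q.asIdeal.primeCompl
  haveI : IsNoetherianRing (Loc q) := IsLocalization.isNoetherianRing q.asIdeal.primeCompl (Loc q) ‹_›
  obtain ⟨c, d, hcd⟩ := exists_bounds hω
  obtain ⟨c', d', hcd'⟩ := exists_bounds hω'
  obtain ⟨k, ⟨e⟩⟩ := unique_up_to_shift (loc ω q) (loc ω' q) (isDualizing_loc hω q) (isDualizing_loc hω' q)
  have hb : ∀ i : ℤ, FlatBC.Bij (Loc q) ω' (ω⟦i⟧) := fun i =>
    FlatBC.bij_of_finite (a := c - i) (m := c') (m' := d') hcd' hω'.finite_cohomology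
      (FlatBC.subsingleton_HD_shift (fun j hj => hcd j (Or.inl hj)) i)
  let g : ∀ i, (Loc q ⊗[A] Ex ω' ω i) ≃ₗ[Loc q] ((loc ω q)⟦k⟧ ⟶ (loc ω q)⟦i⟧) := fun i =>
    (FlatBC.exBC (hb i)).trans (Ext.preIso e.symm _)
  refine ⟨k, fun i hi => ?_, ⟨(g k).trans (endShiftEquiv (isDualizing_loc hω q) k).symm⟩⟩
  haveI := subsingleton_shift_hom' (isDualizing_loc hω q) k i hi
  exact (g i).injective.subsingleton

theorem exists_invertible_shift_twist [ConnectedSpace (PrimeSpectrum A)] :
    ∃ (P : Type u) (_ : AddCommGroup P) (_ : Module A P) (_ : Module.Invertible A P) (n : ℤ),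
      Nonempty (ω' ≅ ((TW (ModuleCat.of A P)).obj ω)⟦n⟧) := by
  classical
  obtain ⟨a, b, E, hv, hE, ⟨e⟩⟩ := Ext.fid_iff.1 (show Ext.FID ω from hω.finite_injective_dimension)
  haveI := Ext.isKInjective_of_vanishesOutside hv hE
  have hωE : Dual.IsDualizing A (DRing.toD E) := isDualizing_of_iso e.symm hω
  let W := DerivedCategory.Q.objPreimage ω'
  let eW : DRing.toD W ≅ ω' := DerivedCategory.Q.objObjPreimageIso ω'
  have hW : ∀ i, Module.Finite A (Dual.HD A (DRing.toD W) i) := fun i =>
    haveI := hω'.finite_cohomology i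
    Module.Finite.equiv (PCoh.hEquiv i eW).symm
  let G := DRing.homCx W E
  let H : ℤ → ModuleCat.{u} A := fun i => ModuleCat.of A (Dual.HD A (DRing.toD G) i)
  let eH : ∀ i, H i ≃ₗ[A] Ex ω' ω i := fun i =>
    (homClassEquiv W E i).trans ((Ext.preIso eW.symm _).trans
      (Ext.postIso ω' ((CategoryTheory.shiftFunctor (Dual.D A) i).mapIso e)))
  have hfin : ∀ i, Module.Finite A (H i) := fun i => by
    have h := (finite_homology_aux hv hE hωE.finite_cohomology).of_finite W hW (-i)
    rw [neg_neg] at h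
    haveI := h
    exact Module.Finite.equiv (hQ G i).symm
  choose k hk0 hk1 using exists_localized_ex hω hω'
  have eHq : ∀ (q : PrimeSpectrum A) (i : ℤ), (Loc q ⊗[A] H i) ≃ₗ[Loc q] (Loc q ⊗[A] Ex ω' ω i) := fun q i =>
    LinearEquiv.baseChange A (Loc q) (H i) (Ex ω' ω i) (eH i)
  have hsupp : ∀ (q : PrimeSpectrum A) (i : ℤ), q ∈ Module.support A (H i) ↔ i = k q := fun q i => by
    rw [mem_support_iff_nontrivial, (eHq q i).toEquiv.nontrivial_congr]
    refine ⟨fun hn => ?_, fun hi => hi ▸ ?_⟩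
    · by_contra hi
      exact not_subsingleton_iff_nontrivial.2 hn (hk0 q i hi)
    · exact (hk1 q).some.toEquiv.nontrivial_congr.2 inferInstance
  have hfree : ∀ (q : PrimeSpectrum A) (i : ℤ), Module.Free (Loc q) (Loc q ⊗[A] H i) := fun q i => by
    by_cases hi : i = k q
    · subst hi
      exact Module.Free.of_equiv ((eHq q (k q)).trans (hk1 q).some).symm
    · haveI := hk0 q i hi
      haveI : Subsingleton (Loc q ⊗[A] H i) := (eHq q i).injective.subsingleton
      exact Module.Free.of_subsingleton _ _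
  haveI := hfin
  have hflat : ∀ i, Module.Flat A (H i) := fun i => Module.flat_of_localized_maximal (M := H i) fun m hm => by
    let q : PrimeSpectrum A := ⟨m, hm.isPrime⟩
    haveI := hfree q i
    haveI : Module.Flat A (Loc q) := IsLocalization.flat (Loc q) q.asIdeal.primeCompl
    haveI : Module.Flat (Loc q) (Loc q ⊗[A] H i) :=
      haveI : Module.Projective (Loc q) (Loc q ⊗[A] H i) := Module.Projective.of_free
      @Module.Flat.of_projective (Loc q) (Loc q ⊗[A] H i) _ _ _ ‹_›
    haveI : Module.Flat A (Loc q ⊗[A] H i) := Module.Flat.trans A (Loc q) _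
    exact Module.Flat.of_linearEquiv ((LocalizedModule.equivTensorProduct m.primeCompl (H i)).restrictScalars A)
  obtain ⟨q₀⟩ := (inferInstance : Nonempty (PrimeSpectrum A))
  let n := k q₀
  have hn : ∀ q, k q = n := by
    haveI := hflat n
    haveI : Module.FinitePresentation A (H n) := Module.finitePresentation_of_finite A (H n)
    have hopen : IsOpen (Module.support A (H n)) := by
      rw [show Module.support A (H n) = {p | Module.rankAtStalk (R := A) (H n) p = 0}ᶜ from Set.ext fun p =>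
        (Module.rankAtStalk_pos_iff_mem_support (R := A) (M := H n) p).symm.trans Nat.pos_iff_ne_zero]
      exact ((Module.isLocallyConstant_rankAtStalk (R := A) (M := H n)).isClopen_fiber 0).1.isOpen_compl
    have hcl : IsClopen (Module.support A (H n)) := ⟨Module.isClosed_support, hopen⟩
    have := hcl.eq_univ ⟨q₀, (hsupp q₀ n).2 rfl⟩
    intro q
    exact ((hsupp q n).1 (this ▸ Set.mem_univ q)).symm
  have hzero : ∀ i, i ≠ n → Subsingleton (H i) := fun i hi =>
    (Module.support_eq_empty_iff (R := A) (M := H i)).1 (Set.eq_empty_iff_forall_notMem.2 fun q hq =>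
      hi (((hsupp q i).1 hq).trans (hn q)))
  haveI : Module.Invertible A (H n) := H05EGA4.QFApply.invertible_of_local fun m hm => by
    let q : PrimeSpectrum A := ⟨m, hm.isPrime⟩
    refine ⟨Loc q, inferInstance, inferInstance, inferInstance, IsLocalization.flat (Loc q) q.asIdeal.primeCompl,
      Localization.AtPrime.under_maximalIdeal, ?_⟩
    rw [← hn q]
    exact ⟨(eHq q (k q)).trans (hk1 q).some⟩
  obtain ⟨g⟩ := nonempty_iso_single (X := DRing.toD G) n hzero (LinearEquiv.refl A (H n))
  let S := (CochainComplex.singleFunctor (ModuleCat.{u} A) n).obj (H n)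
  let gS : DRing.toD G ≅ DRing.toD S := g ≪≫ (PCoh.singleIso (H n) n).symm
  obtain ⟨s⟩ := nonempty_dual_iso E gS
  haveI := quasiIso_ddEta hv hE hωE W hW
  obtain ⟨t⟩ := nonempty_dual_single_module E n (H n)
  refine ⟨Module.Dual A (H n), inferInstance, inferInstance, inferInstance, n, ⟨?_⟩⟩
  exact eW.symm ≪≫ asIso (DerivedCategory.Q.map (ddEta E W)) ≪≫ s ≪≫ DerivedCategory.Q.mapIso t ≪≫
    (DerivedCategory.Q.commShiftIso n).app _ ≪≫ (CategoryTheory.shiftFunctor (Dual.D A) n).mapIso
      (twCoind (H n) E e).symm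

end Groth.Agent.H4DR.Dualizing
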