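import Groth.Agent.H4DR.Dualizing.Normalized
import Groth.Agent.H4Inj.Essential

/-!
# Normalized dualizing complexes in dimension zero
-/

set_option autoImplicit false
set_option linter.style.haveILetI false
set_option linter.unusedVariables false

universe u

open CategoryTheory CategoryTheory.Limits Pretriangulated
open Groth.Agent.H4DR.Ext (Ex pre)

attribute [local instance] HasDerivedCategory.standard

namespace Groth.Agent.H4DR.Dualizing

variable {A : Type u} [CommRing A] [IsLocalRing A] [IsNoetherianRing A] {ω : Dual.D A}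

theorem nonempty_iso_inD_of_dim_zero (h0 : ringKrullDim A = 0) (hω : Dual.IsDualizing A ω)
    (hn : Dual.IsNormalized A ω) : Nonempty (ω ≅ Dual.inD A (Dual.HD A ω 0)) := by
  have hX : ∀ j : ℤ, j ≠ 0 → Subsingleton (Dual.HD A ω j) := fun j hj => by
    haveI : Subsingleton (Ex (Dual.inD A A) ω j) := ?_
    · exact (Ext.evalEquiv ω j).symm.injective.subsingleton
    refine not_nontrivial_iff_subsingleton.1 fun hne => ?_
    obtain ⟨h1, h2⟩ := (dimBound hω hn A j).2 hne
    rw [Module.supportDim_self_eq_ringKrullDim, h0] at h1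
    have : (-j).toNat ≤ 0 := by exact_mod_cast h1
    omega
  obtain ⟨e⟩ := nonempty_iso_single (0 : ℤ) hX (LinearEquiv.refl A (Dual.HD A ω 0))
  exact ⟨e ≪≫ (shiftFunctorZero' (Dual.D A) (-(0 : ℤ)) neg_zero).app _⟩

omit [IsLocalRing A] [IsNoetherianRing A] in
/-- Linear maps as morphisms in degree zero. -/
theorem exists_inM_eq {M N : Type u} [AddCommGroup M] [Module A M] [AddCommGroup N] [Module A N]
    (s : Dual.inD A M ⟶ Dual.inD A N) :
    ∃ g : M →ₗ[A] N, s = Ext.inM (L := ModuleCat.of A M) (M := ModuleCat.of A N) g := by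
  obtain ⟨g, hg⟩ := (DerivedCategory.singleFunctor (ModuleCat.{u} A) 0).map_surjective
    (X := ModuleCat.of A M) (Y := ModuleCat.of A N) s
  exact ⟨g.hom, hg.symm⟩

variable {N : Type u} [AddCommGroup N] [Module A N]

theorem injective_of_iso (hω : Dual.IsDualizing A ω) (hn : Dual.IsNormalized A ω) (e : ω ≅ Dual.inD A N) :
    Module.Injective A N := by
  refine Module.Baer.injective fun I φ => ?_
  obtain ⟨δ, hT⟩ := Ext.exists_triangle (Submodule.subtype I) I.mkQ Subtype.val_injective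
    I.mkQ_surjective (LinearMap.exact_subtype_mkQ I)
  have hs := Ext.surjective_pre₁ _ hT (W := ω) (i := 0) rfl (subsingleton_ex_pos hω hn _ one_pos)
  let z : ω⟦(0 : ℤ)⟧ ≅ Dual.inD A N := (shiftFunctorZero (Dual.D A) ℤ).app ω ≪≫ e
  obtain ⟨s, hs'⟩ := hs (Ext.inM (L := ModuleCat.of A I) (M := ModuleCat.of A N) φ ≫ z.inv)
  obtain ⟨g, hg⟩ := exists_inM_eq (M := A) (N := N) (s ≫ z.hom)
  refine ⟨g, fun x hx => ?_⟩
  have h1 : Ext.inM (L := ModuleCat.of A I) (M := ModuleCat.of A A) I.subtype ≫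
      Ext.inM (L := ModuleCat.of A A) (M := ModuleCat.of A N) g =
      Ext.inM (L := ModuleCat.of A I) (M := ModuleCat.of A N) φ := by
    refine (congrArg (_ ≫ ·) hg.symm).trans ?_
    refine ((Category.assoc _ _ _).symm.trans (congrArg (· ≫ z.hom) hs')).trans ?_
    exact (Category.assoc _ _ _).trans ((congrArg (_ ≫ ·) z.inv_hom_id).trans (Category.comp_id _))
  have h2 := (DerivedCategory.singleFunctor (ModuleCat.{u} A) 0).map_injective
    ((Functor.map_comp _ _ _).trans h1)
  exact congrArg (fun t : ModuleCat.of A I ⟶ ModuleCat.of A N => t.hom ⟨x, hx⟩) h2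

theorem exists_hull (h0 : ringKrullDim A = 0) (hω : Dual.IsDualizing A ω) (hn : Dual.IsNormalized A ω)
    (e : ω ≅ Dual.inD A N) :
    ∃ f : (A ⧸ IsLocalRing.maximalIdeal A) →ₗ[A] N, InjHull.IsInjectiveHull f := by
  let z : ω⟦(0 : ℤ)⟧ ≅ Dual.inD A N := (shiftFunctorZero (Dual.D A) ℤ).app ω ≪≫ e
  obtain ⟨ek⟩ := norm_degree hω hn
  let ε : (Dual.inD A (A ⧸ IsLocalRing.maximalIdeal A) ⟶ Dual.inD A N) ≃ₗ[A] (A ⧸ IsLocalRing.maximalIdeal A) :=
    (Linear.homCongr A (Iso.refl _) z).symm ≪≫ₗ ek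
  obtain ⟨f, hf⟩ := exists_inM_eq (M := A ⧸ IsLocalRing.maximalIdeal A) (N := N)
    (ε.symm (Submodule.Quotient.mk (1 : A)))
  have hall : ∀ g : (A ⧸ IsLocalRing.maximalIdeal A) →ₗ[A] N, ∃ r : A, g = r • f := fun g => by
    obtain ⟨r, hr⟩ := Submodule.Quotient.mk_surjective _
      (ε (Ext.inM (L := ModuleCat.of A (A ⧸ IsLocalRing.maximalIdeal A)) (M := ModuleCat.of A N) g))
    refine ⟨r, ?_⟩
    have h1 : Ext.inM (L := ModuleCat.of A (A ⧸ IsLocalRing.maximalIdeal A)) (M := ModuleCat.of A N) g =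
        r • Ext.inM (L := ModuleCat.of A (A ⧸ IsLocalRing.maximalIdeal A)) (M := ModuleCat.of A N) f := by
      apply ε.injective
      rw [← hr, ← hf, map_smul, ε.apply_symm_apply, ← Submodule.Quotient.mk_smul, smul_eq_mul, mul_one]
    have h2 := (DerivedCategory.singleFunctor (ModuleCat.{u} A) 0).map_injective
      (h1.trans (Functor.map_smul _ _ _).symm)
    exact congrArg ModuleCat.Hom.hom h2
  haveI := (IsLocalRing.maximalIdeal.isMaximal A)
  haveI : IsSimpleModule A (A ⧸ IsLocalRing.maximalIdeal A) :=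
    isSimpleModule_iff_isCoatom.2 (Ideal.isMaximal_def.1 inferInstance)
  have hfinj : Function.Injective f := by
    rcases LinearMap.injective_or_eq_zero f with h | h
    · exact h
    · exfalso
      have : ε.symm (Submodule.Quotient.mk (1 : A)) = 0 := by
        rw [hf, h]; exact Functor.map_zero _ _ _
      rw [LinearEquiv.map_eq_zero_iff, Submodule.Quotient.mk_eq_zero] at this
      exact (IsLocalRing.maximalIdeal.isMaximal A).ne_top ((Ideal.eq_top_iff_one _).2 this)
  refine ⟨f, H4Inj.isEssentialInj_of_forall hfinj fun x hx => ?_, injective_of_iso hω hn e⟩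
  haveI : Nontrivial (Submodule.span A {x}) := Submodule.nontrivial_iff_ne_bot.2 (by simpa using hx)
  obtain ⟨p, hp⟩ := associatedPrimes.nonempty A (Submodule.span A {x})
  haveI := hp.isPrime
  haveI : Ring.KrullDimLE 0 A := by rw [Ring.krullDimLE_iff, h0]; rfl
  obtain rfl : p = IsLocalRing.maximalIdeal A := IsLocalRing.eq_maximalIdeal (Ideal.isMaximal_of_isPrime p)
  obtain ⟨-, g, hg⟩ := (isAssociatedPrime_iff_exists_injective_linearMap _ _).1 hp
  obtain ⟨r, hr⟩ := Submodule.mem_span_singleton.1 (g (Submodule.Quotient.mk (1 : A))).2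
  obtain ⟨s, hs⟩ := hall ((Submodule.span A {x}).subtype ∘ₗ g)
  refine ⟨r, ⟨s • Submodule.Quotient.mk (1 : A), ?_⟩, fun h => ?_⟩
  · rw [map_smul, hr]
    exact (LinearMap.congr_fun hs _).symm
  · have h1 : g (Submodule.Quotient.mk (1 : A)) = g 0 := by
      rw [map_zero]; exact Subtype.ext (hr ▸ h)
    exact (IsLocalRing.maximalIdeal.isMaximal A).ne_top
      ((Ideal.eq_top_iff_one _).2 ((Submodule.Quotient.mk_eq_zero _).1 (hg h1)))

end Groth.Agent.H4DR.Dualizing
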