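import Groth.Agent.H4DR.Dualizing.HomInto
import Mathlib.RingTheory.Ideal.AssociatedPrime.Finiteness
import Mathlib.RingTheory.LocalRing.Module

/-!
# Biduality with respect to a bounded complex of injectives

`T E M i = Hom_D(Hom(M, E), E⟦i⟧)`, the evaluation `M → T E M 0`, and the class of modules for which it
is bijective with `T E M i = 0` for `i ≠ 0`.
-/

set_option autoImplicit false
set_option linter.style.haveILetI false
set_option linter.unusedVariables false

universe u

open CategoryTheory CategoryTheory.Limits Pretriangulated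
open Groth.Agent.H4DR.DComplete (coind)
open Groth.Agent.H4DR.Ext (Ex pre preIso postIso)

attribute [local instance] HasDerivedCategory.standard

namespace Groth.Agent.H4DR.Dualizing

variable {A : Type u} [CommRing A] (E : DRing.Cx A)

/-- `Ext^i(RHom(M, E), E)`. -/
abbrev T (M : Type u) [AddCommGroup M] [Module A M] (i : ℤ) : Type (u + 1) :=
  Ex (DRing.toD (coind (ModuleCat.of A M) E)) (DRing.toD E) i

/-- Functoriality. -/
noncomputable def Tmap {M N : Type u} [AddCommGroup M] [Module A M] [AddCommGroup N] [Module A N]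
    (f : M →ₗ[A] N) (i : ℤ) : T E M i →ₗ[A] T E N i :=
  pre (DerivedCategory.Q.map (cMap E (M := ModuleCat.of A M) (N := ModuleCat.of A N) f)) _

variable {M N P : Type u} [AddCommGroup M] [Module A M] [AddCommGroup N] [Module A N]
  [AddCommGroup P] [Module A P]

lemma Tmap_id (i : ℤ) : Tmap E (LinearMap.id : M →ₗ[A] M) i = LinearMap.id := LinearMap.ext fun t => by
  show DerivedCategory.Q.map _ ≫ t = t
  rw [cMap_id, CategoryTheory.Functor.map_id, Category.id_comp]

lemma Tmap_comp (f : M →ₗ[A] N) (g : N →ₗ[A] P) (i : ℤ) : Tmap E (g ∘ₗ f) i = Tmap E g i ∘ₗ Tmap E f i :=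
  LinearMap.ext fun t => by
    show DerivedCategory.Q.map (cMap E (M := ModuleCat.of A M) (N := ModuleCat.of A P) (g ∘ₗ f)) ≫ t =
      DerivedCategory.Q.map (cMap E (M := ModuleCat.of A N) (N := ModuleCat.of A P) g) ≫
        (DerivedCategory.Q.map (cMap E (M := ModuleCat.of A M) (N := ModuleCat.of A N) f) ≫ t)
    exact (congrArg (fun s => DerivedCategory.Q.map s ≫ t) (cMap_comp E (M := ModuleCat.of A M)
      (N := ModuleCat.of A N) (P := ModuleCat.of A P) f g)).trans
      ((congrArg (· ≫ t) (DerivedCategory.Q.map_comp _ _)).trans (Category.assoc _ _ _))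

lemma Tmap_smul (a : A) (f : M →ₗ[A] N) (i : ℤ) : Tmap E (a • f) i = a • Tmap E f i := LinearMap.ext fun t => by
  show DerivedCategory.Q.map _ ≫ t = a • (DerivedCategory.Q.map _ ≫ t)
  rw [cMap_smul, Functor.map_smul, Linear.smul_comp]

/-- An isomorphism. -/
noncomputable def Tequiv (e : M ≃ₗ[A] N) (i : ℤ) : T E M i ≃ₗ[A] T E N i :=
  LinearEquiv.ofLinearMap (Tmap E e.toLinearMap i) (Tmap E e.symm.toLinearMap i)
    (by rw [← Tmap_comp, LinearEquiv.comp_coe, LinearEquiv.symm_trans_self]; exact Tmap_id E i)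
    (by rw [← Tmap_comp, LinearEquiv.comp_coe, LinearEquiv.self_trans_symm]; exact Tmap_id E i)

/-- Evaluation as a map of complexes. -/
noncomputable def evC (M : ModuleCat.{u} A) (m : M) : coind M E ⟶ E where
  f i := ModuleCat.ofHom (LinearMap.applyₗ m)
  comm' i j _ := ModuleCat.hom_ext (LinearMap.ext fun _ => rfl)

/-- The evaluation. -/
noncomputable def ev (M : Type u) [AddCommGroup M] [Module A M] : M →ₗ[A] T E M 0 where
  toFun m := DerivedCategory.Q.map (evC E (ModuleCat.of A M) m) ≫
    (shiftFunctorZero (Dual.D A) ℤ).inv.app (DRing.toD E)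
  map_add' m m' := by
    rw [show evC E (ModuleCat.of A M) (m + m') = evC E (ModuleCat.of A M) m + evC E (ModuleCat.of A M) m' from
      HomologicalComplex.hom_ext _ _ fun i => ModuleCat.hom_ext (LinearMap.ext fun (z : M →ₗ[A] E.X i) => map_add z m m'),
      Functor.map_add, Preadditive.add_comp]
  map_smul' a m := by
    rw [show evC E (ModuleCat.of A M) (a • m) = a • evC E (ModuleCat.of A M) m from
      HomologicalComplex.hom_ext _ _ fun i => ModuleCat.hom_ext (LinearMap.ext fun (z : M →ₗ[A] E.X i) => map_smul z a m),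
      Functor.map_smul, Linear.smul_comp]
    rfl

lemma Tmap_ev (f : M →ₗ[A] N) (m : M) : Tmap E f 0 (ev E M m) = ev E N (f m) := by
  show DerivedCategory.Q.map _ ≫ DerivedCategory.Q.map _ ≫ _ = DerivedCategory.Q.map _ ≫ _
  refine (Category.assoc _ _ _).symm.trans (congrArg (· ≫ _) ((DerivedCategory.Q.map_comp _ _).symm.trans ?_))
  exact congrArg DerivedCategory.Q.map (HomologicalComplex.hom_ext _ _ fun i => ModuleCat.hom_ext (LinearMap.ext fun _ => rfl))

section Sequence

variable {E} (hE : DRing.TermwiseInjective E) {f : M →ₗ[A] N} {g : N →ₗ[A] P}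
  (hf : Function.Injective f) (hg : Function.Surjective g) (hfg : Function.Exact f g)
include hE hf hg hfg

theorem exact_T (i : ℤ) : Function.Exact (Tmap E f i) (Tmap E g i) := by
  obtain ⟨δ, hT⟩ := exists_triangle hE (L := ModuleCat.of A M) (M := ModuleCat.of A N) (N := ModuleCat.of A P)
    f g hf hg hfg
  exact Ext.exact_pre₂ _ hT _

theorem surjective_T_of_injective {i j : ℤ} (h : i + 1 = j) (hj : Function.Injective (Tmap E f j)) :
    Function.Surjective (Tmap E g i) := by
  obtain ⟨δ, hT⟩ := exists_triangle hE (L := ModuleCat.of A M) (M := ModuleCat.of A N) (N := ModuleCat.of A P)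
    f g hf hg hfg
  exact Ext.surjective_pre₁_of_injective _ hT (W := DRing.toD E) h hj

theorem surjective_T {i j : ℤ} (h : i + 1 = j) (hj : Subsingleton (T E M j)) :
    Function.Surjective (Tmap E g i) :=
  surjective_T_of_injective hE hf hg hfg h (Function.injective_of_subsingleton _)

theorem injective_T {i j : ℤ} (h : i + 1 = j) (hi : Subsingleton (T E P i)) :
    Function.Injective (Tmap E f j) := by
  obtain ⟨δ, hT⟩ := exists_triangle hE (L := ModuleCat.of A M) (M := ModuleCat.of A N) (N := ModuleCat.of A P)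
    f g hf hg hfg
  exact Ext.injective_pre₂ _ hT (W := DRing.toD E) h hi

theorem subsingleton_T_mid (i : ℤ) (h1 : Subsingleton (T E M i)) (h3 : Subsingleton (T E P i)) :
    Subsingleton (T E N i) := subsingleton_of_forall_eq 0 fun t => by
  obtain ⟨s, hs⟩ := (exact_T hE hf hg hfg i t).1 (Subsingleton.elim _ _)
  rw [← hs, Subsingleton.elim s 0, map_zero]

end Sequence

/-- Reflexive modules. -/
structure IsRefl (M : Type u) [AddCommGroup M] [Module A M] : Prop where
  bij : Function.Bijective (ev E M)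
  van : ∀ i : ℤ, i ≠ 0 → Subsingleton (T E M i)

variable {E}

theorem IsRefl.of_equiv (e : M ≃ₗ[A] N) (h : IsRefl E M) : IsRefl E N where
  bij := by
    have : (ev E N : N → T E N 0) = Tequiv E e 0 ∘ ev E M ∘ e.symm := funext fun n => by
      show ev E N n = Tmap E e.toLinearMap 0 (ev E M (e.symm n))
      rw [Tmap_ev, LinearEquiv.coe_coe, LinearEquiv.apply_symm_apply]
    rw [this]
    exact (Tequiv E e 0).bijective.comp (h.bij.comp e.symm.bijective)
  van i hi := haveI := h.van i hi; (Tequiv E e i).symm.injective.subsingleton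

theorem IsRefl.of_subsingleton [Subsingleton M] : IsRefl E M := by
  have hs : ∀ i, Subsingleton (T E M i) := fun i => by
    refine subsingleton_of_forall_eq 0 fun t => ?_
    have := LinearMap.congr_fun (Tmap_id (M := M) E i) t
    rw [show (LinearMap.id : M →ₗ[A] M) = (0 : A) • LinearMap.id from
      LinearMap.ext fun x => Subsingleton.elim _ _, Tmap_smul] at this
    simpa using this.symm
  exact ⟨⟨Function.injective_of_subsingleton _, fun t => ⟨0, @Subsingleton.elim _ (hs 0) _ _⟩⟩, fun i _ => hs i⟩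

theorem IsRefl.extension (hE : DRing.TermwiseInjective E) {f : M →ₗ[A] N} {g : N →ₗ[A] P}
    (hf : Function.Injective f) (hg : Function.Surjective g) (hfg : Function.Exact f g)
    (hM : IsRefl E M) (hP : IsRefl E P) : IsRefl E N where
  van i hi := subsingleton_T_mid hE hf hg hfg i (hM.van i hi) (hP.van i hi)
  bij := by
    refine ⟨(injective_iff_map_eq_zero _).2 fun n hn => ?_, fun t => ?_⟩
    · have h1 : g n = 0 := hP.bij.1 (by rw [← Tmap_ev, hn, map_zero, map_zero])
      obtain ⟨m, rfl⟩ := (hfg n).1 h1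
      have h2 : ev E M m = 0 := injective_T hE hf hg hfg (show (-1 : ℤ) + 1 = 0 by norm_num) (hP.van _ (by omega))
        (by rw [Tmap_ev, hn, map_zero])
      rw [hM.bij.1 (h2.trans (map_zero _).symm), map_zero]
    · obtain ⟨p, hp⟩ := hP.bij.2 (Tmap E g 0 t)
      obtain ⟨n, rfl⟩ := hg p
      obtain ⟨s, hs⟩ := (exact_T hE hf hg hfg 0 (t - ev E N n)).1 (by rw [map_sub, Tmap_ev, hp, sub_self])
      obtain ⟨m, rfl⟩ := hM.bij.2 s
      rw [Tmap_ev] at hs
      exact ⟨f m + n, by rw [map_add, hs, sub_add_cancel]⟩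

theorem IsRefl.fin (hE : DRing.TermwiseInjective E) (hA : IsRefl E A) : ∀ n : ℕ, IsRefl E (Fin n → A)
  | 0 => IsRefl.of_subsingleton
  | n + 1 => (IsRefl.extension hE LinearMap.inl_injective LinearMap.snd_surjective Function.Exact.inl_snd hA
      (IsRefl.fin hE hA n)).of_equiv (Fin.consLinearEquiv A (fun _ : Fin (n + 1) => A))

variable {a b : ℤ}

theorem subsingleton_T_of_large (hv : DRing.VanishesOutside E a b) (hE : DRing.TermwiseInjective E) (i : ℤ)
    (hi : i < a - b ∨ b - a < i) : Subsingleton (T E M i) := by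
  haveI := Ext.isKInjective_of_vanishesOutside hv hE
  exact Ext.subsingleton_of_disjoint fun j =>
    if h : j < a ∨ b < j then Or.inl (vanishesOutside_coind hv _ j h) else Or.inr (hv _ (by omega))

section Noeth

variable [IsNoetherianRing A] (hv : DRing.VanishesOutside E a b) (hE : DRing.TermwiseInjective E)
include hv hE

omit hv hE in
theorem exists_free (M : Type u) [AddCommGroup M] [Module A M] [Module.Finite A M] :
    ∃ (n : ℕ) (q : (Fin n → A) →ₗ[A] M), Function.Surjective q ∧ Module.Finite A (LinearMap.ker q) := by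
  obtain ⟨n, q, hq⟩ := Module.Finite.exists_fin' A M
  exact ⟨n, q, hq, Module.Finite.of_fg (IsNoetherian.noetherian _)⟩

theorem van_pos (hA : IsRefl E A) : ∀ (k : ℕ) (M : Type u) [AddCommGroup M] [Module A M] [Module.Finite A M]
    (i : ℤ), 0 < i → b - a < i + k → Subsingleton (T E M i)
  | 0, M, _, _, _, i, _, hi => subsingleton_T_of_large hv hE i (Or.inr (by omega))
  | k + 1, M, _, _, _, i, h0, hi => by
    obtain ⟨n, q, hq, hfin⟩ := exists_free (A := A) M
    haveI := van_pos hA k (LinearMap.ker q) (i + 1) (by omega) (by omega)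
    haveI := (IsRefl.fin hE hA n).van i (by omega)
    exact (surjective_T hE (Submodule.subtype_injective _) hq (LinearMap.exact_subtype_ker_map q) rfl
      inferInstance).subsingleton

/-- Biduality: reflexivity of `A` gives it for all finite modules. -/
theorem isRefl_of_finite (hA : IsRefl E A) : ∀ (M : Type u) [AddCommGroup M] [Module A M] [Module.Finite A M],
    IsRefl E M := by
  have hpos : ∀ (M : Type u) [AddCommGroup M] [Module A M] [Module.Finite A M] (i : ℤ), 0 < i →
      Subsingleton (T E M i) := fun M _ _ _ i hi => van_pos hv hE hA (b - a).toNat M i hi (by omega)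
  have hsur : ∀ (M : Type u) [AddCommGroup M] [Module A M] [Module.Finite A M],
      Function.Surjective (ev E M) := fun M _ _ _ t => by
    obtain ⟨n, q, hq, hfin⟩ := exists_free (A := A) M
    obtain ⟨s, rfl⟩ := surjective_T hE (Submodule.subtype_injective _) hq (LinearMap.exact_subtype_ker_map q)
      (zero_add 1) (hpos _ 1 one_pos) t
    obtain ⟨x, rfl⟩ := (IsRefl.fin hE hA n).bij.2 s
    exact ⟨q x, (Tmap_ev E q x).symm⟩
  have hinj0 : ∀ (n : ℕ) (K : Submodule A (Fin n → A)), Function.Injective (Tmap E K.subtype 0) := fun n K => by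
    haveI : Module.Finite A K := Module.Finite.of_fg (IsNoetherian.noetherian _)
    refine (injective_iff_map_eq_zero _).2 fun s hs => ?_
    obtain ⟨y, rfl⟩ := hsur K s
    rw [Tmap_ev, ← map_zero (ev E (Fin n → A))] at hs
    rw [show y = 0 from Subtype.ext ((IsRefl.fin hE hA n).bij.1 hs), map_zero]
  have hneg : ∀ (k : ℕ) (M : Type u) [AddCommGroup M] [Module A M] [Module.Finite A M],
      Subsingleton (T E M (-1 - k)) := fun k => by
    induction k with
    | zero =>
      intro M _ _ _
      obtain ⟨n, q, hq, hfin⟩ := exists_free (A := A) M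
      haveI := (IsRefl.fin hE hA n).van (-1) (by omega)
      show Subsingleton (T E M (-1 - 0))
      rw [sub_zero]
      exact (surjective_T_of_injective hE (Submodule.subtype_injective _) hq (LinearMap.exact_subtype_ker_map q)
        (show (-1 : ℤ) + 1 = 0 by norm_num) (hinj0 n _)).subsingleton
    | succ k ih =>
      intro M _ _ _
      obtain ⟨n, q, hq, hfin⟩ := exists_free (A := A) M
      haveI := (IsRefl.fin hE hA n).van (-1 - (k + 1 : ℕ)) (by omega)
      exact (surjective_T hE (Submodule.subtype_injective _) hq (LinearMap.exact_subtype_ker_map q)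
        (show (-1 - (k + 1 : ℕ) : ℤ) + 1 = -1 - k by push_cast; ring) (ih _)).subsingleton
  intro M _ _ _
  refine ⟨⟨(injective_iff_map_eq_zero _).2 fun m hm => ?_, hsur M⟩, fun i hi => ?_⟩
  · obtain ⟨n, q, hq, hfin⟩ := exists_free (A := A) M
    obtain ⟨x, rfl⟩ := hq m
    obtain ⟨s, hs⟩ := (exact_T hE (Submodule.subtype_injective _) hq (LinearMap.exact_subtype_ker_map q) 0
      (ev E _ x)).1 (by rw [Tmap_ev, hm])
    obtain ⟨y, rfl⟩ := hsur _ s
    rw [Tmap_ev] at hs
    rw [← (IsRefl.fin hE hA n).bij.1 hs]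
    exact LinearMap.mem_ker.1 y.2
  · rcases lt_or_gt_of_ne hi with h | h
    · obtain ⟨k, rfl⟩ : ∃ k : ℕ, i = -1 - k := ⟨(-1 - i).toNat, by omega⟩
      exact hneg k M
    · exact hpos M i h

variable (hH : ∀ i : ℤ, Module.Finite A (Dual.HD A (DRing.toD E) i))
include hH

theorem finite_T (M : Type u) [AddCommGroup M] [Module A M] [Module.Finite A M] (i : ℤ) :
    Module.Finite A (T E M i) := by
  haveI := Ext.isKInjective_of_vanishesOutside hv hE
  have hamp : DRing.HasInjAmplitudeIn A a b (DRing.toD E) := ⟨E, hv, hE, ⟨Iso.refl _⟩⟩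
  refine Ext.finite_ex hH hamp (fun j => ?_) i
  haveI : Module.Finite A (Ex (Dual.inD A M) (DRing.toD E) j) :=
    Ext.finite_ex_module hH hamp ((j - a).toNat + 1) M j (by omega)
  exact Module.Finite.equiv ((exEquiv E (ModuleCat.of A M) j).trans (DComplete.hQ _ j).symm)

variable [IsLocalRing A]

theorem isRefl_quotient_prime_step (p : Ideal A) [p.IsPrime] {x : A} (hx : x ∈ IsLocalRing.maximalIdeal A)
    (hxp : x ∉ p) (hQ : IsRefl E (A ⧸ (p ⊔ Ideal.span {x}))) : IsRefl E (A ⧸ p) := by
  let f : (A ⧸ p) →ₗ[A] (A ⧸ p) := x • LinearMap.id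
  let g : (A ⧸ p) →ₗ[A] (A ⧸ (p ⊔ Ideal.span {x})) := Submodule.factor le_sup_left
  have hf : Function.Injective f := (injective_iff_map_eq_zero _).2 fun y hy => by
    obtain ⟨y, rfl⟩ := Submodule.Quotient.mk_surjective p y
    have : x * y ∈ p := (Submodule.Quotient.mk_eq_zero p).1 hy
    exact (Submodule.Quotient.mk_eq_zero p).2 ((Ideal.IsPrime.mem_or_mem ‹_› this).resolve_left hxp)
  have hg : Function.Surjective g := Submodule.factor_surjective _
  have hfg : Function.Exact f g := fun y => by
    obtain ⟨y, rfl⟩ := Submodule.Quotient.mk_surjective p y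
    show Submodule.Quotient.mk y = 0 ↔ _
    rw [Submodule.Quotient.mk_eq_zero, Submodule.mem_sup]
    constructor
    · rintro ⟨u, hu, v, hv', rfl⟩
      obtain ⟨r, rfl⟩ := Ideal.mem_span_singleton'.1 hv'
      exact ⟨Submodule.Quotient.mk r, (Submodule.Quotient.eq p).2 (by
        show x * r - (u + r * x) ∈ p
        rw [mul_comm x r, sub_add_cancel_right]; exact neg_mem hu)⟩
    · rintro ⟨z, hz⟩
      obtain ⟨z, rfl⟩ := Submodule.Quotient.mk_surjective p z
      exact ⟨y - x * z, by simpa using neg_mem ((Submodule.Quotient.eq p).1 hz), x * z,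
        Ideal.mem_span_singleton'.2 ⟨z, mul_comm z x⟩, sub_add_cancel y _⟩
  have hTf : ∀ i, Tmap E f i = x • LinearMap.id := fun i => by rw [Tmap_smul, Tmap_id]
  have hnak : ∀ {N : Type (u + 1)} [AddCommGroup N] [Module A N] (K : Submodule A N), K.FG →
      (∀ n ∈ K, ∃ k ∈ K, x • k = n) → K = ⊥ := fun K hK h =>
    Submodule.eq_bot_of_le_smul_of_le_jacobson_bot (IsLocalRing.maximalIdeal A) K hK
      (fun n hn => by obtain ⟨k, hk, rfl⟩ := h n hn; exact Submodule.smul_mem_smul hx hk)
      (IsLocalRing.maximalIdeal_le_jacobson ⊥)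
  refine ⟨⟨?_, ?_⟩, fun i hi => ?_⟩
  · have hbot : LinearMap.ker (ev E (A ⧸ p)) = ⊥ := by
      refine Submodule.eq_bot_of_le_smul_of_le_jacobson_bot (IsLocalRing.maximalIdeal A) _
        (IsNoetherian.noetherian _) (fun y hy => ?_) (IsLocalRing.maximalIdeal_le_jacobson ⊥)
      have h1 : g y = 0 := hQ.bij.1 (by rw [← Tmap_ev, LinearMap.mem_ker.1 hy, map_zero, map_zero])
      obtain ⟨z, rfl⟩ := (hfg y).1 h1
      have h2 : ev E (A ⧸ p) z = 0 := injective_T hE hf hg hfg (show (-1 : ℤ) + 1 = 0 by norm_num)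
        (hQ.van _ (by omega)) (by rw [Tmap_ev, LinearMap.mem_ker.1 hy, map_zero])
      exact Submodule.smul_mem_smul hx (LinearMap.mem_ker.2 h2)
    exact LinearMap.ker_eq_bot.1 hbot
  · haveI := finite_T hv hE hH (A ⧸ p) 0
    have htop : (⊤ : Submodule A (T E (A ⧸ p) 0)) ≤
        LinearMap.range (ev E (A ⧸ p)) ⊔ IsLocalRing.maximalIdeal A • ⊤ := fun t _ => by
      obtain ⟨q, hq⟩ := hQ.bij.2 (Tmap E g 0 t)
      obtain ⟨y, rfl⟩ := hg q
      obtain ⟨s, hs⟩ := (exact_T hE hf hg hfg 0 (t - ev E _ y)).1 (by rw [map_sub, Tmap_ev, hq, sub_self])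
      rw [hTf] at hs
      rw [← sub_add_cancel t (ev E _ y), ← hs, add_comm]
      exact Submodule.add_mem_sup ⟨y, rfl⟩ (Submodule.smul_mem_smul hx Submodule.mem_top)
    exact LinearMap.range_eq_top.1 (top_le_iff.1 (Submodule.le_of_le_smul_of_le_jacobson_bot
      (Module.Finite.fg_top) (IsLocalRing.maximalIdeal_le_jacobson ⊥) htop))
  · haveI := finite_T hv hE hH (A ⧸ p) i
    haveI := hQ.van i hi
    have h := hnak (⊤ : Submodule A (T E (A ⧸ p) i)) Module.Finite.fg_top fun t _ => by
      obtain ⟨s, hs⟩ := (exact_T hE hf hg hfg i t).1 (Subsingleton.elim _ _)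
      rw [hTf] at hs
      exact ⟨s, trivial, hs⟩
    exact Submodule.subsingleton_iff A |>.1 (subsingleton_iff_bot_eq_top.1 h.symm)

theorem isRefl_quotient (hk : IsRefl E (A ⧸ IsLocalRing.maximalIdeal A)) (J : Ideal A) : IsRefl E (A ⧸ J) := by
  induction J using (inferInstance : WellFoundedGT (Ideal A)).induction with
  | _ J ih =>
    by_cases htop : J = ⊤
    · subst htop
      haveI : Subsingleton (A ⧸ (⊤ : Ideal A)) := Submodule.Quotient.subsingleton_iff.2 rfl
      exact IsRefl.of_subsingleton
    by_cases hp : J.IsPrime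
    · by_cases hm : J = IsLocalRing.maximalIdeal A
      · rwa [hm]
      obtain ⟨x, hx, hxJ⟩ := SetLike.exists_of_lt ((IsLocalRing.le_maximalIdeal htop).lt_of_ne hm)
      exact isRefl_quotient_prime_step hv hE hH J hx hxJ (ih _ (left_lt_sup.2 fun h =>
        hxJ (h (Ideal.mem_span_singleton_self x))))
    · obtain ⟨c, hc, d, hd, hcd⟩ : ∃ c, c ∉ J ∧ ∃ d, d ∉ J ∧ c * d ∈ J := by
        simp only [Ideal.isPrime_iff, not_and, not_forall, not_or] at hp
        obtain ⟨c, d, h, hc, hd⟩ := hp htop
        exact ⟨c, hc, d, hd, h⟩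
      let f : (A ⧸ Submodule.colon J {c}) →ₗ[A] (A ⧸ J) :=
        Submodule.mapQ _ _ (LinearMap.mulLeft A c) fun y hy => by
          rw [Submodule.mem_comap, LinearMap.mulLeft_apply, mul_comm]
          exact Submodule.mem_colon_singleton.1 hy
      let g : (A ⧸ J) →ₗ[A] (A ⧸ (J ⊔ Ideal.span {c})) := Submodule.factor le_sup_left
      have hf : Function.Injective f := (injective_iff_map_eq_zero _).2 fun y hy => by
        obtain ⟨y, rfl⟩ := Submodule.Quotient.mk_surjective _ y
        refine (Submodule.Quotient.mk_eq_zero _).2 (Submodule.mem_colon_singleton.2 ?_)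
        rw [smul_eq_mul, mul_comm]
        exact (Submodule.Quotient.mk_eq_zero _).1 hy
      have hfg : Function.Exact f g := fun y => by
        obtain ⟨y, rfl⟩ := Submodule.Quotient.mk_surjective J y
        show Submodule.Quotient.mk y = 0 ↔ _
        rw [Submodule.Quotient.mk_eq_zero, Submodule.mem_sup]
        constructor
        · rintro ⟨u, hu, v, hv', rfl⟩
          obtain ⟨r, rfl⟩ := Ideal.mem_span_singleton'.1 hv'
          exact ⟨Submodule.Quotient.mk r, (Submodule.Quotient.eq J).2 (by
            rw [LinearMap.mulLeft_apply, mul_comm c r, sub_add_cancel_right]; exact neg_mem hu)⟩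
        · rintro ⟨z, hz⟩
          obtain ⟨z, rfl⟩ := Submodule.Quotient.mk_surjective _ z
          exact ⟨y - c * z, by simpa using neg_mem ((Submodule.Quotient.eq J).1 hz), c * z,
            Ideal.mem_span_singleton'.2 ⟨z, mul_comm z c⟩, sub_add_cancel y _⟩
      refine IsRefl.extension hE hf (Submodule.factor_surjective _) hfg (ih _ ?_) (ih _ ?_)
      · refine SetLike.lt_iff_le_and_exists.2 ⟨fun y hy => Submodule.mem_colon_singleton.2 (J.mul_mem_right c hy),
          d, Submodule.mem_colon_singleton.2 (by rw [smul_eq_mul, mul_comm]; exact hcd), hd⟩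
      · exact left_lt_sup.2 fun h => hc (h (Ideal.mem_span_singleton_self c))

theorem isRefl_of_residueField (hk : IsRefl E (A ⧸ IsLocalRing.maximalIdeal A))
    (M : Type u) [AddCommGroup M] [Module A M] [Module.Finite A M] : IsRefl E M := by
  induction ‹Module.Finite A M› using IsNoetherianRing.induction_on_isQuotientEquivQuotientPrime A with
  | subsingleton N => exact IsRefl.of_subsingleton
  | quotient N p e => exact (isRefl_quotient hv hE hH hk p.asIdeal).of_equiv e.symm
  | exact N₁ N₂ N₃ f g hf hg hfg h1 h3 => exact IsRefl.extension hE hf hg hfg h1 h3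

end Noeth

end Groth.Agent.H4DR.Dualizing
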