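import Groth.Agent.H4DR.Dualizing.Top
import Groth.Agent.H4DR.LD.Hull
import Groth.Agent.H4LC.Artinian
import Mathlib.RingTheory.KrullDimension.Regular

/-!
# The top `Ext` into a normalized dualizing complex has depth at least `min(2, dim)`
-/

set_option autoImplicit false
set_option linter.style.haveILetI false
set_option linter.unusedVariables false

universe u

open CategoryTheory CategoryTheory.Limits Pretriangulated
open Groth.Agent.H4DR.Ext (Ex pre inM conn)

attribute [local instance] HasDerivedCategory.standard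

namespace Groth.Agent.H4DR.Dualizing

variable {A : Type u} [CommRing A] [IsLocalRing A] [IsNoetherianRing A] {ω : Dual.D A}
  (hω : Dual.IsDualizing A ω) (hn : Dual.IsNormalized A ω)
include hω hn

local notation "mA" => IsLocalRing.maximalIdeal A

theorem subsingleton_ex_below {M : Type u} [AddCommGroup M] [Module A M] [Module.Finite A M] {D : ℕ}
    (hD : Module.supportDim A M ≤ D) {i : ℤ} (hi : i < -(D : ℤ)) : Subsingleton (Ex (Dual.inD A M) ω i) := by
  refine not_nontrivial_iff_subsingleton.1 fun h => ?_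
  have h1 := ((dimBound hω hn M i).2 h).1.trans hD
  have := Nat.cast_le.1 h1
  omega

omit hω hn in
theorem conn_pre_mor₁ {R : Type u} [CommRing R] {T : Triangle (Dual.D R)} (hT : T ∈ distTriang (Dual.D R))
    {W : Dual.D R} {i j : ℤ} (h : i + 1 = j) (f : T.obj₂ ⟶ W⟦i⟧) : conn T W i j h (pre T.mor₁ _ f) = 0 := by
  show pre T.mor₃ _ (Ext.shiftSrc T.obj₁ W 1 i j h (T.mor₁ ≫ f)) = 0
  rw [Ext.shiftSrc_pre]
  show T.mor₃ ≫ (shiftFunctor (Dual.D R) (1 : ℤ)).map T.mor₁ ≫ _ = 0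
  rw [← Category.assoc, comp_distTriang_mor_zero₃₁ _ hT, zero_comp]

omit hω hn in
theorem le_of_add_one_le {a : WithBot ℕ∞} {D : ℕ} (h : a + 1 ≤ ((D + 1 : ℕ) : WithBot ℕ∞)) :
    a ≤ (D : WithBot ℕ∞) := by
  rcases a with _ | _ | a
  · exact bot_le
  · exfalso
    have : ((⊤ : ℕ∞) + 1 : ℕ∞) ≤ ((D + 1 : ℕ) : ℕ∞) := WithBot.coe_le_coe.1 h
    simp at this
  · have : (((a + 1 : ℕ) : ℕ∞)) ≤ ((D + 1 : ℕ) : ℕ∞) := WithBot.coe_le_coe.1 h
    exact WithBot.coe_le_coe.2 (Nat.cast_le.2 (by have := Nat.cast_le.1 this; omega))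

theorem exists_regular_model (M : Type u) [AddCommGroup M] [Module A M] [Module.Finite A M] {D : ℕ}
    (hD : Module.supportDim A M ≤ ((D + 1 : ℕ) : WithBot ℕ∞)) :
    ∃ (Q : Type u) (_ : AddCommGroup Q) (_ : Module A Q), Module.Finite A Q ∧
      Module.supportDim A Q ≤ (D : WithBot ℕ∞) ∧
      ∃ x ∈ mA, IsSMulRegular (Ex (Dual.inD A M) ω (-((D + 1 : ℕ) : ℤ))) x ∧
        ∃ c : Ex (Dual.inD A M) ω (-((D + 1 : ℕ) : ℤ)) →ₗ[A] Ex (Dual.inD A Q) ω (-(D : ℤ)),
          (∀ z, c z = 0 → ∃ w, x • w = z) ∧ ∀ w, c (x • w) = 0 := by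
  let Γ := DRing.torsionSub mA M
  let N := M ⧸ Γ
  have htf := H4LC.torsionSub_quotient_eq_bot mA M
  obtain ⟨x, hx, hreg⟩ := H4LC.exists_regular_of_torsionSub_eq_bot htf
  let φ : N →ₗ[A] N := x • LinearMap.id
  have hφ : Function.Injective φ := fun a b h => hreg h
  let Q := N ⧸ LinearMap.range φ
  have hN : Module.supportDim A N ≤ ((D + 1 : ℕ) : WithBot ℕ∞) :=
    (Module.supportDim_le_of_surjective _ Γ.mkQ_surjective).trans hD
  have hQ : Module.supportDim A Q ≤ (D : WithBot ℕ∞) := by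
    rcases subsingleton_or_nontrivial N with hs | hs
    · rw [Module.supportDim_eq_bot_of_subsingleton]
      exact bot_le
    · refine le_of_add_one_le ?_
      have he : Module.supportDim A Q = Module.supportDim A (QuotSMulTop x N) :=
        Module.supportDim_eq_of_equiv (Submodule.quotEquivOfEq _ _ (by
          ext z
          rw [LinearMap.mem_range, Submodule.mem_smul_pointwise_iff_exists]
          exact ⟨fun ⟨a, ha⟩ => ⟨a, trivial, ha⟩, fun ⟨a, _, ha⟩ => ⟨a, ha⟩⟩))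
      rw [he, Module.supportDim_quotSMulTop_succ_eq_supportDim hreg hx]
      exact hN
  have hΓ : IsFiniteLength A Γ := by
    have : IsArtinian A Γ := by
      rw [H4Matlis.isArtinian_iff]
      exact ⟨H4LC.isPowerTorsion_torsionSub _ M, Module.Finite.of_restrictScalars_finite A _ _⟩
    exact isFiniteLength_iff_isNoetherian_isArtinian.2 ⟨inferInstance, this⟩
  obtain ⟨δ₁, hT₁⟩ := Ext.exists_triangle Γ.subtype Γ.mkQ Subtype.val_injective Γ.mkQ_surjective
    (LinearMap.exact_subtype_mkQ Γ)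
  let p := pre (inM (L := ModuleCat.of A M) (M := ModuleCat.of A N) Γ.mkQ) (ω⟦(-((D + 1 : ℕ) : ℤ))⟧)
  have hp : Function.Bijective p :=
    ⟨Ext.injective_pre₂ _ hT₁ (show (-((D + 1 : ℕ) : ℤ) - 1) + 1 = -((D + 1 : ℕ) : ℤ) by ring)
      (LD.subsingleton_ex_fl hn hΓ (by omega)),
      Ext.surjective_pre₂ _ hT₁ (LD.subsingleton_ex_fl hn hΓ (by omega))⟩
  let ep : Ex (Dual.inD A N) ω (-((D + 1 : ℕ) : ℤ)) ≃ₗ[A] Ex (Dual.inD A M) ω (-((D + 1 : ℕ) : ℤ)) :=
    LinearEquiv.ofBijective p hp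
  obtain ⟨δ₂, hT₂⟩ := Ext.exists_triangle φ (LinearMap.range φ).mkQ hφ (Submodule.mkQ_surjective _)
    (LinearMap.exact_map_mkQ_range φ)
  let T := Triangle.mk (inM (L := ModuleCat.of A N) (M := ModuleCat.of A N) φ)
    (inM (L := ModuleCat.of A N) (M := ModuleCat.of A Q) (LinearMap.range φ).mkQ) δ₂
  let c : Ex (Dual.inD A N) ω (-((D + 1 : ℕ) : ℤ)) →ₗ[A] Ex (Dual.inD A Q) ω (-(D : ℤ)) :=
    conn T ω _ _ (by push_cast; ring)
  have hker : ∀ z, c z = 0 → ∃ w, x • w = z := fun z hz => by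
    obtain ⟨w, hw⟩ := Ext.ker_conn_le T hT₂ (show -((D + 1 : ℕ) : ℤ) + 1 = -(D : ℤ) by push_cast; ring) hz
    exact ⟨w, (pre_inM_smul x _ w).symm.trans hw⟩
  have hxreg : IsSMulRegular (Ex (Dual.inD A N) ω (-((D + 1 : ℕ) : ℤ))) x := fun a b h => by
    refine Ext.injective_pre₁ T hT₂ (W := ω⟦(-((D + 1 : ℕ) : ℤ))⟧) (subsingleton_ex_below hω hn hQ (by omega)) ?_
    exact (pre_inM_smul x _ a).trans (Eq.trans h (pre_inM_smul x _ b).symm)
  refine ⟨Q, inferInstance, inferInstance, inferInstance, hQ, x, hx,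
    fun a b h => ep.symm.injective (hxreg (show x • ep.symm a = x • ep.symm b by
      rw [← map_smul, ← map_smul]; exact congrArg ep.symm h)), c ∘ₗ ep.symm.toLinearMap, fun z hz => ?_, fun w => ?_⟩
  swap
  · show c (ep.symm (x • w)) = 0
    rw [map_smul, ← pre_inM_smul x _ (ep.symm w)]
    exact conn_pre_mor₁ hT₂ _ (ep.symm w)
  obtain ⟨w, hw⟩ := hker (ep.symm z) hz
  exact ⟨ep w, by rw [← map_smul, hw, LinearEquiv.apply_symm_apply]⟩

/-- `depth Ext^{-D}(M, ω) ≥ min(2, D)` when `dim M ≤ D`. -/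
theorem le_depth_ex_top (M : Type u) [AddCommGroup M] [Module A M] [Module.Finite A M] {D : ℕ}
    (hD : Module.supportDim A M ≤ (D : WithBot ℕ∞)) :
    ((min 2 D : ℕ) : ℕ∞) ≤ LocCoh.depth A (Ex (Dual.inD A M) ω (-(D : ℤ))) := by
  unfold LocCoh.depth LocCoh.idealDepth
  split
  · exact le_top
  rcases D with _ | D
  · simp
  obtain ⟨Q, _, _, _, hQ, x, hx, hxreg, c, hc, hc0⟩ := exists_regular_model hω hn M hD
  rcases D with _ | D
  · exact le_iSup₂_of_le [x] ⟨(RingTheory.Sequence.isWeaklyRegular_cons_iff _ x []).2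
      ⟨hxreg, RingTheory.Sequence.IsWeaklyRegular.nil A _⟩, by simpa using hx⟩ (by simp)
  obtain ⟨Q', _, _, _, -, y, hy, hyreg, -⟩ := exists_regular_model hω hn Q hQ
  have hy' : IsSMulRegular (QuotSMulTop x (Ex (Dual.inD A M) ω (-((D + 1 + 1 : ℕ) : ℤ)))) y := by
    refine IsSMulRegular.of_right_eq_zero_of_smul fun z hz => ?_
    obtain ⟨z, rfl⟩ := Submodule.Quotient.mk_surjective _ z
    rw [← Submodule.Quotient.mk_smul, Submodule.Quotient.mk_eq_zero,
      Submodule.mem_smul_pointwise_iff_exists] at hz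
    obtain ⟨w, -, hw⟩ := hz
    have hcx : c (x • w) = 0 := hc0 w
    have hz0 : c z = 0 := hyreg.right_eq_zero_of_smul
      (by rw [← map_smul, ← hw, hcx])
    obtain ⟨v, hv⟩ := hc z hz0
    rw [Submodule.Quotient.mk_eq_zero, Submodule.mem_smul_pointwise_iff_exists]
    exact ⟨v, trivial, hv⟩
  exact le_iSup₂_of_le [x, y] ⟨(RingTheory.Sequence.isWeaklyRegular_cons_iff _ x [y]).2 ⟨hxreg,
    (RingTheory.Sequence.isWeaklyRegular_cons_iff _ y []).2 ⟨hy', RingTheory.Sequence.IsWeaklyRegular.nil A _⟩⟩,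
    by simpa using And.intro hx hy⟩ (by simp)

end Groth.Agent.H4DR.Dualizing
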