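import Groth.Agent.H4DR.Dualizing.Ordinary
import Groth.Agent.H4DR.Dualizing.TopDepth
import Groth.Agent.H4DR.Dualizing.Criterion
import Groth.Agent.H4DR.Dualizing.Artinian
import Groth.Agent.H4DR.Ext.Devissage
import Groth.Agent.H4DR.Ext.Finite
import Groth.Agent.H4DR.FlatBC.Finite
import Groth.Agent.H4DR.Hom.Basic

/-!
# Endomorphisms and self-extensions of the canonical module
-/

set_option autoImplicit false
set_option linter.style.haveILetI false
set_option linter.unusedVariables false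

universe u

open CategoryTheory CategoryTheory.Limits Pretriangulated
open Groth.Agent.H4DR.Ext (Ex)

attribute [local instance] HasDerivedCategory.standard

namespace Groth.Agent.H4DR.Dualizing

variable {A : Type u} [CommRing A] [IsLocalRing A] [IsNoetherianRing A] {ω : Dual.D A}
  (hω : Dual.IsDualizing A ω) (hn : Dual.IsNormalized A ω)
include hω hn

/-- Vanishing of maps into `ω` from small supports. -/
theorem subsingleton_hom_of_small {C : Dual.D A} (t : ℤ) {m : ℤ} (N : ℕ)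
    (hb : ∀ i, i < m ∨ m + N ≤ i → Subsingleton (Dual.HD A C i))
    (hfin : ∀ i, Module.Finite A (Dual.HD A C i))
    (hs : ∀ i, Subsingleton (Dual.HD A C i) ∨
      ∃ D : ℕ, Module.supportDim A (Dual.HD A C i) ≤ D ∧ (D : ℤ) + i + t < 0) :
    Subsingleton (C ⟶ ω⟦t⟧) := by
  refine Ext.ind_homology (fun K => Subsingleton (K ⟶ ω⟦t⟧)) (fun K hK => ?_) (fun {K L} e h => ?_)
    (fun T hT h1 h3 => Ext.subsingleton_pre₂ T hT h1 h3) N hb fun i => ?_
  · exact ⟨fun f g => (isZero_of_subsingleton_HD hK).eq_of_src f g⟩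
  · exact (Ext.preIso e (ω⟦t⟧)).injective.subsingleton
  · haveI := hfin i
    have h : Subsingleton (Ex (Dual.inD A (Dual.HD A C i)) ω (t + i)) := by
      rcases hs i with h | ⟨D, hD, hDi⟩
      · haveI := h
        exact Ext.subsingleton_ex_of_subsingleton (A := A) _ _
      · exact subsingleton_ex_below hω hn hD (by omega)
    exact (Ext.shiftSrc (Dual.inD A (Dual.HD A C i)) ω (-i) (t + i) t (by omega)).symm.injective.subsingleton

/-- The lowest degree and the rest. -/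
theorem exists_top_triangle {n : ℕ} (hd : ringKrullDim A = n) (k : ℕ) (hk : 1 ≤ k) (hS : LocCoh.HasSk k A A)
    (heq : EGA4.IsEquidim A) :
    ∃ T : Triangle (Dual.D A), ∃ _ : T ∈ distTriang (Dual.D A), T.obj₂ = ω ∧
      (∀ j, j ≠ -(n : ℤ) → Subsingleton (Dual.HD A T.obj₁ j)) ∧
      Nonempty (T.obj₁ ≅ (Dual.inD A (Dual.HD A ω (-(n : ℤ))))⟦-(-(n : ℤ))⟧) ∧
      (∀ j, j < -(n : ℤ) + 1 → Subsingleton (Dual.HD A T.obj₃ j)) ∧
      ∀ t : ℤ, t < k → Subsingleton (T.obj₃ ⟶ ω⟦t⟧) := by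
  have hlow : ∀ j, j < -(n : ℤ) → Subsingleton (Dual.HD A ω j) := fun j hj => by
    haveI := subsingleton_ex_below hω hn (M := A) (i := j)
      ((Module.supportDim_self_eq_ringKrullDim (R := A)).trans hd).le hj
    exact (Ext.evalEquiv ω j).symm.injective.subsingleton
  have hsk := (hasSk_iff_equidim hω hn A (isEquidimModule_self heq) n
    ((Module.supportDim_self_eq_ringKrullDim (R := A)).trans hd) k).1 hS
  obtain ⟨a, b, hab⟩ := exists_bounds hω
  obtain ⟨T, hT, rfl, h1, h3, hb1, hb2⟩ := Ext.exists_trunc ω (-(n : ℤ) + 1)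
  have hX : ∀ j, j ≠ -(n : ℤ) → Subsingleton (Dual.HD A T.obj₁ j) := fun j hj => by
    rcases lt_or_ge j (-(n : ℤ) + 1) with hj' | hj'
    · haveI := hlow j (by omega)
      exact (hb1 j hj').1.subsingleton
    · exact h1 j hj'
  refine ⟨T, hT, rfl, hX, nonempty_iso_single _ hX (LinearEquiv.ofBijective _ (hb1 _ (by omega))), h3,
    fun t ht => ?_⟩
  refine subsingleton_hom_of_small hω hn t (m := -(n : ℤ) + 1) ((b + 1 - (-(n : ℤ) + 1)).toNat) (fun i hi => ?_)
    (fun i => ?_) fun i => ?_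
  · rcases hi with hi | hi
    · exact h3 i hi
    · by_cases hi' : i < -(n : ℤ) + 1
      · exact h3 i hi'
      · haveI := hab i (Or.inr (by omega))
        exact (hb2 i (by omega)).2.subsingleton
  · by_cases hi : i < -(n : ℤ) + 1
    · haveI := h3 i hi; infer_instance
    · haveI := hω.finite_cohomology i
      exact Module.Finite.equiv (LinearEquiv.ofBijective _ (hb2 i (by omega)))
  · by_cases hi : i < -(n : ℤ) + 1
    · exact Or.inl (h3 i hi)
    · let e := LinearEquiv.ofBijective _ (hb2 i (by omega : -(n : ℤ) + 1 ≤ i))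
      obtain ⟨hneg, hpos⟩ := hsk i (by omega)
      by_cases h0 : -i - (k : ℤ) < 0
      · haveI := hneg h0
        haveI : Subsingleton (Dual.HD A T.obj₂ i) := (Ext.evalEquiv T.obj₂ i).symm.injective.subsingleton
        exact Or.inl e.symm.injective.subsingleton
      · refine Or.inr ⟨(-i - (k : ℤ)).toNat, ?_, by omega⟩
        rw [← Module.supportDim_eq_of_equiv e, ← Module.supportDim_eq_of_equiv (Ext.evalEquiv T.obj₂ i)]
        exact hpos (by omega)

/-- `A = End` of the canonical module. -/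
theorem bijective_smul_id {n : ℕ} (hd : ringKrullDim A = n) (hS : LocCoh.HasSk 2 A A) :
    Function.Bijective (fun r : A => r • (LinearMap.id : Dual.HD A ω (-(n : ℤ)) →ₗ[A] Dual.HD A ω (-(n : ℤ)))) := by
  obtain ⟨T, hT, h2, hX, ⟨e⟩, hC, hv⟩ := exists_top_triangle hω hn hd 2 one_le_two hS
    (isEquidim_of_hasSk_two hω hn hS hd)
  subst h2
  let z := (shiftFunctorZero (Dual.D A) ℤ).app T.obj₂
  have hX' : ∀ j, -(n : ℤ) < j → Subsingleton (Dual.HD A T.obj₁ j) := fun j hj => hX j hj.ne'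
  have hC1 : Subsingleton (T.obj₃ ⟶ T.obj₂) :=
    haveI := hv 0 (by norm_num)
    (Ext.postIso T.obj₃ z).symm.injective.subsingleton
  have hC2 : Subsingleton (T.obj₃⟦(-1 : ℤ)⟧ ⟶ T.obj₂) :=
    haveI := hv 1 (by norm_num)
    haveI : Subsingleton (T.obj₃⟦(-1 : ℤ)⟧ ⟶ T.obj₂⟦(0 : ℤ)⟧) :=
      (Ext.shiftSrc T.obj₃ T.obj₂ (-1) 1 0 (by omega)).symm.injective.subsingleton
    (Ext.postIso _ z).symm.injective.subsingleton
  have hT' := inv_rot_of_distTriang _ hT
  have hpre : Function.Bijective (Ext.pre T.mor₁ T.obj₂) := by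
    refine ⟨Ext.injective_pre₁ T hT hC1, fun f => ?_⟩
    obtain ⟨g, hg⟩ := Triangle.yoneda_exact₂ _ hT' f (hC2.elim _ _)
    exact ⟨g, hg.symm⟩
  have hpost : Function.Bijective (Ext.post T.obj₁ T.mor₁) := by
    refine ⟨(injective_iff_map_eq_zero _).2 fun f hf => ?_, fun g => ?_⟩
    · obtain ⟨g, hg⟩ := Triangle.coyoneda_exact₂ _ hT' f hf
      have hlt : ∀ j, j < -(n : ℤ) + 2 → Subsingleton (Dual.HD A (T.invRotate.obj₁) j) := fun j hj =>
        FlatBC.subsingleton_HD_shift hC (-1) j (by omega)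
      rw [hg, Hom.eq_zero_of_lt (-(n : ℤ)) (-(n : ℤ) + 2) (by omega) hX' hlt g]
      exact zero_comp
    · obtain ⟨f, hf⟩ := Triangle.coyoneda_exact₂ _ hT g
        (Hom.eq_zero_of_lt (-(n : ℤ)) (-(n : ℤ) + 1) (by omega) hX' hC _)
      exact ⟨f, hf.symm⟩
  have hXA : Function.Bijective (fun a : A => a • 𝟙 T.obj₁) := by
    refine (Function.Bijective.of_comp_iff' hpost _).1 ?_
    have := hpre.comp hω.toEnd_bijective
    convert this using 1
    funext a
    show (a • 𝟙 T.obj₁) ≫ T.mor₁ = T.mor₁ ≫ (a • 𝟙 T.obj₂)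
    simp
  let K := Dual.HD A T.obj₂ (-(n : ℤ))
  let Φ : (Dual.inD A K ⟶ Dual.inD A K) ≃ₗ[A] (T.obj₁ ⟶ T.obj₁) :=
    (Ext.shiftLin (Dual.inD A K) (Dual.inD A K) (-(-(n : ℤ)))).trans (Linear.homCongr A e.symm e.symm)
  have hΦ : Φ (𝟙 _) = 𝟙 _ := by
    simp [Φ, Ext.shiftLin, Linear.homCongr_apply]
  have hD : Function.Bijective (fun a : A => a • 𝟙 (Dual.inD A K)) := by
    refine (Function.Bijective.of_comp_iff' Φ.bijective _).1 ?_
    convert hXA using 1
    funext a
    simp [hΦ]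
  have hin : ∀ a : A, Ext.inM (L := ModuleCat.of A K) (M := ModuleCat.of A K) (a • LinearMap.id) = a • 𝟙 (Dual.inD A K) := fun a =>
    Ext.inM_smul_id (ModuleCat.of A K) a
  have hinj : Function.Injective (Ext.inM (L := ModuleCat.of A K) (M := ModuleCat.of A K)) := fun f g hfg =>
    ModuleCat.hom_ext_iff.1 ((DerivedCategory.singleFunctor (ModuleCat.{u} A) 0).map_injective hfg)
  refine ⟨fun a b hab => hD.1 ?_, fun φ => ?_⟩
  · show a • 𝟙 _ = b • 𝟙 _
    rw [← hin, ← hin]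
    exact congrArg _ hab
  · obtain ⟨a, ha⟩ := hD.2 (Ext.inM (L := ModuleCat.of A K) (M := ModuleCat.of A K) φ)
    exact ⟨a, hinj ((hin a).trans ha)⟩

/-- No first self-extensions of the canonical module under `(S₃)`. -/
theorem subsingleton_ext_one {n : ℕ} (hd : ringKrullDim A = n) (hS : LocCoh.HasSk 3 A A) :
    Subsingleton (Dual.inD A (Dual.HD A ω (-(n : ℤ))) ⟶ (Dual.inD A (Dual.HD A ω (-(n : ℤ))))⟦(1 : ℤ)⟧) := by
  have hS2 : LocCoh.HasSk 2 A A := fun p _ =>
    (min_le_min (by norm_num) le_rfl).trans (hS p)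
  obtain ⟨T, hT, h2, hX, ⟨e⟩, hC, hv⟩ := exists_top_triangle hω hn hd 3 (by norm_num) hS
    (isEquidim_of_hasSk_two hω hn hS2 hd)
  subst h2
  have h1 : Subsingleton (Ex T.obj₁ T.obj₂ 1) :=
    Ext.subsingleton_pre₁ T hT (i := 1) (j := 2) rfl (hω.ext_self_subsingleton 1 one_ne_zero) (hv 2 (by norm_num))
  have hXX : Subsingleton (T.obj₁ ⟶ T.obj₁⟦(1 : ℤ)⟧) := subsingleton_of_forall_eq 0 fun f => by
    obtain ⟨g, hg⟩ := Triangle.coyoneda_exact₂ _ (rot_of_distTriang _ (rot_of_distTriang _ hT)) f (h1.elim _ _)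
    rw [hg, Hom.eq_zero_of_lt (-(n : ℤ)) (-(n : ℤ) + 1) (by omega) (fun j hj => hX j hj.ne') hC g]
    exact zero_comp
  let m : ℤ := -(-(n : ℤ))
  let K := Dual.inD A (Dual.HD A T.obj₂ (-(n : ℤ)))
  exact ((Ext.shiftLin K (K⟦(1 : ℤ)⟧) m).trans (Linear.homCongr A e.symm
    (shiftComm K 1 m ≪≫ (shiftFunctor (Dual.D A) (1 : ℤ)).mapIso e.symm))).injective.subsingleton

end Groth.Agent.H4DR.Dualizing
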