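import Groth.Agent.H4DR.Dualizing.Criterion
import Mathlib.LinearAlgebra.Basis.VectorSpace

/-!
# The degree of a dualizing complex at a maximal ideal
-/

set_option autoImplicit false
set_option linter.style.haveILetI false
set_option linter.unusedVariables false

universe u

open CategoryTheory CategoryTheory.Limits Pretriangulated
open Groth.Agent.H4DR.DComplete (coind hQ)
open Groth.Agent.H4DR.Ext (Ex pre preIso postIso)
open Groth.Agent.H4DR.RHom (cls exists_cls cls_eq_zero_iff)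

attribute [local instance] HasDerivedCategory.standard

namespace Groth.Agent.H4DR.Dualizing

variable {A : Type u} [CommRing A]

/-- Functionals on modules killed by a maximal ideal. -/
theorem exists_functional (m : Ideal A) [m.IsMaximal] {C : Type u} [AddCommGroup C] [Module A C]
    (hC : ∀ a ∈ m, ∀ x : C, a • x = 0) (S : Submodule A C) {z : C} (hz : z ∉ S) :
    ∃ l : C →ₗ[A] A ⧸ m, (∀ s ∈ S, l s = 0) ∧ l z = 1 := by
  letI := Ideal.Quotient.field m
  have ht : Module.IsTorsionBySet A (C ⧸ S) (m : Set A) := fun x a => by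
    obtain ⟨x, rfl⟩ := Submodule.Quotient.mk_surjective S x
    rw [← Submodule.Quotient.mk_smul, show (a : A) • x = 0 from hC a a.2 x, Submodule.Quotient.mk_zero]
  letI := ht.module
  have hinj : LinearMap.ker (LinearMap.toSpanSingleton (A ⧸ m) (C ⧸ S) (Submodule.Quotient.mk z)) = ⊥ :=
    LinearMap.ker_eq_bot'.2 fun r hr => (smul_eq_zero.1 hr).resolve_right fun h =>
      hz ((Submodule.Quotient.mk_eq_zero S).1 h)
  obtain ⟨φ, hφ⟩ := LinearMap.exists_leftInverse_of_injective _ hinj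
  haveI : IsScalarTower A (A ⧸ m) (C ⧸ S) := ht.isScalarTower
  refine ⟨(φ.restrictScalars A) ∘ₗ S.mkQ, fun s hs => ?_, ?_⟩
  · show φ (Submodule.Quotient.mk s) = 0
    rw [(Submodule.Quotient.mk_eq_zero S).2 hs, map_zero]
  · show φ (Submodule.Quotient.mk z) = 1
    have := LinearMap.congr_fun hφ 1
    simpa using this

variable {E : DRing.Cx A}

/-- The elementwise content of a null homotopy `Hom(A/I, E) → E`. -/
theorem exists_lift_of_Q_eq_zero [CochainComplex.IsKInjective E] (I : Ideal A)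
    (u : coind (ModuleCat.of A (A ⧸ I)) E ⟶ E) (hu : DerivedCategory.Q.map u = 0) (j : ℤ)
    (z : (A ⧸ I) →ₗ[A] E.X j) (hz : (E.d j (j + 1)).hom ∘ₗ z = 0) :
    ∃ w : (A ⧸ I) →ₗ[A] E.X (j - 1), (E.d (j - 1) j).hom ∘ₗ w =
      (u.f j).hom ∘ₗ ((LinearMap.llcomp A _ _ _ z) ∘ₗ LinearMap.mul A (A ⧸ I)) := by
  obtain ⟨H⟩ := RHom.nonempty_homotopy_of_Q_map _ hu
  let mulc : (A ⧸ I) →ₗ[A] ((A ⧸ I) →ₗ[A] E.X j) := (LinearMap.llcomp A _ _ _ z) ∘ₗ LinearMap.mul A (A ⧸ I)
  refine ⟨(H.hom j (j - 1)).hom ∘ₗ mulc, LinearMap.ext fun c => ?_⟩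
  have hc := congr($(H.comm j).hom (mulc c))
  have hd : ((coind (ModuleCat.of A (A ⧸ I)) E).d j (j + 1)).hom (mulc c) = 0 :=
    LinearMap.ext fun y => LinearMap.congr_fun hz (c * y)
  rw [dNext_eq _ (show (ComplexShape.up ℤ).Rel j (j + 1) by simp),
    prevD_eq _ (show (ComplexShape.up ℤ).Rel (j - 1) j by simp)] at hc
  simp only [HomologicalComplex.zero_f, add_zero, ModuleCat.hom_add, ModuleCat.hom_comp] at hc
  refine Eq.trans ?_ hc.symm
  refine Eq.symm ?_
  show ((H.hom (j + 1) j).hom (((coind (ModuleCat.of A (A ⧸ I)) E).d j (j + 1)).hom (mulc c)) : E.X j) + _ = _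
  rw [hd, map_zero, zero_add]
  rfl

lemma smul_coind_eq_zero (I : Ideal A) (j : ℤ) {a : A} (ha : a ∈ I) (z : (A ⧸ I) →ₗ[A] E.X j) : a • z = 0 :=
  LinearMap.ext fun y => by
    obtain ⟨y, rfl⟩ := Submodule.Quotient.mk_surjective I y
    show a • z (Submodule.Quotient.mk y) = 0
    rw [← map_smul, ← Submodule.Quotient.mk_smul,
      (Submodule.Quotient.mk_eq_zero I).2 (show a • y ∈ I from I.mul_mem_right y ha), map_zero]

lemma d_smul {Z : DRing.Cx A} {j i : ℤ} {w : Z.X j} (hw : (Z.d j i).hom w = 0) (α : A) :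
    (Z.d j i).hom (α • w) = 0 := by
  rw [map_smul, hw, smul_zero]

lemma cls_eq_smul_of_d {Z : DRing.Cx A} {j : ℤ} {w w' : Z.X j} (hw : (Z.d j (j + 1)).hom w = 0)
    (hw' : (Z.d j (j + 1)).hom w' = 0) (α : A) (v : Z.X (j - 1)) (hv : (Z.d (j - 1) j).hom v = w' - α • w) :
    cls Z j w' hw' = α • cls Z j w hw := by
  have haw := d_smul hw α
  have hww : (Z.d j (j + 1)).hom (w' - α • w) = 0 := by rw [map_sub, hw', haw, sub_zero]
  rw [← RG.cls_smul Z j α w hw haw]
  refine (RG.cls_congr Z j (sub_add_cancel w' (α • w)).symm hw' (by rw [sub_add_cancel]; exact hw')).trans ?_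
  rw [RG.cls_add Z j _ _ hww haw, (cls_eq_zero_iff Z j _ hww).2 ⟨v, hv⟩, zero_add]

lemma smul_cls_eq_zero {Z : DRing.Cx A} {j : ℤ} {w : Z.X j} (hw : (Z.d j (j + 1)).hom w = 0) {r : A}
    (h : r • w = 0) : r • cls Z j w hw = 0 := by
  rw [← RG.cls_smul Z j r w hw (d_smul hw r)]
  exact (cls_eq_zero_iff Z j _ _).2 ⟨0, (map_zero _).trans h.symm⟩

variable {a b : ℤ} (hv : DRing.VanishesOutside E a b) (hE : DRing.TermwiseInjective E)
include hv hE

theorem exists_degree_of_isRefl (m : Ideal A) [hm : m.IsMaximal] (hk : IsRefl E (A ⧸ m)) :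
    ∃ n : ℤ, (∀ i : ℤ, i ≠ n → Subsingleton (Ex (Dual.inD A (A ⧸ m)) (DRing.toD E) i)) ∧
      Nonempty (Ex (Dual.inD A (A ⧸ m)) (DRing.toD E) n ≃ₗ[A] A ⧸ m) := by
  classical
  haveI := Ext.isKInjective_of_vanishesOutside hv hE
  let k := ModuleCat.of A (A ⧸ m)
  let C := coind k E
  obtain ⟨n, z, hz, hcls⟩ : ∃ (n : ℤ) (z : (A ⧸ m) →ₗ[A] E.X n) (hz : (C.d n (n + 1)).hom z = 0),
      cls C n z hz ≠ 0 := by
    by_contra hcon
    push Not at hcon
    have hC : ∀ j, Subsingleton (C.homology j) := fun j => subsingleton_of_forall_eq 0 fun x => by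
      obtain ⟨z, hz, rfl⟩ := exists_cls C j x
      exact hcon j z hz
    have hQC : ∀ j, Subsingleton (Dual.HD A (DRing.toD C) j) := fun j =>
      haveI := hC j; (hQ C j).injective.subsingleton
    haveI : Subsingleton (T E (A ⧸ m) 0) := Ext.subsingleton_ex_of_LE (c := a - 1) (L := DRing.toD E)
      (fun j _ => hQC j) hv hE (Iso.refl _) (by omega)
    haveI : Subsingleton (A ⧸ m) := hk.bij.injective.subsingleton
    exact hm.ne_top (Submodule.Quotient.subsingleton_iff.1 inferInstance)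
  have hSz : z ∉ LinearMap.range (C.d (n - 1) n).hom := fun ⟨w, hw⟩ => hcls ((cls_eq_zero_iff C n z hz).2 ⟨w, hw⟩)
  obtain ⟨l, hl0, hl1⟩ := exists_functional m (C := C.X n) (fun x hx y => smul_coind_eq_zero m n hx y) _ hSz
  let u : C ⟶ E := Hom.toSgl (N := k) (ModuleCat.ofHom l)
      (ModuleCat.hom_ext (LinearMap.ext fun w => hl0 _ ⟨w, rfl⟩)) ≫
    HomologicalComplex.mkHomFromSingle (c := ComplexShape.up ℤ) (j := n) (A := k)
      (ModuleCat.ofHom z)
      (fun j (hj : n + 1 = j) => by subst hj; exact ModuleCat.hom_ext hz)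
  obtain ⟨c, hc⟩ := hk.bij.2 (DerivedCategory.Q.map u ≫ (shiftFunctorZero (Dual.D A) ℤ).inv.app (DRing.toD E))
  have hu0 : DerivedCategory.Q.map (u - evC E k c) = 0 := by
    rw [Functor.map_sub, sub_eq_zero]
    exact ((cancel_mono ((shiftFunctorZero (Dual.D A) ℤ).inv.app (DRing.toD E))).1 hc).symm
  obtain ⟨α, rfl⟩ := Ideal.Quotient.mk_surjective c
  have hun : ∀ w : C.X n, (u.f n).hom w = z (l w) := fun w => by
    have e : u.f n = (ModuleCat.ofHom l ≫ (HomologicalComplex.singleObjXSelf (ComplexShape.up ℤ) n k).inv) ≫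
        ((HomologicalComplex.singleObjXSelf (ComplexShape.up ℤ) n k).hom ≫ ModuleCat.ofHom z) := by
      refine (HomologicalComplex.comp_f _ _ n).trans ?_
      exact congrArg₂ (· ≫ ·) (Hom.toSgl_f _ _) (HomologicalComplex.mkHomFromSingle_f _ _)
    rw [e]
    exact congrArg z
      (congr($((HomologicalComplex.singleObjXSelf (ComplexShape.up ℤ) n k).inv_hom_id).hom (l w)))
  have hrel : ∀ (j : ℤ) (w : (A ⧸ m) →ₗ[A] E.X j) (hw : (C.d j (j + 1)).hom w = 0) (w' : (A ⧸ m) →ₗ[A] E.X j),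
      (∀ y : A ⧸ m, (u.f j).hom ((LinearMap.llcomp A _ _ _ w) (LinearMap.mul A (A ⧸ m) y)) =
        w' y) →
      ∀ hw', cls C j w' hw' = α • cls C j w hw := fun j w hw w' hy hw' => by
    obtain ⟨v, hv'⟩ := exists_lift_of_Q_eq_zero m _ hu0 j w hw
    refine cls_eq_smul_of_d (Z := C) hw hw' α v ?_
    refine LinearMap.ext fun y => (LinearMap.congr_fun hv' y).trans ?_
    show (u.f j).hom _ - w (y * Ideal.Quotient.mk m α) =
      w' y - α • w y
    rw [← hy y, ← map_smul, mul_comm, show Ideal.Quotient.mk m α * y = α • y from (Algebra.smul_def α y).symm]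
    rfl
  have hn : ∀ (w : (A ⧸ m) →ₗ[A] E.X n) (r : A) (hr : Ideal.Quotient.mk m r = l w) (hw : (C.d n (n + 1)).hom w = 0),
      α • cls C n w hw = r • cls C n z hz := fun w r hr hw => by
    have hz' : (C.d n (n + 1)).hom (r • z) = 0 := d_smul hz r
    refine ((hrel n w hw (r • z) (fun y => ?_) hz').symm).trans (RG.cls_smul C n r z hz hz')
    obtain ⟨y, rfl⟩ := Ideal.Quotient.mk_surjective y
    have e1 : ((LinearMap.llcomp A _ _ _ w) (LinearMap.mul A (A ⧸ m) (Ideal.Quotient.mk m y)) :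
        C.X n) = y • w := LinearMap.ext fun t => by
      show w (Ideal.Quotient.mk m y * t) = y • w t
      rw [← map_smul, Algebra.smul_def]; rfl
    refine ((congrArg (u.f n).hom e1).trans (hun (y • w))).trans ?_
    show z (l (y • w)) = r • z (Ideal.Quotient.mk m y)
    refine (congrArg z (l.map_smul y w)).trans ?_
    rw [← map_smul z r, ← hr, Algebra.smul_def, Algebra.smul_def, mul_comm]
    rfl
  have hα : α - 1 ∈ m := by
    by_contra hcon
    obtain ⟨β, γ, hγ, he⟩ := hm.exists_inv hcon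
    refine hcls ?_
    have h1 : (α - 1) • cls C n z hz = 0 := by
      rw [sub_smul, hn z 1 (by rw [hl1, map_one]) hz, sub_self]
    have h2 : γ • cls C n z hz = 0 := smul_cls_eq_zero (Z := C) hz (smul_coind_eq_zero m n hγ z)
    calc cls C n z hz = (β * (α - 1) + γ) • cls C n z hz := by rw [he, one_smul]
      _ = 0 := by rw [add_smul, mul_smul, h1, h2, smul_zero, add_zero]
  have hα1 : ∀ (j : ℤ) (w : C.X j) (hw : (C.d j (j + 1)).hom w = 0), α • cls C j w hw = cls C j w hw :=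
    fun j w hw => by
      have h0 : (α - 1) • cls C j w hw = 0 := smul_cls_eq_zero (Z := C) hw (smul_coind_eq_zero m j hα w)
      rwa [sub_smul, one_smul, sub_eq_zero] at h0
  refine ⟨n, fun j hj => ?_, ?_⟩
  · haveI : Subsingleton (C.homology j) := subsingleton_of_forall_eq 0 fun x => by
      obtain ⟨w, hw, rfl⟩ := exists_cls C j x
      rw [← hα1 j w hw, ← hrel j w hw 0 (fun y => ?_) (map_zero _)]
      · exact (cls_eq_zero_iff C j 0 _).2 ⟨0, map_zero _⟩
      · have : u.f j = 0 := (HomologicalComplex.comp_f _ _ j).trans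
          ((congrArg (· ≫ _) ((HomologicalComplex.isZero_single_obj_X (ComplexShape.up ℤ) n k j hj).eq_zero_of_tgt _)).trans zero_comp)
        exact congr($(this).hom _)
    exact Function.Injective.subsingleton (β := C.homology j) (exEquiv E k j).injective
  · let g : A →ₗ[A] C.homology n := LinearMap.toSpanSingleton A _ (cls C n z hz)
    have hg : Function.Surjective g := fun x => by
      obtain ⟨w, hw, rfl⟩ := exists_cls C n x
      obtain ⟨r, hr⟩ := Ideal.Quotient.mk_surjective (l w)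
      exact ⟨r, (hn w r hr hw).symm.trans (hα1 n w hw)⟩
    have hker : LinearMap.ker g = m := by
      refine (hm.eq_of_le (fun h => hcls ?_) fun r hr => ?_).symm
      · have : g 1 = 0 := LinearMap.mem_ker.1 (h ▸ Submodule.mem_top)
        simpa [g] using this
      · exact LinearMap.mem_ker.2 (smul_cls_eq_zero (Z := C) hz (smul_coind_eq_zero m n hr z))
    exact ⟨(exEquiv E k n).trans ((g.quotKerEquivOfSurjective hg).symm.trans (Submodule.quotEquivOfEq _ _ hker))⟩

omit hv hE in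
theorem exists_degree [IsNoetherianRing A] {ω : Dual.D A} (hω : Dual.IsDualizing A ω) (m : Ideal A) [m.IsMaximal] :
    ∃ n : ℤ, (∀ i : ℤ, i ≠ n → Subsingleton (Dual.inD A (A ⧸ m) ⟶ ω⟦i⟧)) ∧
      Nonempty ((Dual.inD A (A ⧸ m) ⟶ ω⟦n⟧) ≃ₗ[A] (A ⧸ m)) := by
  obtain ⟨E, a, b, hv, hE, ⟨e⟩⟩ := exists_injRep (K := ω) hω.finite_injective_dimension
  obtain ⟨n, h1, ⟨h2⟩⟩ := exists_degree_of_isRefl hv hE m
    (isRefl_of_finite hv hE (isRefl_self_of_isDualizing hω e) (A ⧸ m))
  let eX : ∀ i, (Dual.inD A (A ⧸ m) ⟶ ω⟦i⟧) ≃ₗ[A] Ex (Dual.inD A (A ⧸ m)) (DRing.toD E) i := fun i =>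
    postIso _ ((shiftFunctor (Dual.D A) i).mapIso e.symm)
  exact ⟨n, fun i hi => haveI := h1 i hi; (eX i).injective.subsingleton, ⟨(eX n).trans h2⟩⟩

end Groth.Agent.H4DR.Dualizing
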