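import Groth.Agent.H4DR.Dualizing.WayOut
import Groth.Agent.H4DR.Dualizing.Compare
import Groth.Agent.H4DR.Ext.Point
import Groth.Agent.H4DR.FlatBC.Dualizing
import Mathlib.Algebra.Homology.HomologySequenceLemmas

/-!
# Biduality with respect to a dualizing complex
-/

set_option autoImplicit false
set_option linter.style.haveILetI false
set_option linter.unusedVariables false

universe u

open CategoryTheory CategoryTheory.Limits CochainComplex CochainComplex.HomComplex
open Groth.Agent.H4DR.RHom (homCxPre quasiIso_homCxPre quasiIsoAt_of_elements rhomObj)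
open Groth.Agent.H4DR.Dualizing.WayOut

attribute [local instance] HasDerivedCategory.standard

namespace Groth.Agent.H4DR.Dualizing

variable {A : Type u} [CommRing A] (E : DRing.Cx A)

/-- `x ↦ (z ↦ ± z x)`. -/
noncomputable def ddEtaLin (K : DRing.Cx A) (i : ℤ) : K.X i →ₗ[A] Cochain (DRing.homCx K E) E i where
  toFun x := Cochain.mk fun m q h => ModuleCat.ofHom (X := Cochain K E m) (Y := E.X q)
    { toFun := fun z => (i * m).negOnePow.val • (z.v i q (by omega)).hom x
      map_add' := fun z z' => by rw [Cochain.add_v, ModuleCat.hom_add, LinearMap.add_apply, smul_add]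
      map_smul' := fun a z => by
        rw [Cochain.smul_v, ModuleCat.hom_smul, LinearMap.smul_apply, RingHom.id_apply,
          smul_comm (i * m).negOnePow.val a] }
  map_add' x y := Cochain.ext _ _ fun m q h => ModuleCat.hom_ext (LinearMap.ext fun (z : Cochain K E m) => by
    show (i * m).negOnePow.val • (z.v i q _).hom (x + y) =
      (i * m).negOnePow.val • (z.v i q _).hom x + (i * m).negOnePow.val • (z.v i q _).hom y
    rw [map_add, smul_add])
  map_smul' a x := Cochain.ext _ _ fun m q h => ModuleCat.hom_ext (LinearMap.ext fun (z : Cochain K E m) => by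
    show (i * m).negOnePow.val • (z.v i q _).hom (a • x) = a • ((i * m).negOnePow.val • (z.v i q _).hom x)
    rw [map_smul, smul_comm])

lemma ddEtaLin_apply (K : DRing.Cx A) (i : ℤ) (x : K.X i) (m q : ℤ) (h : m + i = q) (z : Cochain K E m) :
    ((ddEtaLin E K i x).v m q h).hom z = (i * m).negOnePow.val • (z.v i q (by omega)).hom x := rfl

/-- The evaluation map into the double dual. -/
noncomputable def ddEta (K : DRing.Cx A) : K ⟶ DRing.homCx (DRing.homCx K E) E where
  f i := ModuleCat.ofHom (Y := Cochain (DRing.homCx K E) E i) (ddEtaLin E K i)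
  comm' i j hij := by
    obtain rfl : i + 1 = j := hij
    refine ModuleCat.hom_ext (LinearMap.ext fun x => ?_)
    show δ i (i + 1) (ddEtaLin E K i x) = ddEtaLin E K (i + 1) ((K.d i (i + 1)).hom x)
    refine Cochain.ext _ _ fun m q h => ModuleCat.hom_ext (LinearMap.ext fun (z : Cochain K E m) => ?_)
    rw [δ_v i (i + 1) rfl _ m q h (q - 1) (m + 1) rfl rfl]
    show (E.d (q - 1) q).hom (((ddEtaLin E K i x).v m (q - 1) (by omega)).hom z) +
        ((i + 1).negOnePow • ((DRing.homCx K E).d m (m + 1) ≫ (ddEtaLin E K i x).v (m + 1) q (by omega))).hom z =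
      ((ddEtaLin E K (i + 1) ((K.d i (i + 1)).hom x)).v m q h).hom z
    rw [Units.smul_def, ModuleCat.hom_zsmul, LinearMap.smul_apply]
    show (E.d (q - 1) q).hom (((ddEtaLin E K i x).v m (q - 1) (by omega)).hom z) +
        (i + 1).negOnePow.val • ((ddEtaLin E K i x).v (m + 1) q (by omega)).hom (δ m (m + 1) z) = _
    rw [ddEtaLin_apply, ddEtaLin_apply, ddEtaLin_apply,
      δ_v m (m + 1) rfl z i q (by omega) (q - 1) (i + 1) rfl rfl]
    simp only [ModuleCat.hom_add, LinearMap.add_apply, Units.smul_def, ModuleCat.hom_zsmul, LinearMap.smul_apply,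
      ModuleCat.hom_comp, LinearMap.comp_apply, map_zsmul, smul_add, smul_smul]
    have h1 : (i + 1).negOnePow.val * (i * (m + 1)).negOnePow.val = -((i * m).negOnePow.val) := by
      rw [← Units.val_mul, ← Int.negOnePow_add, show i + 1 + i * (m + 1) = i * m + 1 + 2 * i by ring,
        Int.negOnePow_add, Int.negOnePow_two_mul, mul_one, Int.negOnePow_succ, Units.val_neg]
    have h2 : -((i * m).negOnePow.val) * (m + 1).negOnePow.val = ((i + 1) * m).negOnePow.val := by
      rw [Int.negOnePow_succ, Units.val_neg, neg_mul_neg, ← Units.val_mul, ← Int.negOnePow_add,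
        show i * m + m = (i + 1) * m by ring]
    rw [← mul_assoc, h1, h2, neg_smul, ← add_assoc, add_neg_cancel, zero_add]

lemma ddEta_naturality {K K' : DRing.Cx A} (g : K ⟶ K') :
    g ≫ ddEta E K' = ddEta E K ≫ homCxPre (homCxPre g E) E :=
  HomologicalComplex.hom_ext _ _ fun i => ModuleCat.hom_ext (LinearMap.ext fun x =>
    Cochain.ext _ _ fun m q h => ModuleCat.hom_ext (LinearMap.ext fun (z : Cochain K' E m) => by
      show (i * m).negOnePow.val • (z.v i q _).hom ((g.f i).hom x) =
        ((((Cochain.ofHom (homCxPre g E)).comp (ddEtaLin E K i x) (zero_add i)).v m q h)).hom z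
      rw [Cochain.zero_cochain_comp_v, Cochain.ofHom_v]
      show _ = (i * m).negOnePow.val • (((Cochain.ofHom g).comp z (zero_add m)).v i q _).hom x
      rw [Cochain.zero_cochain_comp_v, Cochain.ofHom_v]
      rfl))

variable {E}

/-- The morphism of short complexes to the double dual. -/
noncomputable def ddEtaS (S : ShortComplex (DRing.Cx A)) : S ⟶ dualS E (dualS E S) where
  τ₁ := ddEta E S.X₁
  τ₂ := ddEta E S.X₂
  τ₃ := ddEta E S.X₃
  comm₁₂ := (ddEta_naturality E S.f).symm
  comm₂₃ := (ddEta_naturality E S.g).symm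

section Five

open HomologicalComplex.HomologySequence ComposableArrows

theorem isIso_homologyMap_τ₂ {S₁ S₂ : ShortComplex (DRing.Cx A)} (φ : S₁ ⟶ S₂) (hS₁ : S₁.ShortExact)
    (hS₂ : S₂.ShortExact) (i : ℤ)
    (a₀ : Epi (HomologicalComplex.homologyMap φ.τ₃ (i - 1)))
    (b₁ : IsIso (HomologicalComplex.homologyMap φ.τ₁ i))
    (b₃ : IsIso (HomologicalComplex.homologyMap φ.τ₃ i))
    (a₁ : Mono (HomologicalComplex.homologyMap φ.τ₁ (i + 1))) :
    IsIso (HomologicalComplex.homologyMap φ.τ₂ i) := by
  haveI : Mono (HomologicalComplex.homologyMap φ.τ₂ i) := by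
    apply Abelian.mono_of_epi_of_mono_of_mono
      ((δ₀Functor ⋙ δ₀Functor).map (mapComposableArrows₅ φ hS₁ hS₂ (i - 1) i (by simp)))
    · exact (composableArrows₅_exact hS₁ (i - 1) i (by simp)).δ₀.δ₀
    · exact (composableArrows₅_exact hS₂ (i - 1) i (by simp)).δ₀.δ₀
    · exact a₀
    · exact (inferInstance : Mono (HomologicalComplex.homologyMap φ.τ₁ i))
    · exact (inferInstance : Mono (HomologicalComplex.homologyMap φ.τ₃ i))
  haveI : Epi (HomologicalComplex.homologyMap φ.τ₂ i) := by
    apply Abelian.epi_of_epi_of_epi_of_mono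
      ((δlastFunctor ⋙ δlastFunctor).map (mapComposableArrows₅ φ hS₁ hS₂ i (i + 1) (by simp)))
    · exact (composableArrows₅_exact hS₁ i (i + 1) (by simp)).δlast.δlast
    · exact (composableArrows₅_exact hS₂ i (i + 1) (by simp)).δlast.δlast
    · exact (inferInstance : Epi (HomologicalComplex.homologyMap φ.τ₁ i))
    · exact (inferInstance : Epi (HomologicalComplex.homologyMap φ.τ₃ i))
    · exact a₁
  exact isIso_of_mono_of_epi _

end Five

section Single

variable (E) (p : ℤ)

/-- `A` in degree `p`. -/
noncomputable abbrev sglA (p : ℤ) : DRing.Cx A :=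
  (CochainComplex.singleFunctor (ModuleCat.{u} A) p).obj (ModuleCat.of A A)

/-- The generator. -/
noncomputable def oneS : (sglA (A := A) p).X p :=
  (HomologicalComplex.singleObjXSelf (ComplexShape.up ℤ) p (ModuleCat.of A A)).inv.hom (1 : A)

/-- The class of the generator in the double dual. -/
noncomputable def oneZ : Cocycle (DRing.homCx (sglA p) E) E p :=
  Cocycle.mk (ddEtaLin E (sglA p) p (oneS p)) (p + 1) rfl (by
    have h := congrArg (fun t => t.hom (oneS (A := A) p)) ((ddEta E (sglA p)).comm p (p + 1))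
    have hd : ((sglA (A := A) p).d p (p + 1)).hom (oneS (A := A) p) = 0 := by
      rw [show (sglA (A := A) p).d p (p + 1) = 0 from HomologicalComplex.single_obj_d (ComplexShape.up ℤ) p _ p (p + 1)]
      rfl
    refine h.trans ?_
    show ((ddEta E (sglA p)).f (p + 1)).hom (((sglA (A := A) p).d p (p + 1)).hom (oneS (A := A) p)) = 0
    rw [hd, map_zero])

/-- `Hom•(A[-p], E) → E⟦p⟧`. -/
noncomputable def dualSingleHom : DRing.homCx (sglA p) E ⟶ E⟦p⟧ := Cocycle.equivHomShift.symm (oneZ E p)

lemma bijective_ev_one (m q : ℤ) (h : p + m = q) :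
    Function.Bijective (fun z : Cochain (sglA p) E m => (z.v p q h).hom (oneS p)) := by
  have h1 : Function.Bijective (fun f : (ModuleCat.of A A ⟶ E.X q) => f.hom (1 : A)) :=
    (LinearMap.ringLmapEquivSelf A A (E.X q)).bijective.comp (ModuleCat.homEquiv (M := ModuleCat.of A A) (N := E.X q)).bijective
  exact h1.comp (Cochain.fromSingleEquiv (X := ModuleCat.of A A) (K := E) h).bijective

instance isIso_dualSingleHom : IsIso (dualSingleHom E p) := by
  haveI : ∀ m, IsIso ((dualSingleHom E p).f m) := fun m => by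
    rw [ConcreteCategory.isIso_iff_bijective]
    have hf : ∀ z : Cochain (sglA p) E m, ((dualSingleHom E p).f m).hom z =
        (show E.X (m + p) from (p * m).negOnePow.val • (z.v p (m + p) (add_comm p m)).hom (oneS p)) := fun z => rfl
    have hsq : ∀ v : E.X (m + p), (p * m).negOnePow.val • (p * m).negOnePow.val • v = v := fun v => by
      rw [smul_smul, ← Units.val_mul, Int.units_mul_self, Units.val_one, one_smul]
    have hval : (p * m).negOnePow.val * (p * m).negOnePow.val = 1 := by
      rw [← Units.val_mul, Int.units_mul_self]; rfl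
    have hb := bijective_ev_one E p m (m + p) (add_comm p m)
    show Function.Bijective (fun z : Cochain (sglA p) E m => ((dualSingleHom E p).f m).hom z)
    refine ⟨fun x y hxy => hb.1 ?_, fun w => ?_⟩
    · exact (hsq _).symm.trans ((congrArg (fun v : E.X (m + p) => (p * m).negOnePow.val • v)
        ((hf x).symm.trans (hxy.trans (hf y)))).trans (hsq _))
    · obtain ⟨z, hz⟩ := hb.2 ((p * m).negOnePow.val • (show E.X (m + p) from w))
      exact ⟨z, (hf z).trans ((congrArg (fun v : E.X (m + p) => (p * m).negOnePow.val • v) hz).trans (hsq _))⟩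
  exact HomologicalComplex.Hom.isIso_of_components (dualSingleHom E p)

theorem nonempty_dual_single : Nonempty (DRing.homCx (sglA p) E ≅ E⟦p⟧) := ⟨asIso (dualSingleHom E p)⟩

end Single

variable {a b : ℤ} (hv : DRing.VanishesOutside E a b) (hE : DRing.TermwiseInjective E)

lemma isIso_of_exactAt {K L : DRing.Cx A} (f : K ⟶ L) (i : ℤ) (h1 : K.ExactAt i) (h2 : L.ExactAt i) :
    IsIso (HomologicalComplex.homologyMap f i) :=
  ⟨0, ((HomologicalComplex.exactAt_iff_isZero_homology _ _).1 h1).eq_of_src _ _,
    ((HomologicalComplex.exactAt_iff_isZero_homology _ _).1 h2).eq_of_src _ _⟩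

lemma exactAt_of_isZero {K : DRing.Cx A} {i : ℤ} (h : IsZero (K.X i)) : K.ExactAt i :=
  ShortComplex.exact_of_isZero_X₂ _ h

include hv hE in
theorem finite_homology_aux [IsNoetherianRing A] (hH : ∀ i : ℤ, Module.Finite A (Dual.HD A (DRing.toD E) i)) :
    IsWayOut A (fun K i => Module.Finite A ((DRing.homCx K E).homology (-i))) (max |a| |b|) where
  quasiIso g _ i := by
    haveI := Ext.isKInjective_of_vanishesOutside hv hE
    haveI := quasiIso_dual E g
    let e := (asIso (HomologicalComplex.homologyMap (homCxPre g E) (-i))).toLinearEquiv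
    exact ⟨fun h => Module.Finite.equiv e.symm, fun h => Module.Finite.equiv e⟩
  ext S hS i _ h1 _ _ h3 _ := by
    have h := shortExact_dualS E hE hS
    exact PCoh.finite_of_exact _ _ ((ShortComplex.ShortExact.moduleCat_exact_iff_function_exact _).1
      (h.homology_exact₂ (-i))) (IsNoetherian.noetherian _)
  below K p i hK hi := by
    haveI := ModuleCat.subsingleton_of_isZero ((HomologicalComplex.exactAt_iff_isZero_homology _ _).1
      (exactAt_of_isZero (isZero_dual_above E (fun j hj => hv j (Or.inr hj)) hK (n := -i)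
        (by have := le_abs_self b; have := le_max_right |a| |b|; omega))))
    infer_instance
  above K q i hK hi := by
    haveI := ModuleCat.subsingleton_of_isZero ((HomologicalComplex.exactAt_iff_isZero_homology _ _).1
      (exactAt_of_isZero (isZero_dual_below E (fun j hj => hv j (Or.inl hj)) hK (n := -i)
        (by have := neg_abs_le a; have := le_max_left |a| |b|; omega))))
    infer_instance
  base p i := by
    obtain ⟨e⟩ := nonempty_dual_single (A := A) E p
    haveI : Module.Finite A ((DerivedCategory.Q ⋙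
      DerivedCategory.homologyFunctor (ModuleCat.{u} A) (-i + p)).obj E : Type u) := hH (-i + p)
    exact Module.Finite.equiv (((DerivedCategory.homologyFunctorFactors (ModuleCat.{u} A) (-i + p)).app E) ≪≫
      (((HomologicalComplex.homologyFunctor (ModuleCat.{u} A) (ComplexShape.up ℤ) 0).shiftIso p (-i) (-i + p)
        (by omega)).app E).symm ≪≫ (HomologicalComplex.homologyFunctor _ _ (-i)).mapIso e.symm).toLinearEquiv

end Groth.Agent.H4DR.Dualizing

namespace Groth.Agent.H4DR.Dualizing

variable {A : Type u} [CommRing A] {E : DRing.Cx A} {a b : ℤ}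

section Base

variable [CochainComplex.IsKInjective E] (hω : Dual.IsDualizing A (DRing.toD E))
include hω

theorem subsingleton_shift_hom (p i : ℤ) (hi : i ≠ p) :
    Subsingleton ((DRing.toD E)⟦p⟧ ⟶ (DRing.toD E)⟦i⟧) := by
  haveI := hω.ext_self_subsingleton (i - p) (by omega)
  let c := (CategoryTheory.shiftFunctorAdd' (Dual.D A) (i - p) p i (by omega)).app (DRing.toD E)
  refine subsingleton_of_forall_eq 0 fun f => ?_
  obtain ⟨g, hg⟩ := (CategoryTheory.shiftFunctor (Dual.D A) p).map_surjective (f ≫ c.hom)
  refine (cancel_mono c.hom).1 (hg.symm.trans ?_)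
  rw [Subsingleton.elim g 0, Functor.map_zero, zero_comp]

theorem exists_smul_eq_hom (p : ℤ) (f : DerivedCategory.Q.obj (E⟦p⟧) ⟶ DerivedCategory.Q.obj (E⟦p⟧)) :
    ∃ c : A, f = c • 𝟙 _ := by
  let e := (DerivedCategory.Q.commShiftIso p).app E
  obtain ⟨g, hg⟩ := (CategoryTheory.shiftFunctor (Dual.D A) p).map_surjective (e.inv ≫ f ≫ e.hom)
  obtain ⟨c, hc⟩ := hω.toEnd_bijective.2 g
  refine ⟨c, (cancel_epi e.inv).1 ((cancel_mono e.hom).1 ?_)⟩
  dsimp only at hc
  rw [Category.assoc, ← hg, ← hc, Functor.map_smul, CategoryTheory.Functor.map_id, Linear.comp_smul,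
    Linear.smul_comp]
  refine congrArg (c • ·) ?_
  exact (((congrArg (· ≫ e.hom) (Category.comp_id e.inv))).trans e.inv_hom_id).symm

theorem eq_zero_of_smul_id (p : ℤ) (c : A) (h : c • 𝟙 (DerivedCategory.Q.obj (E⟦p⟧)) = 0) : c = 0 := by
  let e := (DerivedCategory.Q.commShiftIso p).app E
  refine hω.toEnd_bijective.1 ?_
  show c • 𝟙 (DRing.toD E) = (0 : A) • 𝟙 (DRing.toD E)
  refine (CategoryTheory.shiftFunctor (Dual.D A) p).map_injective ?_
  rw [Functor.map_smul, CategoryTheory.Functor.map_id, zero_smul, Functor.map_zero]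
  have := congrArg (fun t => e.inv ≫ t ≫ e.hom) h
  simpa using this

theorem isIso_ddEta_single (p i : ℤ) :
    IsIso (HomologicalComplex.homologyMap (ddEta E (sglA p)) i) := by
  by_cases hi : i = p
  · subst hi
    let hh := dualSingleHom E i
    haveI : IsIso (DerivedCategory.Q.map hh) := inferInstance
    have hsm : ∀ c : A, (ddEta E (sglA i)).f i (c • oneS i) = c • ddEtaLin E (sglA i) i (oneS i) := fun c =>
      map_smul (ddEtaLin E (sglA i) i) c (oneS i)
    have hz : ∀ (c : A), DerivedCategory.Q.map (Cocycle.equivHomShift.symm (c • oneZ E i)) =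
        c • DerivedCategory.Q.map hh := fun c => by
      rw [show (c • oneZ E i) = (oneZ E i).precomp (c • 𝟙 (DRing.homCx (sglA i) E)) from
          Cocycle.ext (Cochain.ext _ _ fun m q h => by simp [Cocycle.precomp]),
        Cocycle.equivHomShift_symm_precomp, Linear.smul_comp, Category.id_comp, Functor.map_smul]
      rfl
    have hzero : ∀ (z : Cocycle (DRing.homCx (sglA i) E) E i),
        DerivedCategory.Q.map (Cocycle.equivHomShift.symm z) = 0 ↔ z ∈ coboundaries _ E i := fun z => by
      rw [← CohomologyClass.toHom_mk_eq_zero_iff, CohomologyClass.toHom_mk]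
      refine ⟨fun h0 => ?_, fun h0 => ?_⟩
      · rw [HomotopyCategory.eq_of_homotopy _ _ (RHom.nonempty_homotopy_of_Q_map _ h0).some, Functor.map_zero]
      · rw [DerivedCategory.Q_map_eq_of_homotopy (h := HomotopyCategory.homotopyOfEq _ _
          (h0.trans (Functor.map_zero _ _ _).symm)), Functor.map_zero]
    have hone : ∀ x : (sglA (A := A) i).X i, ∃ c : A, x = c • oneS i := fun x => by
      let σ := (HomologicalComplex.singleObjXSelf (ComplexShape.up ℤ) i (ModuleCat.of A A)).toLinearEquiv
      refine ⟨σ x, ?_⟩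
      show x = σ x • σ.symm (1 : A)
      rw [← map_smul, smul_eq_mul, mul_one, LinearEquiv.symm_apply_apply]
    have hd : ∀ x : (sglA (A := A) i).X i, ((sglA (A := A) i).d i (i + 1)).hom x = 0 := fun x => by
      rw [show (sglA (A := A) i).d i (i + 1) = 0 from HomologicalComplex.single_obj_d (ComplexShape.up ℤ) i _ i (i + 1)]
      rfl
    rw [← quasiIsoAt_iff_isIso_homologyMap]
    refine quasiIsoAt_of_elements _ i (fun (y : Cochain (DRing.homCx (sglA i) E) E i) hy => ?_) fun x β _ hx => ?_
    · let z := Cocycle.mk y (i + 1) rfl hy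
      obtain ⟨c, hc⟩ := exists_smul_eq_hom hω i
        (inv (DerivedCategory.Q.map hh) ≫ DerivedCategory.Q.map (Cocycle.equivHomShift.symm z))
      have hq : DerivedCategory.Q.map (Cocycle.equivHomShift.symm z) = c • DerivedCategory.Q.map hh := by
        have := congrArg (DerivedCategory.Q.map hh ≫ ·) hc
        simpa using this
      have hm : c • oneZ E i - z ∈ coboundaries _ E i := (hzero _).1 (by
        rw [map_sub, Functor.map_sub, hz, hq, sub_self])
      obtain ⟨β, hβ⟩ := (mem_coboundaries_iff _ (i - 1) (by omega)).1 hm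
      refine ⟨c • oneS i, β, hd _, (hsm c).trans ?_⟩
      show c • ddEtaLin E (sglA i) i (oneS i) = y + δ (i - 1) i β
      rw [hβ]
      exact (add_sub_cancel y _).symm
    · obtain ⟨c, rfl⟩ := hone x
      have hm : c • oneZ E i ∈ coboundaries _ E i := (mem_coboundaries_iff _ (i - 1) (by omega)).2
        ⟨β, ((hsm c).symm.trans hx).symm⟩
      have h0 := (hzero _).2 hm
      rw [hz] at h0
      have hc : c = 0 := eq_zero_of_smul_id hω i c (by
        rw [← cancel_epi (DerivedCategory.Q.map hh), Linear.comp_smul, Category.comp_id, h0, comp_zero])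
      exact ⟨0, by rw [map_zero, hc, zero_smul]⟩
  · refine isIso_of_exactAt _ i (exactAt_of_isZero ?_) ?_
    · exact HomologicalComplex.isZero_single_obj_X (ComplexShape.up ℤ) p _ i hi
    · refine RHom.exactAt_homCx_of_subsingleton _ E i ?_
      haveI : Subsingleton (((DerivedCategory.Q ⋙ CategoryTheory.shiftFunctor (DerivedCategory (ModuleCat.{u} A)) p).obj E) ⟶
          (CategoryTheory.shiftFunctor (Dual.D A) i).obj (DRing.toD E)) := subsingleton_shift_hom hω p i hi
      exact (Iso.homFromEquiv (DerivedCategory.Q.mapIso (asIso (dualSingleHom E p)) ≪≫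
        (DerivedCategory.Q.commShiftIso p).app E)).subsingleton

end Base

variable (hv : DRing.VanishesOutside E a b) (hE : DRing.TermwiseInjective E)
include hv hE

theorem isIso_ddEta_wayOut (hω : Dual.IsDualizing A (DRing.toD E)) :
    IsWayOut A (fun K i => IsIso (HomologicalComplex.homologyMap (ddEta E K) i)) (|b - a|) where
  quasiIso {K K'} g _ i := by
    haveI := Ext.isKInjective_of_vanishesOutside hv hE
    haveI := quasiIso_dual E g
    haveI := quasiIso_dual E (homCxPre g E)
    have h : HomologicalComplex.homologyMap g i ≫ HomologicalComplex.homologyMap (ddEta E K') i =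
        HomologicalComplex.homologyMap (ddEta E K) i ≫
          HomologicalComplex.homologyMap (homCxPre (homCxPre g E) E) i := by
      rw [← HomologicalComplex.homologyMap_comp, ← HomologicalComplex.homologyMap_comp, ddEta_naturality]
    refine ⟨fun hK => ?_, fun hK => ?_⟩
    · have : IsIso (HomologicalComplex.homologyMap g i ≫ HomologicalComplex.homologyMap (ddEta E K') i) := by
        rw [h]; infer_instance
      exact IsIso.of_isIso_comp_left (HomologicalComplex.homologyMap g i) _
    · have : IsIso (HomologicalComplex.homologyMap (ddEta E K) i ≫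
          HomologicalComplex.homologyMap (homCxPre (homCxPre g E) E) i) := by
        rw [← h]; infer_instance
      exact IsIso.of_isIso_comp_right _ (HomologicalComplex.homologyMap (homCxPre (homCxPre g E) E) i)
  ext S hS i _ h1 h1' h3' h3 _ :=
    isIso_homologyMap_τ₂ (ddEtaS S) hS (shortExact_dualS E hE (shortExact_dualS E hE hS)) i
      (haveI := h3'; inferInstanceAs (Epi (HomologicalComplex.homologyMap (ddEta E S.X₃) (i - 1)))) h1 h3
      (haveI := h1'; inferInstanceAs (Mono (HomologicalComplex.homologyMap (ddEta E S.X₁) (i + 1))))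
  below K p i hK hi := by
    have := le_abs_self (b - a)
    have := abs_nonneg (b - a)
    exact isIso_of_exactAt _ i (exactAt_of_isZero (hK i (by omega)))
      (exactAt_of_isZero (isZero_dual_below E (fun j hj => hv j (Or.inl hj))
        (q := b - p) (fun j hj => isZero_dual_above E (fun j hj => hv j (Or.inr hj)) hK (n := j) hj) (by omega)))
  above K q i hK hi := by
    have := le_abs_self (b - a)
    have := abs_nonneg (b - a)
    exact isIso_of_exactAt _ i (exactAt_of_isZero (hK i (by omega)))
      (exactAt_of_isZero (isZero_dual_above E (fun j hj => hv j (Or.inr hj))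
        (p := a - q) (fun j hj => isZero_dual_below E (fun j hj => hv j (Or.inl hj)) hK (n := j) hj) (by omega)))
  base p i := haveI := Ext.isKInjective_of_vanishesOutside hv hE; isIso_ddEta_single hω p i

theorem quasiIso_ddEta [IsNoetherianRing A] (hω : Dual.IsDualizing A (DRing.toD E)) (K : DRing.Cx A)
    (hK : ∀ i, Module.Finite A (Dual.HD A (DRing.toD K) i)) : QuasiIso (ddEta E K) :=
  ⟨fun i => (quasiIsoAt_iff_isIso_homologyMap _ i).2 ((isIso_ddEta_wayOut hv hE hω).of_finite K hK i)⟩

omit hv hE in
theorem biduality_dualizing [IsNoetherianRing A] {ω : Dual.D A} (hω : Dual.IsDualizing A ω) (K : DRing.Cx A)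
    [DRing.HasRHomCx K] (hK : ∀ i : ℤ, Module.Finite A (Dual.HD A (DRing.toD K) i)) :
    (∀ i : ℤ, Module.Finite A (Dual.HD A ((DRing.RHomCx K).obj ω) i)) ∧
      ∀ (E' : DRing.Cx A) [DRing.HasRHomCx E'],
        Nonempty (DRing.toD E' ≅ (DRing.RHomCx K).obj ω) →
          Nonempty ((DRing.RHomCx E').obj ω ≅ DRing.toD K) := by
  obtain ⟨a, b, E, hv, hE, ⟨e⟩⟩ := Ext.fid_iff.1 (show Ext.FID ω from hω.finite_injective_dimension)
  haveI := Ext.isKInjective_of_vanishesOutside hv hE
  have hω' : Dual.IsDualizing A (DRing.toD E) := isDualizing_of_iso e.symm hω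
  let r : (DRing.RHomCx K).obj ω ≅ DRing.toD (DRing.homCx K E) :=
    (DRing.RHomCx K).mapIso e.symm ≪≫ rhomObj K E
  refine ⟨fun i => ?_, fun E' _ ⟨e'⟩ => ?_⟩
  · have h := (finite_homology_aux hv hE hω'.finite_cohomology).of_finite K hK (-i)
    rw [neg_neg] at h
    haveI := h
    exact Module.Finite.equiv (PCoh.hEquiv i r ≪≫ₗ DComplete.hQ _ i).symm
  · obtain ⟨s⟩ := nonempty_dual_iso E (e' ≪≫ r)
    haveI := quasiIso_ddEta hv hE hω' K hK
    exact ⟨(DRing.RHomCx E').mapIso e.symm ≪≫ rhomObj E' E ≪≫ s ≪≫
      (asIso (DerivedCategory.Q.map (ddEta E K))).symm⟩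

end Groth.Agent.H4DR.Dualizing
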