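import Groth.Agent.H4DR.Dualizing.DoubleDual
import Mathlib.RingTheory.Flat.EquationalCriterion
import Mathlib.RingTheory.Flat.Basic
import Mathlib.Algebra.Module.Injective

/-!
# Terms of duals: finite tor dimension versus finite injective dimension
-/

set_option autoImplicit false
set_option linter.style.haveILetI false
set_option linter.unusedVariables false

universe u

open CategoryTheory CategoryTheory.Limits CochainComplex CochainComplex.HomComplex
open Groth.Agent.H4DR.Dualizing.WayOut
open Groth.Agent.H4DR.RHom (rhomObj)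
open scoped TensorProduct

attribute [local instance] HasDerivedCategory.standard

namespace Groth.Agent.H4DR.Dualizing

variable {A : Type u} [CommRing A]

/-- Relations among homomorphisms between injective modules come from relations among scalars. -/
theorem exists_coeffs {l r : ℕ} (f : Fin l → A) (a : Fin l → Fin r → A)
    (hgen : ∀ b : Fin l → A, ∑ k, f k * b k = 0 → ∃ c : Fin r → A, ∀ k, b k = ∑ j, a k j * c j)
    (I J : Type u) [AddCommGroup I] [Module A I] [Module.Injective A I] [AddCommGroup J] [Module A J]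
    [Module.Injective A J] (h : Fin l → (I →ₗ[A] J)) (hh : ∑ k, f k • h k = 0) :
    ∃ y : Fin r → (I →ₗ[A] J), ∀ k, h k = ∑ j, a k j • y j := by
  classical
  let M : (Fin l → I) →ₗ[A] (Fin r → I) := LinearMap.pi fun j => ∑ k, a k j • LinearMap.proj k
  let H : (Fin l → I) →ₗ[A] J := ∑ k, h k ∘ₗ LinearMap.proj k
  have hker : LinearMap.ker M ≤ LinearMap.ker H := fun v hv => by
    have hv' : ∀ j, ∑ k, a k j • v k = 0 := fun j => by
      have := congrFun (LinearMap.mem_ker.1 hv) j
      simpa [M] using this
    let F : (Fin l → A) →ₗ[A] A := ∑ k, f k • LinearMap.proj k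
    let G : (Fin l → A) →ₗ[A] I := ∑ k, (LinearMap.proj k : (Fin l → A) →ₗ[A] A).smulRight (v k)
    have hFG : LinearMap.ker F ≤ LinearMap.ker G := fun b hb => by
      have hb' : ∑ k, f k * b k = 0 := by simpa [F] using LinearMap.mem_ker.1 hb
      obtain ⟨c, hc⟩ := hgen b hb'
      refine LinearMap.mem_ker.2 ?_
      show G b = 0
      simp only [G, LinearMap.sum_apply, LinearMap.smulRight_apply, LinearMap.proj_apply, hc, Finset.sum_smul]
      rw [Finset.sum_comm]
      refine Finset.sum_eq_zero fun j _ => ?_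
      simp only [mul_comm (a _ j) (c j), mul_smul, ← Finset.smul_sum, hv', smul_zero]
    obtain ⟨g, hg⟩ := Module.Injective.out (R := A) (Q := I) ((LinearMap.ker F).liftQ F le_rfl)
      (LinearMap.ker_eq_bot.1 (Submodule.ker_liftQ_eq_bot _ _ _ le_rfl)) ((LinearMap.ker F).liftQ G hFG)
    have hv2 : ∀ k, v k = f k • g 1 := fun k => by
      have := hg (Submodule.Quotient.mk (Pi.single k (1 : A)))
      simp only [Submodule.liftQ_apply] at this
      have h1 : F (Pi.single k (1 : A)) = f k := by simp [F, Pi.single_apply]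
      have h2 : G (Pi.single k (1 : A)) = v k := by simp [G, Pi.single_apply]
      rw [h1, h2] at this
      rw [← this, ← map_smul, smul_eq_mul, mul_one]
    refine LinearMap.mem_ker.2 ?_
    have := LinearMap.congr_fun hh (g 1)
    simp only [LinearMap.sum_apply, LinearMap.smul_apply, LinearMap.zero_apply] at this
    show H v = 0
    simp only [H, LinearMap.sum_apply, LinearMap.comp_apply, LinearMap.proj_apply]
    rw [← this]
    exact Finset.sum_congr rfl fun k _ => by rw [hv2 k, map_smul]
  obtain ⟨Y, hY⟩ := Module.Injective.out (R := A) (Q := J) ((LinearMap.ker M).liftQ M le_rfl)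
    (LinearMap.ker_eq_bot.1 (Submodule.ker_liftQ_eq_bot _ _ _ le_rfl)) ((LinearMap.ker M).liftQ H hker)
  refine ⟨fun j => Y ∘ₗ LinearMap.single A (fun _ : Fin r => I) j, fun k => LinearMap.ext fun x => ?_⟩
  have h1 := hY (Submodule.Quotient.mk (Pi.single k x))
  simp only [Submodule.liftQ_apply] at h1
  have h2 : H (Pi.single k x) = h k x := by
    simp only [H, LinearMap.sum_apply, LinearMap.comp_apply, LinearMap.proj_apply]
    rw [Finset.sum_eq_single k (fun k' _ hk' => by rw [Pi.single_eq_of_ne hk', map_zero])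
      (fun h => absurd (Finset.mem_univ k) h), Pi.single_eq_same]
  have h3 : M (Pi.single k x) = ∑ j, a k j • (LinearMap.single A (fun _ : Fin r => I) j x) := by
    funext j
    simp [M, Pi.single_apply, Finset.sum_apply]
  rw [h2] at h1
  rw [← h1, h3, map_sum]
  simp [LinearMap.sum_apply]

theorem injective_cochain {F E : DRing.Cx A} (hF : DRing.TermwiseFlat F) (hE : DRing.TermwiseInjective E)
    (n : ℤ) : Module.Injective A (Cochain F E n) where
  out X Y _ _ _ _ f hf g := by
    have key : ∀ p : ℤ, ∃ t : F.X p ⊗[A] Y →ₗ[A] E.X (p + n),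
        ∀ m x, t (m ⊗ₜ f x) = ((g x).v p (p + n) rfl).hom m := fun p => by
      haveI := hF p
      haveI := hE (p + n)
      let gp : X →ₗ[A] (F.X p →ₗ[A] E.X (p + n)) :=
        { toFun := fun x => ((g x).v p (p + n) rfl).hom
          map_add' := fun x x' => by rw [map_add, Cochain.add_v, ModuleCat.hom_add]
          map_smul' := fun a x => by rw [map_smul, Cochain.smul_v, ModuleCat.hom_smul, RingHom.id_apply] }
      obtain ⟨t, ht⟩ := Module.Injective.out (R := A) (Q := E.X (p + n)) (f.lTensor (F.X p))
        (Module.Flat.lTensor_preserves_injective_linearMap f hf) (TensorProduct.lift gp.flip)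
      exact ⟨t, fun m x => ht (m ⊗ₜ x)⟩
    choose t ht using key
    refine ⟨{ toFun := fun y => Cochain.mk fun p q h =>
                ModuleCat.ofHom ((TensorProduct.mk A (F.X p) Y).flip y |> fun u => (t p) ∘ₗ u) ≫
                  (E.XIsoOfEq (show p + n = q from h)).hom
              map_add' := fun y y' => Cochain.ext _ _ fun p q h => by
                subst h
                refine ModuleCat.hom_ext (LinearMap.ext fun m => ?_)
                simp [TensorProduct.tmul_add]
              map_smul' := fun a y => Cochain.ext _ _ fun p q h => by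
                subst h
                refine ModuleCat.hom_ext (LinearMap.ext fun m => ?_)
                simp [TensorProduct.tmul_smul] }, fun x => ?_⟩
    refine Cochain.ext _ _ fun p q h => ?_
    subst h
    refine ModuleCat.hom_ext (LinearMap.ext fun m => ?_)
    simpa using ht p m x

lemma sum_v {K L : DRing.Cx A} {n : ℤ} {ι : Type*} (s : Finset ι) (z : ι → Cochain K L n) (p q : ℤ) (h : p + n = q) :
    (∑ i ∈ s, z i).v p q h = ∑ i ∈ s, (z i).v p q h := by
  classical
  induction s using Finset.induction_on with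
  | empty => simp
  | insert i s hi ih => rw [Finset.sum_insert hi, Finset.sum_insert hi, Cochain.add_v, ih]

theorem flat_cochain [IsNoetherianRing A] {F E : DRing.Cx A} (hF : DRing.TermwiseInjective F)
    (hE : DRing.TermwiseInjective E) (n : ℤ) : Module.Flat A (Cochain F E n) := by
  classical
  refine Module.Flat.of_forall_isTrivialRelation fun {l f z} hz => ?_
  let φ : (Fin l → A) →ₗ[A] A := ∑ k, f k • LinearMap.proj k
  obtain ⟨r, π, hπ⟩ := Module.Finite.exists_fin' A (LinearMap.ker φ)
  let a : Fin l → Fin r → A := fun k j => (π (Pi.single j 1) : Fin l → A) k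
  have hgen : ∀ b : Fin l → A, ∑ k, f k * b k = 0 → ∃ c : Fin r → A, ∀ k, b k = ∑ j, a k j * c j := fun b hb => by
    obtain ⟨c, hc⟩ := hπ ⟨b, LinearMap.mem_ker.2 (by simpa [φ] using hb)⟩
    refine ⟨c, fun k => ?_⟩
    have h1 : b k = ((π c : LinearMap.ker φ) : Fin l → A) k := by rw [hc]
    rw [h1]
    conv_lhs => rw [show c = ∑ j, c j • Pi.single j (1 : A) by funext i; simp [Pi.single_apply, Finset.sum_apply]]
    simp [map_sum, a, mul_comm]
  have key : ∀ p : ℤ, ∃ y : Fin r → (F.X p →ₗ[A] E.X (p + n)),
      ∀ k, ((z k).v p (p + n) rfl).hom = ∑ j, a k j • y j := fun p => by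
    haveI := hF p
    haveI := hE (p + n)
    refine exists_coeffs f a hgen (F.X p) (E.X (p + n)) (fun k => ((z k).v p (p + n) rfl).hom) ?_
    have := congrArg (fun w : Cochain F E n => (w.v p (p + n) rfl).hom) hz
    simpa [sum_v, ModuleCat.hom_sum] using this
  choose y hy using key
  refine ⟨r, a, fun j => Cochain.mk fun p q h => ModuleCat.ofHom (y p j) ≫ (E.XIsoOfEq (show p + n = q from h)).hom,
    fun k => Cochain.ext _ _ fun p q h => ?_, fun j => ?_⟩
  · subst h
    refine ModuleCat.hom_ext ?_
    simpa [sum_v, ModuleCat.hom_sum] using hy p k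
  · have h := LinearMap.mem_ker.1 (π (Pi.single j 1)).2
    simp only [φ, LinearMap.sum_apply, LinearMap.smul_apply, LinearMap.proj_apply, smul_eq_mul] at h
    exact h

theorem hasFiniteTorDim_iff [IsNoetherianRing A] {ω : Dual.D A} (hω : Dual.IsDualizing A ω) (G : DRing.Cx A)
    [DRing.HasRHomCx G] (hfin : ∀ i : ℤ, Module.Finite A (Dual.HD A (DRing.toD G) i)) :
    DRing.HasFiniteTorDimCx A (DRing.toD G) ↔ DRing.HasFiniteInjDim A ((DRing.RHomCx G).obj ω) := by
  obtain ⟨a, b, E, hv, hE, ⟨e⟩⟩ := Ext.fid_iff.1 (show Ext.FID ω from hω.finite_injective_dimension)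
  haveI := Ext.isKInjective_of_vanishesOutside hv hE
  let r : (DRing.RHomCx G).obj ω ≅ DRing.toD (DRing.homCx G E) :=
    (DRing.RHomCx G).mapIso e.symm ≪≫ rhomObj G E
  constructor
  · rintro ⟨c, d, F, hFv, hF, ⟨eF⟩⟩
    obtain ⟨s⟩ := nonempty_dual_iso E eF
    refine ⟨a - d, b - c, DRing.homCx F E, fun i hi => ?_, fun i => injective_cochain hF hE i, ⟨s ≪≫ r.symm⟩⟩
    rcases hi with hi | hi
    · exact isZero_dual_below E (fun j hj => hv j (Or.inl hj)) (fun j hj => hFv j (Or.inr hj)) hi
    · exact isZero_dual_above E (fun j hj => hv j (Or.inr hj)) (fun j hj => hFv j (Or.inl hj)) hi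
  · rintro ⟨c, d, J, hJv, hJ, ⟨eJ⟩⟩
    obtain ⟨s⟩ := nonempty_dual_iso E (eJ ≪≫ r)
    haveI := quasiIso_ddEta hv hE (isDualizing_of_iso e.symm hω) G hfin
    refine ⟨a - d, b - c, DRing.homCx J E, fun i hi => ?_, fun i => flat_cochain hJ hE i,
      ⟨s ≪≫ (asIso (DerivedCategory.Q.map (ddEta E G))).symm⟩⟩
    rcases hi with hi | hi
    · exact isZero_dual_below E (fun j hj => hv j (Or.inl hj)) (fun j hj => hJv j (Or.inr hj)) hi
    · exact isZero_dual_above E (fun j hj => hv j (Or.inr hj)) (fun j hj => hJv j (Or.inl hj)) hi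

end Groth.Agent.H4DR.Dualizing
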