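import Groth.Agent.H4DR.Ext.Finite
import Mathlib.Algebra.Homology.HomotopyCategory.HomComplexSingle

/-!
# `Hom(M, E)` for a bounded complex of injectives `E`
-/

set_option autoImplicit false
set_option linter.style.haveILetI false

universe u

open CategoryTheory CategoryTheory.Limits Pretriangulated CochainComplex CochainComplex.HomComplex
open Groth.Agent.H4DR.DComplete (coind homF)
open Groth.Agent.H4DR.RHom (cls exists_cls cls_eq_zero_iff homologyMap_cls)

attribute [local instance] HasDerivedCategory.standard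

namespace Groth.Agent.H4DR.Dualizing

variable {A : Type u} [CommRing A]

/-- `Hom(-, E)` on morphisms. -/
noncomputable def cMap (E : DRing.Cx A) {M N : ModuleCat.{u} A} (f : M →ₗ[A] N) : coind N E ⟶ coind M E where
  f i := ModuleCat.ofHom (LinearMap.lcomp A (E.X i) f)
  comm' i j _ := ModuleCat.hom_ext (LinearMap.ext fun _ => rfl)

@[simp] lemma cMap_f_apply (E : DRing.Cx A) {M N : ModuleCat.{u} A} (f : M →ₗ[A] N) (i : ℤ) (z : N →ₗ[A] E.X i) :
    ((cMap E f).f i).hom z = z ∘ₗ f := rfl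

lemma cMap_comp (E : DRing.Cx A) {M N P : ModuleCat.{u} A} (f : M →ₗ[A] N) (g : N →ₗ[A] P) :
    cMap E (g ∘ₗ f) = cMap E g ≫ cMap E f :=
  HomologicalComplex.hom_ext _ _ fun _ => ModuleCat.hom_ext (LinearMap.ext fun _ => rfl)

lemma cMap_id (E : DRing.Cx A) (M : ModuleCat.{u} A) : cMap E (LinearMap.id : M →ₗ[A] M) = 𝟙 _ :=
  HomologicalComplex.hom_ext _ _ fun _ => ModuleCat.hom_ext (LinearMap.ext fun _ => rfl)

lemma cMap_smul (E : DRing.Cx A) {M N : ModuleCat.{u} A} (a : A) (f : M →ₗ[A] N) :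
    cMap E (a • f) = a • cMap E f :=
  HomologicalComplex.hom_ext _ _ fun i => ModuleCat.hom_ext (LinearMap.ext fun (z : N →ₗ[A] E.X i) => by
    show z ∘ₗ (a • f) = a • (z ∘ₗ f)
    rw [LinearMap.comp_smul])

/-- Short exact sequences of modules give distinguished triangles. -/
theorem exists_triangle {E : DRing.Cx A} (hE : DRing.TermwiseInjective E) {L M N : ModuleCat.{u} A} (f : L →ₗ[A] M)
    (g : M →ₗ[A] N) (hf : Function.Injective f) (hg : Function.Surjective g) (hfg : Function.Exact f g) :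
    ∃ δ, Triangle.mk (DerivedCategory.Q.map (cMap E g)) (DerivedCategory.Q.map (cMap E f)) δ ∈
      distTriang (Dual.D A) := by
  have hzero : cMap E g ≫ cMap E f = 0 := HomologicalComplex.hom_ext _ _ fun i =>
    ModuleCat.hom_ext (LinearMap.ext fun (z : N →ₗ[A] E.X i) => LinearMap.ext fun x =>
      (congrArg z (hfg.apply_apply_eq_zero x)).trans (map_zero z))
  let S := ShortComplex.mk (cMap E g) (cMap E f) hzero
  have hS : S.ShortExact := HomologicalComplex.shortExact_of_degreewise_shortExact _ fun i => by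
    refine ShortComplex.ShortExact.mk' ?_ ((ModuleCat.mono_iff_injective _).2 fun (z z' : N →ₗ[A] E.X i) h => ?_)
      ((ModuleCat.epi_iff_surjective _).2 fun (z : L →ₗ[A] E.X i) => ?_)
    · refine (ShortComplex.ShortExact.moduleCat_exact_iff_function_exact _).2 fun (z : M →ₗ[A] E.X i) => ⟨fun hz => ?_, ?_⟩
      · have hk : LinearMap.ker g ≤ LinearMap.ker z := by
          rw [hfg.linearMap_ker_eq]; rintro _ ⟨y, rfl⟩; exact LinearMap.congr_fun hz y
        refine ⟨Submodule.liftQ (LinearMap.ker g) z hk ∘ₗ (g.quotKerEquivOfSurjective hg).symm.toLinearMap,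
          LinearMap.ext fun x => ?_⟩
        show Submodule.liftQ (LinearMap.ker g) z hk ((g.quotKerEquivOfSurjective hg).symm (g x)) = z x
        rw [show (g.quotKerEquivOfSurjective hg).symm (g x) = Submodule.Quotient.mk x from
          (LinearEquiv.symm_apply_eq _).2 rfl]
        rfl
      · rintro ⟨(w : N →ₗ[A] E.X i), rfl⟩
        exact LinearMap.ext fun x => (congrArg w (hfg.apply_apply_eq_zero x)).trans (map_zero w)
    · refine (LinearMap.ext fun y => ?_ : (z : N →ₗ[A] E.X i) = z')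
      obtain ⟨x, rfl⟩ := hg y
      exact LinearMap.congr_fun (show (z : N →ₗ[A] E.X i) ∘ₗ g = (z' : N →ₗ[A] E.X i) ∘ₗ g from h) x
    · haveI := hE i
      obtain ⟨h, hh⟩ := Module.Injective.out (R := A) (Q := E.X i) f hf z
      exact ⟨h, LinearMap.ext hh⟩
  exact ⟨_, DerivedCategory.triangleOfSES_distinguished hS⟩

lemma vanishesOutside_coind {E : DRing.Cx A} {a b : ℤ} (hv : DRing.VanishesOutside E a b) (M : ModuleCat.{u} A) :
    DRing.VanishesOutside (coind M E) a b := fun i hi => (homF M).map_isZero (hv i hi)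

/-- The chain map `M[0] → E⟦j⟧` of a cocycle. -/
noncomputable def cocHom (E : DRing.Cx A) (M : ModuleCat.{u} A) (j : ℤ)
    (z : LinearMap.ker ((coind M E).d j (j + 1)).hom) : (CochainComplex.singleFunctor (ModuleCat.{u} A) 0).obj M ⟶ E⟦j⟧ :=
  Cocycle.equivHomShift.symm (Cocycle.mk
    (Cochain.fromSingleMk (X := M) (K := E) (ModuleCat.ofHom (z.1 : M →ₗ[A] E.X j)) (zero_add j)) (j + 1) rfl
    ((Cochain.δ_fromSingleMk _ _ (j + 1) (j + 1) (zero_add _)).trans (by
      rw [show ModuleCat.ofHom (z.1 : M →ₗ[A] E.X j) ≫ E.d j (j + 1) = 0 from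
        ModuleCat.hom_ext (LinearMap.mem_ker.1 z.2), Cochain.fromSingleMk_zero])))

lemma cocHom_f (E : DRing.Cx A) (M : ModuleCat.{u} A) (j : ℤ) (z : LinearMap.ker ((coind M E).d j (j + 1)).hom) :
    (cocHom E M j z).f 0 = (HomologicalComplex.singleObjXSelf (ComplexShape.up ℤ) 0 M).hom ≫
      ModuleCat.ofHom (z.1 : M →ₗ[A] E.X j) ≫ (CochainComplex.shiftFunctorObjXIso E j 0 j (by omega)).inv := by
  simp [cocHom, Cocycle.equivHomShift_symm_apply, Cochain.rightShift_v _ j 0 (zero_add j) 0 0 (add_zero 0) j (zero_add j)]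
  all_goals exact Category.assoc _ _ _

lemma cocHom_add (E : DRing.Cx A) (M : ModuleCat.{u} A) (j : ℤ) (z z' : LinearMap.ker ((coind M E).d j (j + 1)).hom) :
    cocHom E M j (z + z') = cocHom E M j z + cocHom E M j z' := by
  refine HomologicalComplex.from_single_hom_ext ?_
  rw [HomologicalComplex.add_f_apply, cocHom_f, cocHom_f, cocHom_f]
  rw [show ModuleCat.ofHom ((z + z' : _).1 : M →ₗ[A] E.X j) =
    ModuleCat.ofHom (z.1 : M →ₗ[A] E.X j) + ModuleCat.ofHom (z'.1 : M →ₗ[A] E.X j) from rfl,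
    Preadditive.add_comp, Preadditive.comp_add]
  rfl

lemma cocHom_smul (E : DRing.Cx A) (M : ModuleCat.{u} A) (j : ℤ) (r : A) (z : LinearMap.ker ((coind M E).d j (j + 1)).hom) :
    cocHom E M j (r • z) = r • cocHom E M j z := by
  refine HomologicalComplex.from_single_hom_ext ?_
  rw [HomologicalComplex.smul_f_apply, cocHom_f, cocHom_f]
  rw [show ModuleCat.ofHom ((r • z : _).1 : M →ₗ[A] E.X j) = r • ModuleCat.ofHom (z.1 : M →ₗ[A] E.X j) from rfl,
    Linear.smul_comp, Linear.comp_smul]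
  rfl

/-- A morphism `M[0] → Q E⟦j⟧` from a cocycle. -/
noncomputable def ψ (E : DRing.Cx A) (M : ModuleCat.{u} A) (j : ℤ) :
    LinearMap.ker ((coind M E).d j (j + 1)).hom →ₗ[A] (Dual.inD A M ⟶ (DRing.toD E)⟦j⟧) where
  toFun z := (DerivedCategory.singleFunctorIsoCompQ (ModuleCat.{u} A) 0).hom.app M ≫
    DerivedCategory.Q.map (cocHom E M j z) ≫ (DerivedCategory.Q.commShiftIso j).hom.app E
  map_add' z z' := by
    rw [cocHom_add, Functor.map_add, Preadditive.add_comp, Preadditive.comp_add]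
  map_smul' r z := by
    rw [cocHom_smul, Functor.map_smul, Linear.smul_comp, Linear.comp_smul]
    rfl

theorem ψ_surjective {E : DRing.Cx A} [CochainComplex.IsKInjective E] (M : ModuleCat.{u} A) (j : ℤ) :
    Function.Surjective (ψ E M j) := fun f => by
  let eF := (DerivedCategory.singleFunctorIsoCompQ (ModuleCat.{u} A) 0).app M
  obtain ⟨g, hg⟩ := Ext.Q_map_surjective_of_kinj _ (E⟦j⟧)
    (eF.inv ≫ f ≫ (DerivedCategory.Q.commShiftIso j).inv.app E)
  obtain ⟨φ, hφ⟩ := Cochain.fromSingleMk_surjective (X := M) (p := 0) (Cocycle.equivHomShift g).1 j (zero_add j)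
  have hd : φ ≫ E.d j (j + 1) = 0 := by
    refine (Cochain.fromSingleEquiv (X := M) (K := E) (zero_add (j + 1))).symm.injective ?_
    show Cochain.fromSingleMk (φ ≫ E.d j (j + 1)) (zero_add (j + 1)) = Cochain.fromSingleMk 0 (zero_add (j + 1))
    rw [← Cochain.δ_fromSingleMk φ (zero_add j) (j + 1) (j + 1) (zero_add _), hφ, Cochain.fromSingleMk_zero]
    exact Cocycle.δ_eq_zero _ _
  let z : LinearMap.ker ((coind M E).d j (j + 1)).hom := ⟨φ.hom, LinearMap.mem_ker.2 (congrArg ModuleCat.Hom.hom hd)⟩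
  refine ⟨z, ?_⟩
  show eF.hom ≫ DerivedCategory.Q.map (cocHom E M j z) ≫ _ = f
  rw [show cocHom E M j z = g from Cocycle.equivHomShift.symm_apply_eq.2
    (Subtype.ext (show Cochain.fromSingleMk φ (zero_add j) = _ from hφ)), hg]
  simp

theorem ker_ψ {E : DRing.Cx A} [CochainComplex.IsKInjective E] (M : ModuleCat.{u} A) (j : ℤ)
    (z : LinearMap.ker ((coind M E).d j (j + 1)).hom) :
    ψ E M j z = 0 ↔ ∃ w, ((coind M E).d (j - 1) j).hom w = z.1 := by
  let g := cocHom E M j z
  have h1 : ψ E M j z = 0 ↔ DerivedCategory.Q.map g = 0 := by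
    show (DerivedCategory.singleFunctorIsoCompQ (ModuleCat.{u} A) 0).hom.app M ≫
      DerivedCategory.Q.map g ≫ (DerivedCategory.Q.commShiftIso j).hom.app E = 0 ↔ _
    rw [Preadditive.IsIso.comp_left_eq_zero, Preadditive.IsIso.comp_right_eq_zero]
  refine h1.trans ⟨fun h => ?_, fun ⟨w, hw⟩ => ?_⟩
  · obtain ⟨H⟩ := RHom.nonempty_homotopy_of_Q_map g h
    have h2 := (CohomologyClass.toHom_mk_eq_zero_iff _).1 ((CohomologyClass.toHom_mk _).trans
      ((HomotopyCategory.quotient_map_eq_zero_iff _).2 ⟨H⟩))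
    obtain ⟨m, hm, β, hβ⟩ := h2
    obtain rfl : m = j - 1 := by omega
    obtain ⟨w, rfl⟩ := Cochain.fromSingleMk_surjective (X := M) (p := 0) β (j - 1) (zero_add _)
    refine ⟨w.hom, ?_⟩
    rw [Cochain.δ_fromSingleMk w (zero_add (j - 1)) j j (zero_add j)] at hβ
    exact congrArg ModuleCat.Hom.hom ((Cochain.fromSingleEquiv (X := M) (K := E) (zero_add j)).symm.injective hβ)
  · have h2 : Nonempty (Homotopy g 0) := by
      refine (HomotopyCategory.quotient_map_eq_zero_iff _).1 ((CohomologyClass.toHom_mk _).symm.trans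
        ((CohomologyClass.toHom_mk_eq_zero_iff _).2 ⟨j - 1, by simp, Cochain.fromSingleMk (ModuleCat.ofHom w) (zero_add _), ?_⟩))
      rw [Cochain.δ_fromSingleMk _ (zero_add (j - 1)) j j (zero_add j)]
      exact congrArg (fun t => Cochain.fromSingleMk t (zero_add j)) (ModuleCat.hom_ext hw)
    rw [DerivedCategory.Q_map_eq_of_homotopy (h := h2.some), Functor.map_zero]

/-- The class of a cocycle. -/
noncomputable def clsL (Z : DRing.Cx A) (j : ℤ) : LinearMap.ker (Z.d j (j + 1)).hom →ₗ[A] Z.homology j where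
  toFun z := cls Z j z.1 (LinearMap.mem_ker.1 z.2)
  map_add' z z' := RG.cls_add Z j z.1 z'.1 _ _ _
  map_smul' r z := RG.cls_smul Z j r z.1 _ _

/-- `Hom_D(M[0], E⟦j⟧) = H^j(Hom(M, E))`. -/
noncomputable def exEquiv (E : DRing.Cx A) [CochainComplex.IsKInjective E] (M : ModuleCat.{u} A) (j : ℤ) :
    (Dual.inD A M ⟶ (DRing.toD E)⟦j⟧) ≃ₗ[A] (coind M E).homology j :=
  ((LinearMap.quotKerEquivOfSurjective _ (ψ_surjective M j)).symm.trans
    (Submodule.quotEquivOfEq _ _ (by
      ext z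
      rw [LinearMap.mem_ker, LinearMap.mem_ker, ker_ψ]
      exact (cls_eq_zero_iff (coind M E) j z.1 (LinearMap.mem_ker.1 z.2)).symm))).trans
    (LinearMap.quotKerEquivOfSurjective (clsL (coind M E) j) fun x => by
      obtain ⟨z, hz, h⟩ := exists_cls (coind M E) j x
      exact ⟨⟨z, LinearMap.mem_ker.2 hz⟩, h⟩)

/-- `Hom(A, E) = E`. -/
noncomputable def coindSelf (E : DRing.Cx A) : coind (ModuleCat.of A A) E ≅ E :=
  HomologicalComplex.Hom.isoOfComponents (fun i => (LinearMap.ringLmapEquivSelf A A (E.X i)).toModuleIso)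
    (fun i j _ => ModuleCat.hom_ext (LinearMap.ext fun _ => rfl))

end Groth.Agent.H4DR.Dualizing
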