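import Groth.Agent.H4DR.Dualizing.SkEquidim
import Groth.Agent.H4DR.Dualizing.TopModule
import Groth.Agent.H4DR.Dualizing.MinPrime
import Groth.Agent.H4DR.Dualizing.Shift
import Groth.Agent.H4DR.Ext.Point
import Groth.Agent.H4Depth.Connected
import Groth.Agent.H4Depth.SupportLoc

/-!
# Ordinary dualizing complexes: equidimensionality
-/

set_option autoImplicit false
set_option linter.style.haveILetI false
set_option linter.unusedVariables false

universe u

open CategoryTheory CategoryTheory.Limits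
open Groth.Agent.H4DR.Ext (Ex)

attribute [local instance] HasDerivedCategory.standard

namespace Groth.Agent.H4DR.Dualizing

variable {A : Type u} [CommRing A] [IsNoetherianRing A] [IsLocalRing A] {ω : Dual.D A}

omit [IsLocalRing A] in
theorem exists_dim_minimal {n : ℕ} (hd : ringKrullDim A = n) :
    ∃ q ∈ minimalPrimes A, ringKrullDim (A ⧸ q) = n := by
  obtain ⟨P, -, hPn⟩ := exists_prime_of_le_supportDim (M := A) n
    (by rw [Module.supportDim_self_eq_ringKrullDim, hd])
  obtain ⟨q, hq, hqP⟩ := Ideal.exists_minimalPrimes_le (bot_le : (⊥ : Ideal A) ≤ P.asIdeal)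
  exact ⟨q, hq, le_antisymm ((ringKrullDim_quotient_le q).trans hd.le)
    (hPn.trans (ringKrullDim_le_of_surjective (Ideal.Quotient.factor hqP) (Ideal.Quotient.factor_surjective hqP)))⟩

theorem exists_normalized_of_minimal (hω : Dual.IsDualizing A ω) {n : ℕ} (hd : ringKrullDim A = n)
    (h : ∀ p : PrimeSpectrum A, p.asIdeal ∈ minimalPrimes A → ∀ i : ℤ, i ≠ 0 → p ∉ Module.support A (Dual.HD A ω i)) :
    EGA4.IsEquidim A ∧ Dual.IsNormalized A (ω⟦(n : ℤ)⟧) := by
  obtain ⟨c, hn, -, -⟩ := exists_normalized hω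
  have key : ∀ p : PrimeSpectrum A, p.asIdeal ∈ minimalPrimes A → ∀ e : ℕ, ringKrullDim (A ⧸ p.asIdeal) = e → (e : ℤ) = c := by
    intro p hp e he
    have h1 := (nontrivial_localized_HD_iff (isDualizing_shift hω c) hn hp he (-(e : ℤ))).2 rfl
    rw [LinearEquiv.support_eq (PCoh.hShift ω c (-(e : ℤ)) (c - e) (sub_eq_add_neg c _).symm)] at h1
    by_contra hne
    exact h p hp _ (by omega) h1
  obtain ⟨q, hq, hqn⟩ := exists_dim_minimal hd
  have hc : (n : ℤ) = c := key ⟨q, hq.1.1⟩ hq n hqn
  refine ⟨fun p hp => ?_, hc ▸ hn⟩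
  obtain ⟨e, he⟩ := exists_dim_quotient (A := A) ⟨p, hp.1.1⟩
  rw [hd, he, show e = n from by have := key ⟨p, hp.1.1⟩ hp e he; omega]

omit [IsLocalRing A] in
theorem two_le_depth_of_height (hS : LocCoh.HasSk 2 A A) (p : PrimeSpectrum A) (h : (2 : ℕ∞) ≤ p.asIdeal.height) :
    (2 : ℕ∞) ≤ LocCoh.depth (Loc p) (Loc p) := by
  have h1 := hS p.asIdeal
  rw [Module.supportDim_eq_of_equiv (selfLocEquiv p), Module.supportDim_self_eq_ringKrullDim,
    IsLocalization.AtPrime.ringKrullDim_eq_height p.asIdeal (Loc p), H4Depth.depth_congr (selfLocEquiv p)] at h1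
  refine WithBot.coe_le_coe.1 (le_trans (le_min ?_ ?_) h1)
  · exact_mod_cast le_rfl
  · exact_mod_cast h

theorem deg_minimalPrimes_eq (hω : Dual.IsDualizing A ω) (hS : LocCoh.HasSk 2 A A) (p p' : PrimeSpectrum A)
    (hp : p.asIdeal ∈ minimalPrimes A) (hp' : p'.asIdeal ∈ minimalPrimes A) : deg hω p = deg hω p' := by
  have h := H4Depth.reflTransGen_minimalPrimes 2 one_le_two H4Depth.idempotent_trivial_of_isLocalRing
    (fun r hr => two_le_depth_of_height hS r (by exact_mod_cast hr)) p p' hp hp'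
  clear hp'
  induction h with
  | refl => rfl
  | tail _ hbc ih =>
    refine ih.trans ?_
    obtain ⟨hb, hc, r, hbr, hcr, hr⟩ := hbc
    have step : ∀ x : PrimeSpectrum A, x.asIdeal ∈ minimalPrimes A → x ≤ r → x ≠ r → deg hω x = deg hω r - 1 := by
      intro x hx hxr hne
      obtain ⟨d, hd, h1, h2⟩ := exists_dim hω hxr
      have h3 := h2 (lt_of_le_of_ne hxr hne)
      have h4 : (d : WithBot ℕ∞) ≤ ((1 : ℕ) : WithBot ℕ∞) := by
        rw [← hd]
        refine (ringKrullDim_quotient_le _).trans ?_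
        rw [IsLocalization.AtPrime.ringKrullDim_eq_height r.asIdeal (Loc r)]
        exact_mod_cast hr
      have : d ≤ 1 := Nat.cast_le.1 h4
      omega
    rename_i b c _
    by_cases hb' : b = r
    · subst hb'
      rw [show c = b from PrimeSpectrum.ext (le_antisymm hcr (hb.2 hc.1 hcr))]
    by_cases hc' : c = r
    · subst hc'
      rw [show b = c from PrimeSpectrum.ext (le_antisymm hbr (hc.2 hb.1 hbr))]
    rw [step b hb hbr hb', step c hc hcr hc']

theorem isEquidim_of_hasSk_two (hω : Dual.IsDualizing A ω) (hn : Dual.IsNormalized A ω)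
    (hS : LocCoh.HasSk 2 A A) {n : ℕ} (hd : ringKrullDim A = n) : EGA4.IsEquidim A := fun p hp => by
  obtain ⟨q, hq, hqn⟩ := exists_dim_minimal hd
  obtain ⟨e, he⟩ := exists_dim_quotient (A := A) ⟨p, hp.1.1⟩
  have h1 := deg_minimalPrimes_eq hω hS ⟨p, hp.1.1⟩ ⟨q, hq.1.1⟩ hp hq
  have h2 := deg_normalized hω hn (⟨p, hp.1.1⟩ : PrimeSpectrum A) he
  have h3 := deg_normalized hω hn (⟨q, hq.1.1⟩ : PrimeSpectrum A) hqn
  have h4 : (e : ℤ) = n := neg_injective (h2.symm.trans (h1.trans h3))
  rw [hd, he, Int.ofNat.inj h4]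

omit [IsLocalRing A] in
theorem isEquidimModule_self (h : EGA4.IsEquidim A) : EGA4.IsEquidimModule A A := by
  intro p hp
  rw [Module.annihilator_eq_bot.2 (inferInstance : FaithfulSMul A A)] at hp
  rw [Module.supportDim_self_eq_ringKrullDim]
  exact h p hp

/-- The lowest cohomology module of an ordinary complex has full support. -/
theorem support_top_eq_univ (hω : Dual.IsDualizing A ω) (hn : Dual.IsNormalized A ω) {n : ℕ}
    (hd : ringKrullDim A = n) (heq : EGA4.IsEquidim A) :
    Module.support A (Dual.HD A ω (-(n : ℤ))) = Set.univ := by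
  refine Set.eq_univ_of_forall fun p => ?_
  rw [(Ext.evalEquiv ω (-(n : ℤ))).symm.support_eq,
    mem_support_top_iff hω hn A ((Module.supportDim_self_eq_ringKrullDim (R := A)).trans hd)]
  obtain ⟨q, hq, hqp⟩ := Ideal.exists_minimalPrimes_le (bot_le : (⊥ : Ideal A) ≤ p.asIdeal)
  exact ⟨⟨q, hq.1.1⟩, by rw [Module.support_eq_zeroLocus, Module.annihilator_eq_bot.2 inferInstance]; exact bot_le (a := q), hqp,
    (heq q hq).trans hd⟩

/-- Depth of the lowest cohomology module along an ideal of height at least two. -/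
theorem two_le_idealDepth_of_hasSk_two {L : Type u} [AddCommGroup L] [Module A L] [Module.Finite A L]
    (hL : LocCoh.HasSk 2 A L) (hsupp : Module.support A L = Set.univ) (J : Ideal A) (hJ : 2 ≤ J.height) :
    2 ≤ LocCoh.idealDepth J L := by
  refine H4Depth.le_idealDepth_of_forall J L fun p hp => ?_
  have h1 := hL p.asIdeal
  have h2 : Module.supportDim (Loc p) (LocalizedModule p.asIdeal.primeCompl L) = ringKrullDim (Loc p) := by
    haveI : Module.Finite (Loc p) (LocalizedModule p.asIdeal.primeCompl L) :=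
      Module.Finite.of_isLocalizedModule p.asIdeal.primeCompl (LocalizedModule.mkLinearMap p.asIdeal.primeCompl L)
    have hs : Module.support (Loc p) (LocalizedModule p.asIdeal.primeCompl L) = Set.univ :=
      Set.eq_univ_of_forall fun P => (H4Depth.mem_support_localizedModule_iff p.asIdeal.primeCompl _
        (LocalizedModule.mkLinearMap _ L) P).mpr (hsupp ▸ Set.mem_univ _)
    rw [Module.supportDim, hs]
    exact Order.krullDim_eq_of_orderIso OrderIso.Set.univ
  rw [h2, IsLocalization.AtPrime.ringKrullDim_eq_height p.asIdeal (Loc p)] at h1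
  refine WithBot.coe_le_coe.1 (le_trans (le_min ?_ ?_) h1)
  · exact_mod_cast le_rfl
  · exact_mod_cast hJ.trans (Ideal.height_mono hp)

end Groth.Agent.H4DR.Dualizing
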