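import Groth.Agent.H4DR.Dualizing.FiniteMap
import Groth.Agent.H4DR.Dualizing.Artinian
import Groth.Agent.S1749

/-!
# The triangle of a quotient by an ideal of finite length
-/

set_option autoImplicit false
set_option linter.style.haveILetI false
set_option linter.unusedVariables false

universe u

open CategoryTheory CategoryTheory.Limits Pretriangulated
open Groth.Agent.H4DR.DComplete (coind)
open Groth.Agent.H4DR.Ext (Ex)
open Groth.Agent.H26Dual2 (reF)

attribute [local instance] HasDerivedCategory.standard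

namespace Groth.Agent.H4DR.Dualizing

variable {A : Type u} [CommRing A] [IsLocalRing A] [IsNoetherianRing A]

/-- `Hom(I, E)` for an ideal of finite length is concentrated in degree zero. -/
theorem nonempty_coind_iso_inD {ω : Dual.D A} (hω : Dual.IsDualizing A ω) (hn : Dual.IsNormalized A ω)
    {F : DRing.Cx A} [CochainComplex.IsKInjective F] (e : DRing.toD F ≅ ω)
    {E : Type u} [AddCommGroup E] [Module A E] {f : IsLocalRing.ResidueField A →ₗ[A] E}
    (hf : InjHull.IsInjectiveHull f) (N : Type u) [AddCommGroup N] [Module A N] (hN : IsFiniteLength A N) :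
    Nonempty (DRing.toD (coind (ModuleCat.of A N) F) ≅ Dual.inD A (N →ₗ[A] E)) := by
  obtain ⟨hv, ⟨h0⟩⟩ := S1749.result A ω hω hn E f hf N hN
  let k : ∀ j, Dual.HD A (DRing.toD (coind (ModuleCat.of A N) F)) j ≃ₗ[A] (Dual.inD A N ⟶ ω⟦j⟧) := fun j =>
    (DComplete.hQ (coind (ModuleCat.of A N) F) j).trans ((exEquiv F (ModuleCat.of A N) j).symm.trans
      (Ext.postIso (Dual.inD A N) ((shiftFunctor (Dual.D A) j).mapIso e)))
  have hX : ∀ j, j ≠ 0 → Subsingleton (Dual.HD A (DRing.toD (coind (ModuleCat.of A N) F)) j) := fun j hj =>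
    haveI := hv j hj; (k j).injective.subsingleton
  obtain ⟨g⟩ := nonempty_iso_single (0 : ℤ) hX ((k 0).trans
    ((Ext.postIso (Dual.inD A N) ((shiftFunctorZero (Dual.D A) ℤ).app ω)).trans h0))
  exact ⟨g ≪≫ (shiftFunctorZero' (Dual.D A) (-(0 : ℤ)) neg_zero).app _⟩

/-- The triangle `R ω → ω → Hom(I, E)`. -/
theorem exists_triangle_quotient_finiteLength {ω : Dual.D A} (hω : Dual.IsDualizing A ω)
    (hn : Dual.IsNormalized A ω) (I : Ideal A) (hIl : IsFiniteLength A I)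
    {E : Type u} [AddCommGroup E] [Module A E] {e₀ : IsLocalRing.ResidueField A →ₗ[A] E}
    (he : InjHull.IsInjectiveHull e₀) {R : Dual.D A ⥤ Dual.D (A ⧸ I)}
    (adj : DRing.restrictD (Ideal.Quotient.mk I) ⊣ R) :
    ∃ (u : (DRing.restrictD (Ideal.Quotient.mk I)).obj (R.obj ω) ⟶ ω) (v : ω ⟶ Dual.inD A (I →ₗ[A] E))
      (w : Dual.inD A (I →ₗ[A] E) ⟶ ((DRing.restrictD (Ideal.Quotient.mk I)).obj (R.obj ω))⟦(1 : ℤ)⟧),
      Triangle.mk u v w ∈ distTriang (Dual.D A) := by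
  obtain ⟨a, b, F, hv, hF, ⟨e⟩⟩ := Ext.fid_iff.1 (show Ext.FID ω from hω.finite_injective_dimension)
  haveI := Ext.isKInjective_of_vanishesOutside hv hF
  obtain ⟨eJ⟩ := exists_iso_coCx adj e
  obtain ⟨t⟩ := nonempty_coind_iso_inD hω hn e he I hIl
  letI := (Ideal.Quotient.mk I).toAlgebra
  obtain ⟨δ, hT⟩ := exists_triangle hF (L := ModuleCat.of A I) (M := ModuleCat.of A A)
    (N := ModuleCat.of A (A ⧸ I)) I.subtype I.mkQ Subtype.val_injective I.mkQ_surjective
    (LinearMap.exact_subtype_mkQ I)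
  let r : DRing.toD (coind (ModuleCat.of A (A ⧸ I)) F) ≅
      (DRing.restrictD (Ideal.Quotient.mk I)).obj (R.obj ω) :=
    DerivedCategory.Q.mapIso (resCoCx (ψ := Ideal.Quotient.mk I) F).symm ≪≫
      ((reF (Ideal.Quotient.mk I)).mapDerivedCategoryFactors.app _).symm ≪≫
      (DRing.restrictD (Ideal.Quotient.mk I)).mapIso eJ
  let s : DRing.toD (coind (ModuleCat.of A A) F) ≅ ω := DerivedCategory.Q.mapIso (coindSelf F) ≪≫ e
  refine ⟨r.inv ≫ DerivedCategory.Q.map (cMap F I.mkQ) ≫ s.hom,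
    s.inv ≫ DerivedCategory.Q.map (cMap F I.subtype) ≫ t.hom,
    t.inv ≫ δ ≫ r.hom⟦(1 : ℤ)⟧',
    isomorphic_distinguished _ hT _ (Triangle.isoMk _ _ r.symm s.symm t.symm ?_ ?_ ?_)⟩
  · show (r.inv ≫ DerivedCategory.Q.map (cMap F I.mkQ) ≫ s.hom) ≫ s.inv = r.inv ≫ DerivedCategory.Q.map (cMap F I.mkQ)
    simp
  · show (s.inv ≫ DerivedCategory.Q.map (cMap F I.subtype) ≫ t.hom) ≫ t.inv =
      s.inv ≫ DerivedCategory.Q.map (cMap F I.subtype)
    simp
  · show (t.inv ≫ δ ≫ r.hom⟦(1 : ℤ)⟧') ≫ r.inv⟦(1 : ℤ)⟧' = t.inv ≫ δ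
    simp [← Functor.map_comp]

end Groth.Agent.H4DR.Dualizing
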