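import Groth.Agent.H4DR.Dualizing.Loci

/-!
# `(S_k)` for equidimensional modules over a local ring with a normalized dualizing complex
-/

set_option autoImplicit false
set_option linter.style.haveILetI false
set_option linter.unusedVariables false

universe u

open CategoryTheory CategoryTheory.Limits
open Groth.Agent.H4DR.Ext (Ex)

attribute [local instance] HasDerivedCategory.standard

namespace Groth.Agent.H4DR.Dualizing

variable {A : Type u} [CommRing A] [IsNoetherianRing A] [IsLocalRing A] {ω : Dual.D A}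
  (hω : Dual.IsDualizing A ω) (hn : Dual.IsNormalized A ω)
  (M : Type u) [AddCommGroup M] [Module A M] [Module.Finite A M]
include hω hn

omit [Module.Finite A M] in
theorem le_of_lt_succ_supportDim {m : ℕ} {N : Type (u + 1)} [AddCommGroup N] [Module A N]
    (h : ∀ q ∈ Module.support A N, ∀ d : ℕ, ringKrullDim (A ⧸ q.asIdeal) = d → d ≤ m) :
    Module.supportDim A N ≤ (m : WithBot ℕ∞) := by
  refine iSup_le fun l => ?_
  obtain ⟨P, hP, hPd⟩ := exists_prime_of_le_supportDim (M := N) l.length
    (le_iSup (fun p : LTSeries (Module.support A N) => (p.length : WithBot ℕ∞)) l)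
  haveI : Nontrivial (A ⧸ P.asIdeal) := Ideal.Quotient.nontrivial_iff.2 P.2.ne_top
  obtain ⟨d, hd⟩ := H4Depth.exists_nat_supportDim_eq (R := A) (M := A ⧸ P.asIdeal)
  rw [Module.supportDim_quotient_eq_ringKrullDim] at hd
  rw [hd] at hPd
  exact hPd.trans (Nat.cast_le.2 (h P hP d hd))

theorem dim_add_of_equidim (hM : EGA4.IsEquidimModule A M) {δ : ℕ} (hδ : Module.supportDim A M = δ)
    {q : PrimeSpectrum A} (hq : q ∈ Module.support A M) {D d : ℕ}
    (hD : Module.supportDim (Loc q) (LocalizedModule q.asIdeal.primeCompl M) = D)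
    (hd : ringKrullDim (A ⧸ q.asIdeal) = d) : D + d = δ := by
  obtain ⟨h1, r, hr, hrq, he⟩ := dim_localized_spec hω M q hD
  obtain ⟨r', hr', hr'r⟩ := Ideal.exists_minimalPrimes_le (Module.mem_support_iff_of_finite.1 hr)
  have hr's : (⟨r', hr'.1.1⟩ : PrimeSpectrum A) ∈ Module.support A M := Module.mem_support_iff_of_finite.2 hr'.1.2
  have hdeg : deg hω (⟨r', hr'.1.1⟩ : PrimeSpectrum A) = -(δ : ℤ) :=
    deg_normalized hω hn _ ((hM r' hr').trans hδ)
  have hle : deg hω (⟨r', hr'.1.1⟩ : PrimeSpectrum A) ≤ deg hω r := by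
    rcases eq_or_lt_of_le (show (⟨r', hr'.1.1⟩ : PrimeSpectrum A) ≤ r from hr'r) with h | h
    · rw [h]
    · exact (deg_lt hω h).le
  have := h1 _ hr's ((show (⟨r', hr'.1.1⟩ : PrimeSpectrum A) ≤ r from hr'r).trans hrq)
  have := deg_normalized hω hn q hd
  omega

theorem hasSk_iff_equidim (hM : EGA4.IsEquidimModule A M) (δ : ℕ) (hδ : Module.supportDim A M = δ) (k : ℕ) :
    LocCoh.HasSk k A M ↔
      ∀ j : ℤ, j ≠ -(δ : ℤ) →
        (-j - (k : ℤ) < 0 → Subsingleton (Dual.inD A M ⟶ ω⟦j⟧)) ∧
        (0 ≤ -j - (k : ℤ) → Module.supportDim A (Dual.inD A M ⟶ ω⟦j⟧) ≤ ((-j - (k : ℤ)).toNat : WithBot ℕ∞)) := by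
  have hdim : ∀ q : PrimeSpectrum A, ∃ d : ℕ, ringKrullDim (A ⧸ q.asIdeal) = d := fun q => by
    haveI : Nontrivial (A ⧸ q.asIdeal) := Ideal.Quotient.nontrivial_iff.2 q.2.ne_top
    obtain ⟨d, hd⟩ := H4Depth.exists_nat_supportDim_eq (R := A) (M := A ⧸ q.asIdeal)
    exact ⟨d, by rwa [Module.supportDim_quotient_eq_ringKrullDim] at hd⟩
  constructor
  · intro h j hj
    have key : ∀ q ∈ supEx ω M j, ∀ d : ℕ, ringKrullDim (A ⧸ q.asIdeal) = d → (d : ℤ) ≤ -j - k := fun q hq d hd => by
      have hqM := support_ex_subset hω M j hq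
      obtain ⟨δq, D, hδq, hD, hle, -, -, hi⟩ := exists_interval hω M q hqM
      have hsum := dim_add_of_equidim hω hn M hM hδ hqM hD hd
      have hdeg := deg_normalized hω hn q hd
      obtain ⟨h1, h2⟩ := hi j hq
      have h3 := h q.asIdeal
      rw [show Module.supportDim (Localization.AtPrime q.asIdeal) (LocalizedModule q.asIdeal.primeCompl M) = D from hD,
        show LocCoh.depth (Localization.AtPrime q.asIdeal) (LocalizedModule q.asIdeal.primeCompl M) = δq from hδq,
        min_le_iff] at h3
      rcases h3 with h3 | h3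
      · have : k ≤ δq := by exact_mod_cast h3
        omega
      · have : D ≤ δq := by exact_mod_cast h3
        omega
    refine ⟨fun hneg => not_nontrivial_iff_subsingleton.1 fun hne => ?_, fun hpos => ?_⟩
    · obtain ⟨q, hq⟩ := (Module.nonempty_support_iff (R := A)).2 hne
      obtain ⟨d, hd⟩ := hdim q
      have := key q hq d hd
      omega
    · refine le_of_lt_succ_supportDim hω hn fun q hq d hd => ?_
      have := key q hq d hd
      omega
  · intro h p _
    by_contra hc
    let q : PrimeSpectrum A := ⟨p, ‹_›⟩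
    have hq : q ∈ Module.support A M := by
      by_contra hq
      haveI := Module.notMem_support_iff.1 hq
      refine hc ((min_le_right _ _).trans ?_)
      rw [show Module.supportDim (Localization.AtPrime p) (LocalizedModule p.primeCompl M) = ⊥ from
        Module.supportDim_eq_bot_of_subsingleton _ _]
      exact bot_le
    obtain ⟨δq, D, hδq, hD, hle, h1, -, -⟩ := exists_interval hω M q hq
    obtain ⟨d, hd⟩ := hdim q
    have hsum := dim_add_of_equidim hω hn M hM hδ hq hD hd
    have hdeg := deg_normalized hω hn q hd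
    rw [show Module.supportDim (Localization.AtPrime p) (LocalizedModule p.primeCompl M) = D from hD,
      show LocCoh.depth (Localization.AtPrime p) (LocalizedModule p.primeCompl M) = δq from hδq, min_le_iff,
      not_or] at hc
    have hk : δq < k := by
      by_contra hk
      exact hc.1 (show ((k : ℕ) : WithBot ℕ∞) ≤ _ by exact_mod_cast (not_lt.1 hk))
    have hD' : δq < D := by
      by_contra hk
      exact hc.2 (show ((D : ℕ) : WithBot ℕ∞) ≤ _ by exact_mod_cast (not_lt.1 hk))
    obtain ⟨ha, hb⟩ := h (deg hω q - δq) (by omega)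
    rcases lt_or_ge (-(deg hω q - (δq : ℤ)) - k) 0 with hneg | hpos
    · exact not_subsingleton_iff_nontrivial.2 ((Module.nonempty_support_iff (R := A)).1 ⟨q, h1⟩) (ha hneg)
    · have h2 := (H4Depth.ringKrullDim_quotient_le_supportDim h1).trans (hb hpos)
      rw [hd, Nat.cast_le] at h2
      omega

end Groth.Agent.H4DR.Dualizing
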