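import Groth.Agent.H4DR.Dualizing.SkEquidim

/-!
# `(S_k)` for equidimensional modules over a ring with a dualizing complex normalized at all maximal ideals
-/

set_option autoImplicit false
set_option linter.style.haveILetI false
set_option linter.unusedVariables false

universe u v

open CategoryTheory CategoryTheory.Limits
open Groth.Agent.H4DR.Ext (Ex)

attribute [local instance] HasDerivedCategory.standard

namespace Groth.Agent.H4DR.Dualizing.Global

variable {A : Type u} [CommRing A] [IsNoetherianRing A] {ω : Dual.D A}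

omit [IsNoetherianRing A] in
theorem le_of_lt_succ_supportDim' {m : ℕ} {N : Type v} [AddCommGroup N] [Module A N]
    (h : ∀ q ∈ Module.support A N, ∀ d : ℕ, ringKrullDim (A ⧸ q.asIdeal) = d → d ≤ m)
    (hfin : ∀ q : PrimeSpectrum A, ∃ d : ℕ, ringKrullDim (A ⧸ q.asIdeal) = d) :
    Module.supportDim A N ≤ (m : WithBot ℕ∞) := by
  refine iSup_le fun l => ?_
  obtain ⟨P, hP, hPd⟩ := exists_prime_of_le_supportDim (M := N) l.length
    (le_iSup (fun p : LTSeries (Module.support A N) => (p.length : WithBot ℕ∞)) l)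
  obtain ⟨d, hd⟩ := hfin P
  rw [hd] at hPd
  exact hPd.trans (Nat.cast_le.2 (h P hP d hd))

variable (hω : Dual.IsDualizing A ω)
include hω

theorem exists_dim_quotient (q : PrimeSpectrum A) : ∃ d : ℕ, ringKrullDim (A ⧸ q.asIdeal) = d := by
  obtain ⟨a, b, hab⟩ := hω.finite_injective_dimension
  haveI : Nontrivial (A ⧸ q.asIdeal) := Ideal.Quotient.nontrivial_iff.2 q.2.ne_top
  have hle : ringKrullDim (A ⧸ q.asIdeal) ≤ ((b - a).toNat : WithBot ℕ∞) := by
    rw [ringKrullDim_quotient]
    refine iSup_le fun l => Nat.cast_le.2 ?_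
    have h1 := length_le hω (l.map Subtype.val (fun _ _ h => h))
    have h2 := deg_mem_range hω (l.map Subtype.val (fun _ _ h => h)).head hab
    have h3 := deg_mem_range hω (l.map Subtype.val (fun _ _ h => h)).last hab
    simp only [LTSeries.map_length] at h1
    omega
  revert hle
  generalize hy : ringKrullDim (A ⧸ q.asIdeal) = y
  have h0 : (0 : WithBot ℕ∞) ≤ y := hy ▸ ringKrullDim_nonneg_of_nontrivial
  intro hle
  cases y with
  | bot => simp at h0
  | coe e =>
    cases e with
    | top => exact absurd (WithBot.coe_le_coe.1 hle : (⊤ : ℕ∞) ≤ ((b - a).toNat : ℕ∞)) (ENat.natCast_lt_top _).not_ge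
    | coe n => exact ⟨n, rfl⟩

theorem deg_eq_neg_dim (hnorm : ∀ (m : Ideal A) (_ : m.IsMaximal) (i : ℤ), i ≠ 0 → Subsingleton (Dual.inD A (A ⧸ m) ⟶ ω⟦i⟧))
    (q : PrimeSpectrum A) (d : ℕ) (hd : ringKrullDim (A ⧸ q.asIdeal) = d) : deg hω q = -(d : ℤ) := by
  have hmax : ∀ m : PrimeSpectrum A, m.asIdeal.IsMaximal → deg hω m = 0 := fun m hm => by
    by_contra hne
    haveI := hnorm m.asIdeal hm (deg hω m) hne
    have h := (mem_support_iff_deg hω m (deg hω m)).2 rfl
    exact Set.notMem_empty m ((Module.support_eq_empty_iff (R := A)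
      (M := Ex (Dual.inD A (A ⧸ m.asIdeal)) ω (deg hω m))).2 ‹_› ▸ h)
  refine le_antisymm ?_ ?_
  · obtain ⟨l, hl⟩ := Order.le_krullDim_iff.1 ((ringKrullDim_quotient (R := A) q.asIdeal) ▸ hd.ge)
    have h1 := length_le hω (l.map Subtype.val (fun _ _ h => h))
    have hq : deg hω q ≤ deg hω l.head.1 := by
      rcases eq_or_lt_of_le (show q ≤ l.head.1 from l.head.2) with h | h
      · rw [← h]
      · exact (deg_lt hω h).le
    obtain ⟨m, hm, hlm⟩ := l.last.1.asIdeal.exists_le_maximal l.last.1.2.ne_top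
    have hm' : deg hω l.last.1 ≤ 0 := by
      rw [← hmax ⟨m, hm.isPrime⟩ hm]
      rcases eq_or_lt_of_le (show l.last.1 ≤ (⟨m, hm.isPrime⟩ : PrimeSpectrum A) from hlm) with h | h
      · rw [← h]
      · exact (deg_lt hω h).le
    simp only [LTSeries.map_length, LTSeries.head_map, LTSeries.last_map] at h1
    omega
  · obtain ⟨m, hm, hqm⟩ := q.asIdeal.exists_le_maximal q.2.ne_top
    let M : PrimeSpectrum A := ⟨m, hm.isPrime⟩
    obtain ⟨d', hd', he, -⟩ := exists_dim hω (show q ≤ M from hqm)
    rw [hmax M hm] at he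
    have h2 : ringKrullDim (Loc M ⧸ q.asIdeal.map (algebraMap A (Loc M))) ≤ ringKrullDim (A ⧸ q.asIdeal) := by
      rw [ringKrullDim_quotient, ringKrullDim_quotient]
      refine Order.krullDim_le_of_strictMono (fun p => ⟨PrimeSpectrum.comap (algebraMap A (Loc M)) p.1,
        fun x hx => p.2 (Ideal.mem_map_of_mem _ hx)⟩) fun p p' hlt => ?_
      refine lt_of_le_of_ne (Ideal.comap_mono hlt.le) fun h => hlt.ne (Subtype.ext ?_)
      exact (PrimeSpectrum.localization_comap_isEmbedding (Loc M) m.primeCompl).injective (congrArg Subtype.val h)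
    rw [hd', hd, Nat.cast_le] at h2
    omega

variable (M : Type u) [AddCommGroup M] [Module A M] [Module.Finite A M]

theorem dim_add_of_equidim (hM : EGA4.IsEquidimModule A M) (hdg : ∀ (q : PrimeSpectrum A) (d : ℕ), ringKrullDim (A ⧸ q.asIdeal) = d → deg hω q = -(d : ℤ)) {δ : ℕ} (hδ : Module.supportDim A M = δ)
    {q : PrimeSpectrum A} (hq : q ∈ Module.support A M) {D d : ℕ}
    (hD : Module.supportDim (Loc q) (LocalizedModule q.asIdeal.primeCompl M) = D)
    (hd : ringKrullDim (A ⧸ q.asIdeal) = d) : D + d = δ := by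
  obtain ⟨h1, r, hr, hrq, he⟩ := dim_localized_spec hω M q hD
  obtain ⟨r', hr', hr'r⟩ := Ideal.exists_minimalPrimes_le (Module.mem_support_iff_of_finite.1 hr)
  have hr's : (⟨r', hr'.1.1⟩ : PrimeSpectrum A) ∈ Module.support A M := Module.mem_support_iff_of_finite.2 hr'.1.2
  have hdeg : deg hω (⟨r', hr'.1.1⟩ : PrimeSpectrum A) = -(δ : ℤ) :=
    hdg _ _ ((hM r' hr').trans hδ)
  have hle : deg hω (⟨r', hr'.1.1⟩ : PrimeSpectrum A) ≤ deg hω r := by
    rcases eq_or_lt_of_le (show (⟨r', hr'.1.1⟩ : PrimeSpectrum A) ≤ r from hr'r) with h | h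
    · rw [h]
    · exact (deg_lt hω h).le
  have := h1 _ hr's ((show (⟨r', hr'.1.1⟩ : PrimeSpectrum A) ≤ r from hr'r).trans hrq)
  have := hdg q _ hd
  omega

theorem hasSk_iff_equidim (hM : EGA4.IsEquidimModule A M) (hdg : ∀ (q : PrimeSpectrum A) (d : ℕ), ringKrullDim (A ⧸ q.asIdeal) = d → deg hω q = -(d : ℤ)) (δ : ℕ) (hδ : Module.supportDim A M = δ) (k : ℕ) :
    LocCoh.HasSk k A M ↔
      ∀ j : ℤ, j ≠ -(δ : ℤ) →
        (-j - (k : ℤ) < 0 → Subsingleton (Dual.inD A M ⟶ ω⟦j⟧)) ∧
        (0 ≤ -j - (k : ℤ) → Module.supportDim A (Dual.inD A M ⟶ ω⟦j⟧) ≤ ((-j - (k : ℤ)).toNat : WithBot ℕ∞)) := by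
  have hdim : ∀ q : PrimeSpectrum A, ∃ d : ℕ, ringKrullDim (A ⧸ q.asIdeal) = d := fun q =>
    exists_dim_quotient hω q
  constructor
  · intro h j hj
    have key : ∀ q ∈ supEx ω M j, ∀ d : ℕ, ringKrullDim (A ⧸ q.asIdeal) = d → (d : ℤ) ≤ -j - k := fun q hq d hd => by
      have hqM := support_ex_subset hω M j hq
      obtain ⟨δq, D, hδq, hD, hle, -, -, hi⟩ := exists_interval hω M q hqM
      have hsum := dim_add_of_equidim hω M hM hdg hδ hqM hD hd
      have hdeg := hdg q _ hd
      obtain ⟨h1, h2⟩ := hi j hq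
      have h3 := h q.asIdeal
      rw [show Module.supportDim (Localization.AtPrime q.asIdeal) (LocalizedModule q.asIdeal.primeCompl M) = D from hD,
        show LocCoh.depth (Localization.AtPrime q.asIdeal) (LocalizedModule q.asIdeal.primeCompl M) = δq from hδq,
        min_le_iff] at h3
      rcases h3 with h3 | h3
      · have : k ≤ δq := by exact_mod_cast h3
        omega
      · have : D ≤ δq := by exact_mod_cast h3
        omega
    refine ⟨fun hneg => not_nontrivial_iff_subsingleton.1 fun hne => ?_, fun hpos => ?_⟩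
    · obtain ⟨q, hq⟩ := (Module.nonempty_support_iff (R := A)).2 hne
      obtain ⟨d, hd⟩ := hdim q
      have := key q hq d hd
      omega
    · refine le_of_lt_succ_supportDim' (fun q hq d hd => ?_) hdim
      have := key q hq d hd
      omega
  · intro h p _
    by_contra hc
    let q : PrimeSpectrum A := ⟨p, ‹_›⟩
    have hq : q ∈ Module.support A M := by
      by_contra hq
      haveI := Module.notMem_support_iff.1 hq
      refine hc ((min_le_right _ _).trans ?_)
      rw [show Module.supportDim (Localization.AtPrime p) (LocalizedModule p.primeCompl M) = ⊥ from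
        Module.supportDim_eq_bot_of_subsingleton _ _]
      exact bot_le
    obtain ⟨δq, D, hδq, hD, hle, h1, -, -⟩ := exists_interval hω M q hq
    obtain ⟨d, hd⟩ := hdim q
    have hsum := dim_add_of_equidim hω M hM hdg hδ hq hD hd
    have hdeg := hdg q _ hd
    rw [show Module.supportDim (Localization.AtPrime p) (LocalizedModule p.primeCompl M) = D from hD,
      show LocCoh.depth (Localization.AtPrime p) (LocalizedModule p.primeCompl M) = δq from hδq, min_le_iff,
      not_or] at hc
    have hk : δq < k := by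
      by_contra hk
      exact hc.1 (show ((k : ℕ) : WithBot ℕ∞) ≤ _ by exact_mod_cast (not_lt.1 hk))
    have hD' : δq < D := by
      by_contra hk
      exact hc.2 (show ((D : ℕ) : WithBot ℕ∞) ≤ _ by exact_mod_cast (not_lt.1 hk))
    obtain ⟨ha, hb⟩ := h (deg hω q - δq) (by omega)
    rcases lt_or_ge (-(deg hω q - (δq : ℤ)) - k) 0 with hneg | hpos
    · exact not_subsingleton_iff_nontrivial.2 ((Module.nonempty_support_iff (R := A)).1 ⟨q, h1⟩) (ha hneg)
    · have h2 := (H4Depth.ringKrullDim_quotient_le_supportDim h1).trans (hb hpos)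
      rw [hd, Nat.cast_le] at h2
      omega

end Groth.Agent.H4DR.Dualizing.Global
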