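import Groth.Agent.H4DR.TorAmp.LTensorCx
import Groth.Agent.H4DR.TorAmp.Residue
import Groth.Agent.H4DR.TorAmp.Modules
import Groth.Agent.H4DR.TorAmp.Exists
import Groth.Agent.H4DR.PCoh.Stage
import Groth.Agent.H4DR.PCoh.Modules
import Groth.Prelude.Def_DTen6
import Groth.Agent.S3523
import Mathlib.RingTheory.Flat.Basic
import Mathlib.RingTheory.LocalRing.Module

/-!
# Objects of `D(A)` with tensor product the unit
-/

set_option autoImplicit false
set_option linter.style.haveILetI false
set_option linter.unusedSectionVars false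

universe u

open CategoryTheory CategoryTheory.Limits MonoidalCategory
open Groth.Agent.H16Derived
open scoped TensorProduct

attribute [local instance] HasDerivedCategory.standard

namespace Groth.Agent.H4DR.TensorUnit

variable {A : Type u} [CommRing A]

theorem exists_finite_rep [IsNoetherianRing A] {K : Dual.D A}
    (hfin : ∀ i : ℤ, Module.Finite A (Dual.HD A K i)) {b : ℤ}
    (hb : ∀ i : ℤ, b < i → Subsingleton (Dual.HD A K i)) : DRing.IsPseudoCoherent' A K :=
  PCoh.pc'_of_forall fun m => PCoh.pc_of_finite (b + 1 - m).toNat (fun i hi => hb i (by omega))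
    fun i _ => hfin i

theorem isProjRep_of_finiteFree {P : DRing.Cx A} {c : ℤ} (hb : DRing.VanishesAbove P c)
    (hF : DRing.TermwiseFiniteFree P) : TorAmp.IsProjRep P c :=
  ⟨hb, fun i => haveI := (hF i).2; inferInstance⟩

/-- Cohomology of a module in one degree. -/
noncomputable def hdSingle (n : ℤ) (M : ModuleCat.{u} A) :
    Dual.HD A (DRing.toD ((HomologicalComplex.single (ModuleCat.{u} A) (ComplexShape.up ℤ) n).obj M)) n ≃ₗ[A] M :=
  ((DerivedCategory.homologyFunctorFactors (ModuleCat.{u} A) n).app _ ≪≫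
    HomologicalComplex.singleObjHomologySelfIso (ComplexShape.up ℤ) n M).toLinearEquiv

theorem subsingleton_tmul (X Y : Type u) [AddCommGroup X] [Module A X] [AddCommGroup Y] [Module A Y]
    [Subsingleton X] : Subsingleton (X ⊗[A] Y) :=
  subsingleton_of_forall_eq 0 fun z => by
    induction z with
    | zero => rfl
    | tmul x y => rw [Subsingleton.elim x 0, TensorProduct.zero_tmul]
    | add z z' h h' => rw [h, h', add_zero]

section Residue

variable [IsLocalRing A]

noncomputable local instance : Field (A ⧸ IsLocalRing.maximalIdeal A) :=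
  Ideal.Quotient.field (IsLocalRing.maximalIdeal A)

local notation "k" => A ⧸ IsLocalRing.maximalIdeal A

/-- The reduction map. -/
abbrev φ₀ (A : Type u) [CommRing A] [IsLocalRing A] : A →+* A ⧸ IsLocalRing.maximalIdeal A :=
  Ideal.Quotient.mk (IsLocalRing.maximalIdeal A)

/-- The base change of a projective representative of a module in degree `n`. -/
theorem nonempty_homology_ext {P : DRing.Cx A} {c : ℤ} (hP : TorAmp.IsProjRep P c) {n : ℤ}
    (M : ModuleCat.{u} A) [Module.Flat A M]
    (e : DRing.toD P ≅ DRing.toD ((HomologicalComplex.single (ModuleCat.{u} A) (ComplexShape.up ℤ) n).obj M))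
    (i : ℤ) :
    (i = n → Nonempty (((DTen.extCx (φ₀ A)).obj P).homology i ≃ₗ[A ⧸ IsLocalRing.maximalIdeal A]
      (A ⧸ IsLocalRing.maximalIdeal A) ⊗[A] M)) ∧
      (i ≠ n → Subsingleton (((DTen.extCx (φ₀ A)).obj P).homology i)) := by
  haveI := TorAmp.hasLBaseChange (φ₀ A)
  let S := (HomologicalComplex.single (ModuleCat.{u} A) (ComplexShape.up ℤ) n).obj M
  have hSv : DRing.VanishesAbove S n := fun j hj =>
    HomologicalComplex.isZero_single_obj_X (ComplexShape.up ℤ) n M j (by omega)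
  have hSf : DRing.TermwiseFlat S := fun j => by
    by_cases h : j = n
    · subst h
      exact Module.Flat.of_linearEquiv
        (HomologicalComplex.singleObjXSelf (ComplexShape.up ℤ) j M).toLinearEquiv
    · haveI := ModuleCat.subsingleton_of_isZero
        (HomologicalComplex.isZero_single_obj_X (ComplexShape.up ℤ) n M j h)
      infer_instance
  let E := ModuleCat.extendScalars.{u, u, u} (φ₀ A)
  let S' := (HomologicalComplex.single (ModuleCat.{u} (A ⧸ IsLocalRing.maximalIdeal A))
    (ComplexShape.up ℤ) n).obj (E.obj M)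
  let e2 : DRing.toD ((DTen.extCx (φ₀ A)).obj P) ≅ DRing.toD S' :=
    (TorAmp.lbaseObj (φ₀ A) P (TorAmp.isKFlat_of_flat hP.above hP.flat)).symm ≪≫
      (DRing.LBaseChange (φ₀ A)).mapIso e ≪≫
      TorAmp.lbaseObj (φ₀ A) S (TorAmp.isKFlat_of_flat hSv hSf) ≪≫
      DerivedCategory.Q.mapIso ((HomologicalComplex.singleMapHomologicalComplex E (ComplexShape.up ℤ) n).app M)
  let h0 : ((DTen.extCx (φ₀ A)).obj P).homology i ≅ S'.homology i :=
    ((DerivedCategory.homologyFunctorFactors _ i).app _).symm ≪≫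
      (DerivedCategory.homologyFunctor _ i).mapIso e2 ≪≫
      (DerivedCategory.homologyFunctorFactors _ i).app _
  refine ⟨?_, fun h => ?_⟩
  · rintro rfl
    exact ⟨(h0 ≪≫ HomologicalComplex.singleObjHomologySelfIso (ComplexShape.up ℤ) i (E.obj M)).toLinearEquiv⟩
  · exact ModuleCat.subsingleton_of_isZero
      (IsZero.of_iso (HomologicalComplex.isZero_single_obj_homology (ComplexShape.up ℤ) n _ i h) h0)

/-- A pseudo-coherent object whose closed fibre is one-dimensional in one degree is a shift of the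
unit. -/
theorem nonempty_iso_shift {K : Dual.D A} {P : DRing.Cx A} {c : ℤ} (hb : DRing.VanishesAbove P c)
    (hF : DRing.TermwiseFiniteFree P) (e : DRing.toD P ≅ K)
    (hfin : ∀ i : ℤ, Module.Finite A (Dual.HD A K i)) (a : ℤ)
    (h1 : ∀ i, i ≠ a → Subsingleton (((DTen.extCx (φ₀ A)).obj P).homology i))
    (h2 : Module.finrank (A ⧸ IsLocalRing.maximalIdeal A) (((DTen.extCx (φ₀ A)).obj P).homology a) = 1) :
    Nonempty (K ≅ (Dual.inD A A)⟦-a⟧) := by
  haveI : ∀ m : Ideal A, DRing.HasLBaseChange (Ideal.Quotient.mk m) := fun m => TorAmp.hasLBaseChange _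
  have hP := isProjRep_of_finiteFree hb hF
  have hta := (TorAmp.ta_of_residue ⟨P, c, hb, hF, ⟨e⟩⟩ a a fun m hm i hi => by
    obtain rfl := IsLocalRing.eq_maximalIdeal hm
    haveI : Subsingleton ((HomologicalComplex.homologyFunctor (ModuleCat.{u} k) (ComplexShape.up ℤ) i).obj
        ((DTen.extCx (φ₀ A)).obj P)) := h1 i (by omega)
    exact (PCoh.hEquiv i ((DRing.LBaseChange _).mapIso e.symm ≪≫
      TorAmp.lbaseObj (φ₀ A) P (TorAmp.isKFlat_of_flat hb hP.flat)) ≪≫ₗ
      ((DerivedCategory.homologyFunctorFactors _ i).app _).toLinearEquiv).injective.subsingleton).2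
  obtain ⟨F, hFv, hFf, ⟨e'⟩⟩ := hta
  haveI : F.IsStrictlyGE a := (CochainComplex.isStrictlyGE_iff F a).2 fun i hi => hFv i (Or.inl hi)
  haveI : F.IsStrictlyLE a := (CochainComplex.isStrictlyLE_iff F a).2 fun i hi => hFv i (Or.inr hi)
  obtain ⟨M, ⟨g⟩⟩ := CochainComplex.exists_iso_single F a
  haveI : Module.Flat A ((HomologicalComplex.eval (ModuleCat.{u} A) (ComplexShape.up ℤ) a).obj F) := hFf a
  haveI : Module.Flat A M := Module.Flat.of_linearEquiv
    ((HomologicalComplex.eval (ModuleCat.{u} A) (ComplexShape.up ℤ) a).mapIso g ≪≫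
      HomologicalComplex.singleObjXSelf (ComplexShape.up ℤ) a M).toLinearEquiv.symm
  let eM : DRing.toD ((HomologicalComplex.single (ModuleCat.{u} A) (ComplexShape.up ℤ) a).obj M) ≅ K :=
    DerivedCategory.Q.mapIso g.symm ≪≫ e'
  obtain ⟨r⟩ := (nonempty_homology_ext hP M (e ≪≫ eM.symm) a).1 rfl
  haveI : Module.Finite A M := by
    haveI := hfin a
    exact Module.Finite.equiv ((hdSingle a M).symm ≪≫ₗ PCoh.hEquiv a eM).symm
  haveI : Module.Free A M := Module.free_of_flat_of_isLocalRing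
  have hM : Module.finrank A M = 1 := by
    rw [← Module.finrank_baseChange (R := k), ← r.finrank_eq, h2]
  obtain ⟨u⟩ := Module.nonempty_linearEquiv_of_finrank_eq_one hM
  exact ⟨eM.symm ≪≫ DerivedCategory.Q.mapIso ((HomologicalComplex.single (ModuleCat.{u} A)
    (ComplexShape.up ℤ) a).mapIso (LinearEquiv.toModuleIso (X₁ := M) (X₂ := A) u.symm)) ≪≫
    PCoh.singleIso (ModuleCat.of A A) a⟩

variable [IsNoetherianRing A]

/-- `L ⊗^L E ≅ A` forces shifts of the unit. -/
theorem exists_shift (L : Dual.D A) (E : DRing.Cx A) [DRing.HasLTensorCx A E]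
    (hLfin : ∀ i : ℤ, Module.Finite A (Dual.HD A L i))
    (hLbdd : ∃ b : ℤ, ∀ i : ℤ, b < i → Subsingleton (Dual.HD A L i))
    (hEfin : ∀ i : ℤ, Module.Finite A (Dual.HD A (DRing.toD E) i))
    (hEbdd : ∃ b : ℤ, ∀ i : ℤ, b < i → Subsingleton (Dual.HD A (DRing.toD E) i))
    (h : (DRing.LTensorCx A E).obj L ≅ Dual.inD A A) :
    ∃ n : ℤ, Nonempty (L ≅ (Dual.inD A A)⟦n⟧) ∧ Nonempty (DRing.toD E ≅ (Dual.inD A A)⟦(-n)⟧) := by
  classical
  obtain ⟨bL, hbL⟩ := hLbdd
  obtain ⟨bE, hbE⟩ := hEbdd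
  obtain ⟨P, c, hPb, hPF, ⟨eP⟩⟩ := exists_finite_rep hLfin hbL
  obtain ⟨Q, c', hQb, hQF, ⟨eQ⟩⟩ := exists_finite_rep hEfin hbE
  have hP := isProjRep_of_finiteFree hPb hPF
  have hQ := isProjRep_of_finiteFree hQb hQF
  obtain ⟨ePQ⟩ := TorAmp.ltensorCx_congr E hPb hP.flat eP hQ eQ
  have hPQ : TorAmp.IsProjRep (P ⊗ Q) (c + c') :=
    ⟨fun n hn => TorAmp.vanishes_tensor n fun i j hij => by
        by_cases hi : c < i
        · exact Or.inl (hPb i hi)
        · exact Or.inr (hQb j (by omega)),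
      fun n => (TorAmp.tensor_terms hPb hQb n (fun i => (hPF i).1) (fun i => (hQF i).1)).2.2
        hP.proj hQ.proj⟩
  haveI : Module.Flat A (ModuleCat.of A A) := inferInstanceAs (Module.Flat A A)
  have hres := fun n => nonempty_homology_ext hPQ (n := 0) (ModuleCat.of A A)
    (ePQ ≪≫ h ≪≫ PCoh.inDIso (ModuleCat.of A A)) n
  let P' := (DTen.extCx (φ₀ A)).obj P
  let Q' := (DTen.extCx (φ₀ A)).obj Q
  have key : ∀ n : ℤ, Nonempty (HTor.KunnethSum P' Q' n ≃ₗ[k]
      ((DTen.extCx (φ₀ A)).obj (P ⊗ Q)).homology n) := fun n => by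
    obtain ⟨Φ, -, hΦ⟩ := Groth.Agent.S3523.result k P' Q'
      (fun i => inferInstanceAs (Module.Flat k (P'.X i)))
      ⟨c, fun i hi => (ModuleCat.extendScalars.{u, u, u} (φ₀ A)).map_isZero (hPb i hi)⟩
      ⟨c', fun i hi => (ModuleCat.extendScalars.{u, u, u} (φ₀ A)).map_isZero (hQb i hi)⟩
      (fun i => inferInstance) n
    exact ⟨(LinearEquiv.ofBijective Φ hΦ).trans
      ((HomologicalComplex.homologyFunctor (ModuleCat.{u} k) (ComplexShape.up ℤ) n).mapIso
        (DTen.extTenCxIso (φ₀ A) P Q)).toLinearEquiv.symm⟩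
  have hsum : ∀ i j : ℤ, Nontrivial (P'.homology i) → Nontrivial (Q'.homology j) → i + j = 0 := by
    intro i j hi hj
    by_contra hne
    haveI := (hres (i + j)).2 hne
    haveI : Subsingleton (HTor.KunnethSum P' Q' (i + j)) := (key (i + j)).some.injective.subsingleton
    haveI : Subsingleton (P'.homology i ⊗[k] Q'.homology j) :=
      (DirectSum.of_injective (β := fun ij : HTor.Antidiag (i + j) =>
        P'.homology ij.1.1 ⊗[k] Q'.homology ij.1.2) ⟨(i, j), rfl⟩).subsingleton
    exact not_subsingleton (P'.homology i ⊗[k] Q'.homology j) inferInstance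
  obtain ⟨r0⟩ := (hres 0).1 rfl
  have e0 : HTor.KunnethSum P' Q' 0 ≃ₗ[k] k :=
    (key 0).some ≪≫ₗ r0 ≪≫ₗ TensorProduct.AlgebraTensorModule.rid A k k
  obtain ⟨⟨⟨a, b⟩, hab⟩, hne⟩ : ∃ ij : HTor.Antidiag (0 : ℤ),
      Nontrivial (P'.homology ij.1.1 ⊗[k] Q'.homology ij.1.2) := by
    by_contra hall
    simp only [not_exists, not_nontrivial_iff_subsingleton] at hall
    haveI : Subsingleton (HTor.KunnethSum P' Q' 0) :=
      ⟨fun x y => DFinsupp.ext fun ij => @Subsingleton.elim _ (hall ij) _ _⟩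
    exact not_subsingleton k e0.symm.injective.subsingleton
  simp only at hne hab
  have ha : Nontrivial (P'.homology a) := by
    by_contra hh
    rw [not_nontrivial_iff_subsingleton] at hh
    exact not_subsingleton (P'.homology a ⊗[k] Q'.homology b) inferInstance
  have hb : Nontrivial (Q'.homology b) := by
    by_contra hh
    rw [not_nontrivial_iff_subsingleton] at hh
    exact not_subsingleton (P'.homology a ⊗[k] Q'.homology b) inferInstance
  have hP' : ∀ i, i ≠ a → Subsingleton (P'.homology i) := fun i hi =>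
    not_nontrivial_iff_subsingleton.1 fun hh => hi (by have := hsum i b hh hb; omega)
  have hQ' : ∀ j, j ≠ b → Subsingleton (Q'.homology j) := fun j hj =>
    not_nontrivial_iff_subsingleton.1 fun hh => hj (by have := hsum a j ha hh; omega)
  have e1 : (P'.homology a ⊗[k] Q'.homology b) ≃ₗ[k] k := by
    refine LinearEquiv.trans (LinearEquiv.ofBijective
      (DirectSum.lof k (HTor.Antidiag (0 : ℤ))
        (fun ij => P'.homology ij.1.1 ⊗[k] Q'.homology ij.1.2) ⟨(a, b), hab⟩)
      ⟨DirectSum.of_injective _, fun x => ?_⟩) e0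
    refine ⟨x ⟨(a, b), hab⟩, DFinsupp.ext fun ij => ?_⟩
    by_cases hij : ij = ⟨(a, b), hab⟩
    · subst hij
      exact DirectSum.of_eq_same _ _
    · haveI := hP' ij.1.1 fun hh => hij (by
        obtain ⟨⟨i, j⟩, hij'⟩ := ij
        simp only at hh hij'
        exact Subtype.ext (Prod.ext hh (by show j = b; omega)))
      haveI : Subsingleton (P'.homology ij.1.1 ⊗[k] Q'.homology ij.1.2) :=
        Groth.Agent.H4DR.TensorUnit.subsingleton_tmul _ _
      exact Subsingleton.elim _ _
  have hprod : Module.finrank k (P'.homology a) * Module.finrank k (Q'.homology b) = 1 := by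
    rw [← Module.finrank_tensorProduct, e1.finrank_eq, Module.finrank_self]
  obtain ⟨e3⟩ := nonempty_iso_shift hPb hPF eP hLfin a hP' (Nat.eq_one_of_mul_eq_one_right hprod)
  obtain ⟨e4⟩ := nonempty_iso_shift hQb hQF eQ hEfin b hQ' (Nat.eq_one_of_mul_eq_one_left hprod)
  obtain rfl : b = -a := by omega
  exact ⟨-a, ⟨e3⟩, ⟨e4⟩⟩

end Residue

end Groth.Agent.H4DR.TensorUnit
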