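import Groth.Agent.H4DR.Dualizing.Normalized
import Groth.Agent.H4Depth.CM
import Mathlib.RingTheory.Ideal.AssociatedPrime.Localization
import Mathlib.RingTheory.Ideal.MinimalPrime.Noetherian

/-!
# Nonvanishing of `Ext^{-dim M}(M, ω)`
-/

set_option autoImplicit false
set_option linter.style.haveILetI false
set_option linter.unusedVariables false

universe u v w z

open CategoryTheory CategoryTheory.Limits Pretriangulated
open scoped Pointwise
open Groth.Agent.H4DR.Ext (Ex pre)

attribute [local instance] HasDerivedCategory.standard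

namespace Groth.Agent.H4DR.Dualizing

variable {A : Type u} [CommRing A]

theorem support_subset_union_of_exact {L : Type v} {M : Type w} {N : Type z} [AddCommGroup L] [Module A L]
    [AddCommGroup M] [Module A M] [AddCommGroup N] [Module A N] {f : L →ₗ[A] M} {g : M →ₗ[A] N}
    (hfg : Function.Exact f g) : Module.support A M ⊆ Module.support A L ∪ Module.support A N := fun p hp => by
  have he : Function.Exact (LinearMap.range f).subtype g.rangeRestrict := fun x =>
    ⟨fun h => ⟨⟨x, (hfg x).1 (congrArg Subtype.val h)⟩, rfl⟩,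
      fun ⟨y, e⟩ => Subtype.ext ((hfg x).2 (e ▸ y.2))⟩
  rw [Module.support_of_exact he Subtype.val_injective g.surjective_rangeRestrict] at hp
  exact hp.imp (fun h => Module.support_subset_of_surjective f.rangeRestrict f.surjective_rangeRestrict h)
    (fun h => Module.support_subset_of_injective (LinearMap.range g).subtype Subtype.val_injective h)

theorem exists_prime_of_le_supportDim {M : Type v} [AddCommGroup M] [Module A M] (n : ℕ)
    (h : (n : WithBot ℕ∞) ≤ Module.supportDim A M) :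
    ∃ P : PrimeSpectrum A, P ∈ Module.support A M ∧ (n : WithBot ℕ∞) ≤ ringKrullDim (A ⧸ P.asIdeal) := by
  obtain ⟨l, hl⟩ := Order.le_krullDim_iff.1 h
  refine ⟨l.head.1, l.head.2, ?_⟩
  rw [ringKrullDim_quotient]
  exact Order.le_krullDim_iff.2 ⟨{ length := l.length
                                   toFun := fun i => ⟨(l i).1, fun a ha => l.monotone (Fin.zero_le i) ha⟩
                                   step := fun i => l.step i }, hl⟩

theorem succ_le_ringKrullDim_quotient {q P : PrimeSpectrum A} (hlt : q < P) {n : ℕ}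
    (h : (n : WithBot ℕ∞) ≤ ringKrullDim (A ⧸ P.asIdeal)) :
    ((n + 1 : ℕ) : WithBot ℕ∞) ≤ ringKrullDim (A ⧸ q.asIdeal) := by
  rw [ringKrullDim_quotient] at h ⊢
  obtain ⟨l, hl⟩ := Order.le_krullDim_iff.1 h
  let l' : LTSeries (PrimeSpectrum.zeroLocus (q.asIdeal : Set A)) :=
    { length := l.length
      toFun := fun i => ⟨(l i).1, fun a ha => (l i).2 (hlt.le ha)⟩
      step := fun i => l.step i }
  refine Order.le_krullDim_iff.2 ⟨l'.cons ⟨q, fun a ha => ha⟩
    (show q < l.head.1 from hlt.trans_le fun a ha => l.head.2 ha), ?_⟩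
  show 0 + l.length + 1 = n + 1
  omega

variable [IsLocalRing A] [IsNoetherianRing A] {ω : Dual.D A}

theorem top_prime (hω : Dual.IsDualizing A ω) (hn : Dual.IsNormalized A ω) (d : ℕ) (p : Ideal A) [p.IsPrime]
    (hd : Module.supportDim A (A ⧸ p) = d)
    (ih : ∀ d' < d, ∀ (M : Type u) [AddCommGroup M] [Module A M] [Module.Finite A M], Module.supportDim A M = d' →
      (d' : WithBot ℕ∞) ≤ Module.supportDim A (Ex (Dual.inD A M) ω (-(d' : ℤ)))) :
    (⟨p, ‹_›⟩ : PrimeSpectrum A) ∈ Module.support A (Ex (Dual.inD A (A ⧸ p)) ω (-(d : ℤ))) := by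
  have hQdim : ∀ x ∉ p, Module.supportDim A (A ⧸ (p ⊔ Ideal.span {x})) + 1 ≤ (d : WithBot ℕ∞) := fun x hxp => by
    rw [← hd, Module.supportDim_quotient_eq_ringKrullDim, Module.supportDim_quotient_eq_ringKrullDim,
      ← RingEquiv.ringKrullDim (DoubleQuot.quotQuotEquivQuotSup p (Ideal.span {x})),
      Ideal.map_span, Set.image_singleton]
    exact ringKrullDim_quotient_succ_le_of_nonZeroDivisor (mem_nonZeroDivisors_of_ne_zero
      fun h => hxp (Ideal.Quotient.eq_zero_iff_mem.1 h))
  -- multiplication by elements outside `p` is injective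
  have hinj : ∀ x : A, x ∉ p → ∀ t : Ex (Dual.inD A (A ⧸ p)) ω (-(d : ℤ)), x • t = 0 → t = 0 := fun x hxp t ht => by
    by_cases hx : x ∈ IsLocalRing.maximalIdeal A
    · obtain ⟨g, hf, hg, hfg⟩ := Ext.prime_ses p hxp
      obtain ⟨δ, hT⟩ := Ext.exists_triangle _ g hf hg hfg
      have hQ : Subsingleton (Ex (Dual.inD A (A ⧸ (p ⊔ Ideal.span {x}))) ω (-(d : ℤ))) := by
        refine not_nontrivial_iff_subsingleton.1 fun hne => ?_
        obtain ⟨h1, -⟩ := (dimBound hω hn (A ⧸ (p ⊔ Ideal.span {x})) (-(d : ℤ))).2 hne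
        rw [show (- -(d : ℤ)).toNat = d by simp] at h1
        have h2 := (add_le_add h1 le_rfl).trans (hQdim x hxp)
        rw [← Nat.cast_one, ← Nat.cast_add] at h2
        exact absurd (Nat.cast_le.1 h2) (by omega)
      refine Ext.injective_pre₁ _ hT (W := ω⟦(-(d : ℤ))⟧) hQ ?_
      exact ((pre_inM_smul (M := A ⧸ p) x (ω⟦(-(d : ℤ))⟧) t).trans ht).trans (map_zero _).symm
    · exact ((IsLocalRing.notMem_maximalIdeal.1 hx).smul_eq_zero).1 ht
  suffices hnt : Nontrivial (Ex (Dual.inD A (A ⧸ p)) ω (-(d : ℤ))) by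
    obtain ⟨t, ht⟩ := exists_ne (0 : Ex (Dual.inD A (A ⧸ p)) ω (-(d : ℤ)))
    rw [Module.mem_support_iff']
    exact ⟨t, fun r hr h => ht (hinj r hr t h)⟩
  have hp0 : p ≤ IsLocalRing.maximalIdeal A := IsLocalRing.le_maximalIdeal (Ideal.IsPrime.ne_top ‹_›)
  rcases Nat.eq_zero_or_pos d with rfl | hdpos
  · obtain rfl : p = IsLocalRing.maximalIdeal A := by
      refine eq_of_le_of_not_lt hp0 fun hlt => ?_
      have h := succ_le_ringKrullDim_quotient (q := ⟨p, ‹_›⟩) (P := ⟨IsLocalRing.maximalIdeal A, inferInstance⟩) hlt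
        (n := 0) (by
          haveI := Ideal.Quotient.nontrivial_iff.2 (IsLocalRing.maximalIdeal.isMaximal A).ne_top
          exact ringKrullDim_nonneg_of_nontrivial)
      rw [← Module.supportDim_quotient_eq_ringKrullDim, hd] at h
      exact absurd (Nat.cast_le.1 h) (by omega)
    obtain ⟨e⟩ := norm_degree hω hn
    haveI := Submodule.Quotient.nontrivial_iff.2 (IsLocalRing.maximalIdeal.isMaximal A).ne_top
    rw [Nat.cast_zero, neg_zero]
    exact e.symm.injective.nontrivial
  refine not_subsingleton_iff_nontrivial.1 fun hsub => ?_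
  have hpm : p ≠ IsLocalRing.maximalIdeal A := fun h => by
    subst h
    letI := Ideal.Quotient.field (IsLocalRing.maximalIdeal A)
    rw [Module.supportDim_quotient_eq_ringKrullDim, ringKrullDim_eq_zero_of_field] at hd
    have : d = 0 := by exact_mod_cast hd.symm
    omega
  haveI := finite_ex_dualizing hω (A ⧸ p) (-(d : ℤ) + 1)
  -- the bad primes of the next module
  let E' := Ex (Dual.inD A (A ⧸ p)) ω (-(d : ℤ) + 1)
  let S : Finset (Ideal A) := insert p ((Ideal.finite_minimalPrimes_of_isNoetherianRing A (Module.annihilator A E')).toFinset.erase (IsLocalRing.maximalIdeal A))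
  obtain ⟨x, hxm, hxS⟩ : ∃ x ∈ IsLocalRing.maximalIdeal A, ∀ r ∈ S, x ∉ r := by
    by_contra! hcon
    obtain ⟨r, hr, hle⟩ := (Ideal.subset_union_prime (f := fun r : Ideal A => r) p p fun r hr _ _ => by
      rcases Finset.mem_insert.1 hr with rfl | hr
      · assumption
      · exact ((Set.Finite.mem_toFinset _).1 (Finset.mem_of_mem_erase hr)).1.1).1
      (fun x hx => by
        obtain ⟨r, hr, hxr⟩ := hcon x hx
        exact Set.mem_iUnion₂.2 ⟨r, hr, hxr⟩ : (IsLocalRing.maximalIdeal A : Set A) ⊆ ⋃ r ∈ (S : Set (Ideal A)), (r : Set A))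
    rcases Finset.mem_insert.1 hr with rfl | hr
    · exact hpm (le_antisymm hp0 hle)
    · obtain ⟨hne, hmem⟩ := Finset.mem_erase.1 hr
      exact hne (le_antisymm (IsLocalRing.le_maximalIdeal ((Set.Finite.mem_toFinset _).1 hmem).1.1.ne_top) hle)
  have hxp : x ∉ p := hxS p (Finset.mem_insert_self _ _)
  obtain ⟨g, hf, hg, hfg⟩ := Ext.prime_ses p hxp
  obtain ⟨δ, hT⟩ := Ext.exists_triangle _ g hf hg hfg
  -- `dim Q = d - 1`
  have hQ : Module.supportDim A (A ⧸ (p ⊔ Ideal.span {x})) = ((d - 1 : ℕ) : WithBot ℕ∞) := by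
    have h1 := hQdim x hxp
    have h2 := Module.supportDim_le_supportDim_quotSMulTop_succ_of_mem_jacobson (M := A ⧸ p) (x := x)
      (IsLocalRing.maximalIdeal_le_jacobson _ hxm)
    have h3 : Module.supportDim A (QuotSMulTop x (A ⧸ p)) ≤ Module.supportDim A (A ⧸ (p ⊔ Ideal.span {x})) := by
      refine Module.supportDim_le_of_injective (Submodule.liftQ _ g ?_) ?_
      · rintro _ ⟨u, -, rfl⟩
        exact (hfg _).2 ⟨u, rfl⟩
      · rw [← LinearMap.ker_eq_bot]
        refine Submodule.ker_liftQ_eq_bot _ _ _ fun u hu => ?_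
        obtain ⟨v, rfl⟩ := (hfg u).1 hu
        exact ⟨v, trivial, rfl⟩
    have h4 := h2.trans (add_le_add h3 le_rfl)
    rw [hd] at h4
    revert h1 h4
    generalize Module.supportDim A (A ⧸ (p ⊔ Ideal.span {x})) = s
    intro h1 h4
    induction s using WithBot.recBotCoe with
    | bot => simp at h4
    | coe s =>
      induction s using ENat.recTopCoe with
      | top => exact absurd (top_le_iff.1 (le_trans le_self_add (WithBot.coe_le_coe.1 h1))) (ENat.natCast_ne_top d)
      | coe s =>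
        have e1 : s + 1 ≤ d := by exact_mod_cast h1
        have e2 : d ≤ s + 1 := by exact_mod_cast h4
        obtain rfl : s = d - 1 := by omega
        rfl
  have hge := ih (d - 1) (by omega) _ hQ
  rw [show (-((d - 1 : ℕ) : ℤ)) = -(d : ℤ) + 1 by omega] at hge
  obtain ⟨P, hP, hPd⟩ := exists_prime_of_le_supportDim _ hge
  have hj := Ext.injective_pre₂ _ hT (W := ω) (i := -(d : ℤ)) rfl hsub
  -- `P` supports `E'` and contains `x`
  have hPE : P ∈ Module.support A E' := Module.support_subset_of_injective _ hj hP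
  have hxP : x ∈ P.asIdeal := by
    haveI := finite_ex_dualizing hω (A ⧸ (p ⊔ Ideal.span {x})) (-(d : ℤ) + 1)
    refine Module.mem_support_iff_of_finite.1 hP (Module.mem_annihilator.2 fun t => hj ?_)
    refine (LinearMap.map_smul _ x t).trans (Eq.trans ?_ (LinearMap.map_zero _).symm)
    refine (pre_inM_smul (M := A ⧸ p) x (ω⟦(-(d : ℤ) + 1)⟧) _).symm.trans ?_
    exact (Ext.exact_pre₂ _ hT (ω⟦(-(d : ℤ) + 1)⟧) _).2 ⟨t, rfl⟩
  have hE'dim : Module.supportDim A E' ≤ ((d - 1 : ℕ) : WithBot ℕ∞) := by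
    refine (dimBound hω hn (A ⧸ p) (-(d : ℤ) + 1)).1.trans (le_of_eq ?_)
    congr 1
    omega
  obtain ⟨r, hr, hrP⟩ := Ideal.exists_minimalPrimes_le (Module.mem_support_iff_of_finite.1 hPE)
  by_cases hrm : r = IsLocalRing.maximalIdeal A
  · -- then `d = 1` and `E' = 0` by the depth
    have hd1 : d = 1 := by
      by_contra hd1
      have hPm : P.asIdeal = IsLocalRing.maximalIdeal A :=
        le_antisymm (IsLocalRing.le_maximalIdeal P.2.ne_top) (hrm ▸ hrP)
      letI := Ideal.Quotient.field (IsLocalRing.maximalIdeal A)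
      rw [hPm, ringKrullDim_eq_zero_of_field] at hPd
      have : d - 1 ≤ 0 := by exact_mod_cast hPd
      omega
    subst hd1
    haveI : Nontrivial (A ⧸ p) := Ideal.Quotient.nontrivial_iff.2 (Ideal.IsPrime.ne_top ‹_›)
    have hne : IsLocalRing.maximalIdeal A • (⊤ : Submodule A (A ⧸ p)) ≠ ⊤ := fun h =>
      (Submodule.subsingleton_iff A).not.2 (not_subsingleton (A ⧸ p)) ((subsingleton_iff_bot_eq_top).1
        (Submodule.eq_bot_of_le_smul_of_le_jacobson_bot (IsLocalRing.maximalIdeal A) ⊤ Module.Finite.fg_top h.ge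
          (IsLocalRing.maximalIdeal_le_jacobson ⊥)).symm)
    obtain ⟨m, hm⟩ := ENat.ne_top_iff_exists.1 (H4Depth.idealDepth_ne_top hne)
    obtain ⟨hz, -⟩ := depth_spec hω hn m (A ⧸ p) hm.symm
    have hreg : IsSMulRegular (A ⧸ p) x := hf
    have h1 : (1 : ℕ∞) ≤ m := hm.symm ▸ (H4Depth.one_le_idealDepth_iff hne).2 ⟨x, hxm, hreg⟩
    have h0 : Subsingleton E' := by
      have := hz 0 (by exact_mod_cast h1)
      simpa [E'] using this
    exact Set.notMem_empty _ ((Module.support_eq_empty_iff (R := A) (M := E')).2 h0 ▸ hPE)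
  · have hrP' : r < P.asIdeal := lt_of_le_of_ne hrP fun h => hxS r (Finset.mem_insert_of_mem
      (Finset.mem_erase.2 ⟨hrm, (Set.Finite.mem_toFinset _).2 hr⟩)) (h ▸ hxP)
    have h1 := succ_le_ringKrullDim_quotient (q := ⟨r, hr.1.1⟩) (P := P) hrP' hPd
    have h2 := (h1.trans (H4Depth.ringKrullDim_quotient_le_supportDim (p := ⟨r, hr.1.1⟩)
      (Module.mem_support_iff_of_finite.2 hr.1.2))).trans hE'dim
    exact absurd (Nat.cast_le.1 h2) (by omega)

theorem top_spec (hω : Dual.IsDualizing A ω) (hn : Dual.IsNormalized A ω) : ∀ (d : ℕ) (M : Type u) [AddCommGroup M]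
    [Module A M] [Module.Finite A M], Module.supportDim A M = d →
      (d : WithBot ℕ∞) ≤ Module.supportDim A (Ex (Dual.inD A M) ω (-(d : ℤ))) := by
  intro d
  induction d using Nat.strong_induction_on with
  | _ d ih =>
  intro M _ _ _ hd
  obtain ⟨P, hP, hPd⟩ := exists_prime_of_le_supportDim d hd.ge
  obtain ⟨q, hq, hqP⟩ := Ideal.exists_minimalPrimes_le (Module.mem_support_iff_of_finite.1 hP)
  haveI := hq.1.1
  obtain ⟨-, f, hf⟩ := (isAssociatedPrime_iff_exists_injective_linearMap q M).1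
    (Module.associatedPrimes.minimalPrimes_annihilator_subset_associatedPrimes A M hq)
  have hdq : (d : WithBot ℕ∞) ≤ ringKrullDim (A ⧸ q) :=
    hPd.trans (ringKrullDim_le_of_surjective (Ideal.Quotient.factor hqP) (Ideal.Quotient.factor_surjective hqP))
  have hdim : Module.supportDim A (A ⧸ q) = d := le_antisymm (hd ▸ Module.supportDim_le_of_injective f hf)
    (by rwa [Module.supportDim_quotient_eq_ringKrullDim])
  have hqs := top_prime hω hn d q hdim ih
  obtain ⟨δ, hT⟩ := Ext.exists_triangle f (LinearMap.range f).mkQ hf (Submodule.mkQ_surjective _)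
    (LinearMap.exact_map_mkQ_range f)
  let T := Triangle.mk (Ext.inM (L := ModuleCat.of A (A ⧸ q)) (M := ModuleCat.of A M) f)
    (Ext.inM (L := ModuleCat.of A M) (M := ModuleCat.of A (M ⧸ LinearMap.range f)) (LinearMap.range f).mkQ) δ
  let c : Ex (Dual.inD A (A ⧸ q)) ω (-(d : ℤ)) →ₗ[A] Ex (Dual.inD A (M ⧸ LinearMap.range f)) ω (-(d : ℤ) + 1) :=
    Ext.conn T ω _ _ rfl
  have hker : LinearMap.ker c ≤ LinearMap.range (pre T.mor₁ (ω⟦(-(d : ℤ))⟧)) := Ext.ker_conn_le T hT rfl
  rcases support_subset_union_of_exact (LinearMap.exact_subtype_ker_map c) hqs with h | h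
  · exact hdq.trans (H4Depth.ringKrullDim_quotient_le_supportDim (M := Ex (Dual.inD A M) ω (-(d : ℤ)))
      (p := ⟨q, ‹_›⟩) (Module.support_subset_of_surjective _ (pre T.mor₁ (ω⟦(-(d : ℤ))⟧)).surjective_rangeRestrict
        (Module.support_subset_of_injective _ (Submodule.inclusion_injective hker) h)))
  · exfalso
    have h1 := hdq.trans ((H4Depth.ringKrullDim_quotient_le_supportDim (p := ⟨q, ‹_›⟩) h).trans
      (dimBound hω hn (M ⧸ LinearMap.range f) (-(d : ℤ) + 1)).1)
    by_cases hd0 : d = 0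
    · subst hd0
      haveI := subsingleton_ex_pos hω hn (M ⧸ LinearMap.range f) (i := -((0 : ℕ) : ℤ) + 1) (by simp)
      exact Set.notMem_empty _ ((Module.support_eq_empty_iff (R := A)
        (M := Ex (Dual.inD A (M ⧸ LinearMap.range f)) ω (-((0 : ℕ) : ℤ) + 1))).2 inferInstance ▸ h)
    · exact absurd (Nat.cast_le.1 h1) (by omega)

theorem nontrivial_ex_top (hω : Dual.IsDualizing A ω) (hn : Dual.IsNormalized A ω) (M : Type u) [AddCommGroup M]
    [Module A M] [Module.Finite A M] (d : ℕ) (hd : Module.supportDim A M = d) :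
    Nontrivial (Ex (Dual.inD A M) ω (-(d : ℤ))) := by
  refine not_subsingleton_iff_nontrivial.1 fun h => ?_
  have := top_spec hω hn d M hd
  rw [Module.supportDim_eq_bot_of_subsingleton] at this
  exact WithBot.coe_ne_bot (le_bot_iff.1 this)

end Groth.Agent.H4DR.Dualizing
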