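import Groth.Agent.H4DR.Dualizing.DoubleDual
import Groth.Agent.H4DR.Dualizing.Biduality
import Groth.Agent.H4DR.Dualizing.Criterion
import Groth.Agent.H4DR.TorAmp.Derived
import Mathlib.RingTheory.Flat.CategoryTheory
import Mathlib.RingTheory.PicardGroup
import Mathlib.LinearAlgebra.Contraction

/-!
# Twisting dualizing complexes by invertible modules
-/

set_option autoImplicit false
set_option linter.style.haveILetI false
set_option linter.unusedVariables false

universe u

open CategoryTheory CategoryTheory.Limits MonoidalCategory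
open Groth.Agent.H4DR.DComplete (coind)
open Groth.Agent.H4DR.TorAmp (tens)
open Groth.Agent.H4DR.Ext (Ex)

attribute [local instance] HasDerivedCategory.standard

namespace Groth.Agent.H4DR.Dualizing

variable {A : Type u} [CommRing A]

/-- Derived tensor with a flat module. -/
noncomputable abbrev TW (P : ModuleCat.{u} A) [Module.Flat A P] : Dual.D A ⥤ Dual.D A :=
  (tensorRight P).mapDerivedCategory

theorem nonempty_ltensor_iso_TW (P : ModuleCat.{u} A) [Module.Flat A P] [DRing.HasLTensor A P] (K : Dual.D A) :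
    Nonempty ((DRing.LTensor A P).obj K ≅ (TW P).obj K) := by
  let X := DerivedCategory.Q.objPreimage K
  let R := (H25DTen.res A).obj X
  haveI := H25DTen.quasiIso_resψ X
  let e : DRing.toD R ≅ K := asIso (DerivedCategory.Q.map ((H25DTen.resψ A).app X)) ≪≫
    DerivedCategory.Q.objObjPreimageIso K
  exact ⟨(DRing.LTensor A P).mapIso e.symm ≪≫ TorAmp.ltensorObj P R (H25DTen.isKFlat_res X) ≪≫
    ((tensorRight P).mapDerivedCategoryFactors.app R).symm ≪≫ (TW P).mapIso e⟩

section Equiv

variable (P Q : ModuleCat.{u} A) [Module.Flat A P] [Module.Flat A Q]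

/-- Inverse twists. -/
noncomputable def twCancel (e : P ⊗ Q ≅ 𝟙_ (ModuleCat.{u} A)) : TW P ⋙ TW Q ≅ 𝟭 (Dual.D A) :=
  let c : tensorRight P ⋙ tensorRight Q ≅ 𝟭 (ModuleCat.{u} A) :=
    (tensorRightTensor P Q).symm ≪≫ (tensoringRight (ModuleCat.{u} A)).mapIso e ≪≫
      rightUnitorNatIso (ModuleCat.{u} A)
  letI : Localization.Lifting DerivedCategory.Q
      (HomologicalComplex.quasiIso (ModuleCat.{u} A) (ComplexShape.up ℤ))
      (tens P ⋙ tens Q ⋙ DerivedCategory.Q) (TW P ⋙ TW Q) :=
    ⟨(Functor.associator _ _ _).symm ≪≫ Functor.isoWhiskerRight (tensorRight P).mapDerivedCategoryFactors (TW Q) ≪≫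
      Functor.associator _ _ _ ≪≫ Functor.isoWhiskerLeft _ (tensorRight Q).mapDerivedCategoryFactors⟩
  letI : Localization.Lifting DerivedCategory.Q
      (HomologicalComplex.quasiIso (ModuleCat.{u} A) (ComplexShape.up ℤ))
      DerivedCategory.Q (𝟭 (Dual.D A)) := ⟨DerivedCategory.Q.rightUnitor⟩
  Localization.liftNatIso DerivedCategory.Q (HomologicalComplex.quasiIso (ModuleCat.{u} A) (ComplexShape.up ℤ))
    (tens P ⋙ tens Q ⋙ DerivedCategory.Q) DerivedCategory.Q (TW P ⋙ TW Q) (𝟭 _)
    (NatIso.ofComponents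
      (fun K => DerivedCategory.Q.mapIso
        (HomologicalComplex.Hom.isoOfComponents (fun i => c.app (K.X i))
          (fun i j _ => (c.hom.naturality (K.d i j)).symm)))
      (fun {K L} g => (DerivedCategory.Q.map_comp _ _).symm.trans ((congrArg DerivedCategory.Q.map
        (HomologicalComplex.hom_ext _ _ fun i => c.hom.naturality (g.f i))).trans (DerivedCategory.Q.map_comp _ _))))

/-- The twist as an equivalence. -/
noncomputable def twEquiv (e : P ⊗ Q ≅ 𝟙_ (ModuleCat.{u} A)) : Dual.D A ≌ Dual.D A :=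
  CategoryTheory.Equivalence.mk (TW P) (TW Q) (twCancel P Q e).symm (twCancel Q P (β_ Q P ≪≫ e))

end Equiv

/-- Isomorphic modules give isomorphic twists. -/
noncomputable def twSwap {P P' : ModuleCat.{u} A} [Module.Flat A P] [Module.Flat A P'] (s : P ≅ P') (K : Dual.D A) :
    (TW P).obj K ≅ (TW P').obj K :=
  let X := DerivedCategory.Q.objPreimage K
  let e := DerivedCategory.Q.objObjPreimageIso K
  (TW P).mapIso e.symm ≪≫ (tensorRight P).mapDerivedCategoryFactors.app X ≪≫
    DerivedCategory.Q.mapIso (HomologicalComplex.Hom.isoOfComponents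
      (C₁ := (tens P).obj X) (C₂ := (tens P').obj X)
      (fun i => ((tensoringRight (ModuleCat.{u} A)).mapIso s).app (X.X i))
      (fun i j _ => (((tensoringRight (ModuleCat.{u} A)).mapIso s).hom.naturality (X.d i j)).symm)) ≪≫
    ((tensorRight P').mapDerivedCategoryFactors.app X).symm ≪≫ (TW P').mapIso e

/-- The inverse of an invertible module. -/
noncomputable def invCancel (P : Type u) [AddCommGroup P] [Module A P] [Module.Invertible A P] :
    ModuleCat.of A P ⊗ ModuleCat.of A (Module.Dual A P) ≅ 𝟙_ (ModuleCat.{u} A) :=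
  ((TensorProduct.comm A P (Module.Dual A P)).trans (Module.Invertible.linearEquiv A P)).toModuleIso

section Invertible

variable (P : Type u) [AddCommGroup P] [Module A P] [Module.Invertible A P]

/-- Homology of a twist. -/
noncomputable def hdTW (K : Dual.D A) (i : ℤ) :
    Dual.HD A ((TW (ModuleCat.of A P)).obj K) i ≃ₗ[A] TensorProduct A (Dual.HD A K i) P :=
  let X := DerivedCategory.Q.objPreimage K
  let e := DerivedCategory.Q.objObjPreimageIso K
  ((PCoh.hEquiv i ((TW (ModuleCat.of A P)).mapIso e.symm ≪≫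
      (tensorRight (ModuleCat.of A P)).mapDerivedCategoryFactors.app X)).trans
    (((DerivedCategory.homologyFunctorFactors (ModuleCat.{u} A) i).app ((tens (ModuleCat.of A P)).obj X)).toLinearEquiv.trans
      ((X.sc i).mapHomologyIso (tensorRight (ModuleCat.of A P))).toLinearEquiv)).trans
    (TensorProduct.congr ((((DerivedCategory.homologyFunctorFactors (ModuleCat.{u} A) i).app X).toLinearEquiv).symm.trans
      (PCoh.hEquiv i e)) (LinearEquiv.refl A P))

/-- Morphisms into a twist. -/
noncomputable def homTW (Z W : Dual.D A) :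
    (Z ⟶ (TW (ModuleCat.of A P)).obj W) ≃ ((TW (ModuleCat.of A (Module.Dual A P))).obj Z ⟶ W) :=
  ((twEquiv (ModuleCat.of A P) (ModuleCat.of A (Module.Dual A P)) (invCancel P)).symm.toAdjunction.homEquiv Z W).symm

theorem isDualizing_TW [IsNoetherianRing A] {ω : Dual.D A} (hω : Dual.IsDualizing A ω) :
    Dual.IsDualizing A ((TW (ModuleCat.of A P)).obj ω) where
  isNoetherianRing := inferInstance
  finite_injective_dimension := by
    obtain ⟨a, b, hab⟩ := hω.finite_injective_dimension
    refine ⟨a, b, fun M _ _ i hi => ?_⟩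
    haveI := hab (TensorProduct A M (Module.Dual A P)) i hi
    let F := TW (ModuleCat.of A (Module.Dual A P))
    haveI : Subsingleton (F.obj ((DerivedCategory.singleFunctor (ModuleCat.{u} A) 0).obj (ModuleCat.of A M)) ⟶ ω⟦i⟧) :=
      haveI : Subsingleton (((tensorRight (ModuleCat.of A (Module.Dual A P))) ⋙
        DerivedCategory.singleFunctor (ModuleCat.{u} A) 0).obj (ModuleCat.of A M) ⟶ ω⟦i⟧) := ‹_›
      (Iso.homFromEquiv (((tensorRight (ModuleCat.of A (Module.Dual A P))).mapDerivedCategorySingleFunctor 0).app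
        (ModuleCat.of A M))).subsingleton
    haveI : Subsingleton (Dual.inD A M ⟶ (TW (ModuleCat.of A P)).obj (ω⟦i⟧)) :=
      (homTW P _ _).subsingleton
    haveI : Subsingleton (Dual.inD A M ⟶ (shiftFunctor (Dual.D A) i ⋙ TW (ModuleCat.of A P)).obj ω) := ‹_›
    exact (Iso.homToEquiv (((TW (ModuleCat.of A P)).commShiftIso i).app ω).symm).subsingleton
  finite_cohomology i := by
    haveI := hω.finite_cohomology i
    exact Module.Finite.equiv (hdTW P ω i).symm
  toEnd_bijective := by
    haveI : (TW (ModuleCat.of A P)).IsEquivalence :=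
      (twEquiv (ModuleCat.of A P) (ModuleCat.of A (Module.Dual A P)) (invCancel P)).isEquivalence_functor
    have h : (fun a : A => a • 𝟙 ((TW (ModuleCat.of A P)).obj ω)) =
        (Functor.FullyFaithful.ofFullyFaithful (TW (ModuleCat.of A P))).homEquiv ∘ (fun a : A => a • 𝟙 ω) := by
      funext a
      show a • 𝟙 _ = (TW (ModuleCat.of A P)).map (a • 𝟙 ω)
      rw [Functor.map_smul, CategoryTheory.Functor.map_id]
    rw [h]
    exact (Equiv.bijective _).comp hω.toEnd_bijective
  ext_self_subsingleton i hi := by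
    haveI : (TW (ModuleCat.of A P)).IsEquivalence :=
      (twEquiv (ModuleCat.of A P) (ModuleCat.of A (Module.Dual A P)) (invCancel P)).isEquivalence_functor
    haveI := hω.ext_self_subsingleton i hi
    exact ((Iso.homToEquiv (((TW (ModuleCat.of A P)).commShiftIso i).app ω).symm).trans
      (Functor.FullyFaithful.ofFullyFaithful (TW (ModuleCat.of A P))).homEquiv.symm).subsingleton

end Invertible

/-- `Hom(M, E) = E ⊗ M^∨` for finite projective `M`. -/
noncomputable def coindTens (M : Type u) [AddCommGroup M] [Module A M] [Module.Finite A M] [Module.Projective A M]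
    (E : DRing.Cx A) : (tens (ModuleCat.of A (Module.Dual A M))).obj E ≅ coind (ModuleCat.of A M) E :=
  HomologicalComplex.Hom.isoOfComponents
    (fun i => ((TensorProduct.comm A (E.X i) (Module.Dual A M)).trans (dualTensorHomEquiv A M (E.X i))).toModuleIso)
    (fun i j _ => ModuleCat.hom_ext (TensorProduct.ext' fun x f => LinearMap.ext fun m => by
      show (E.d i j).hom (f m • x) = f m • (E.d i j).hom x
      rw [map_smul]))

/-- A twist of a dualizing complex as a Hom complex. -/
noncomputable def twCoind (M : Type u) [AddCommGroup M] [Module A M] [Module.Finite A M] [Module.Projective A M]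
    (E : DRing.Cx A) {ω : Dual.D A} (e : DRing.toD E ≅ ω) :
    (TW (ModuleCat.of A (Module.Dual A M))).obj ω ≅ DRing.toD (coind (ModuleCat.of A M) E) :=
  (TW _).mapIso e.symm ≪≫ (tensorRight (ModuleCat.of A (Module.Dual A M))).mapDerivedCategoryFactors.app E ≪≫
    DerivedCategory.Q.mapIso (coindTens M E)

section Unique

variable [IsNoetherianRing A] {ω : Dual.D A} (hω : Dual.IsDualizing A ω)
include hω

/-- `Hom(ω ⊗ M^∨, ω) = M`. -/
theorem nonempty_hom_twist (M : Type u) [AddCommGroup M] [Module A M] [Module.Finite A M] [Module.Projective A M] :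
    Nonempty (((TW (ModuleCat.of A (Module.Dual A M))).obj ω ⟶ ω) ≃ₗ[A] M) := by
  obtain ⟨a, b, E, hv, hE, ⟨e⟩⟩ := Ext.fid_iff.1 (show Ext.FID ω from hω.finite_injective_dimension)
  have hr := isRefl_of_finite hv hE (isRefl_self_of_isDualizing hω e) M
  let g : ((TW (ModuleCat.of A (Module.Dual A M))).obj ω ⟶ ω) ≃ₗ[A] T E M 0 :=
    (Ext.preIso (twCoind M E e).symm ω).trans (Ext.postIso _ (e.symm ≪≫
      ((shiftFunctorZero (Dual.D A) ℤ).app (DRing.toD E)).symm))
  exact ⟨g.trans (LinearEquiv.ofBijective _ hr.bij).symm⟩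

/-- A twist is trivial only for the trivial module. -/
theorem nonempty_equiv_of_twist (R : Type u) [AddCommGroup R] [Module A R] [Module.Invertible A R]
    (h : Nonempty ((TW (ModuleCat.of A R)).obj ω ≅ ω)) : Nonempty (R ≃ₗ[A] A) := by
  obtain ⟨h⟩ := h
  let D := Module.Dual A R
  obtain ⟨g⟩ := nonempty_hom_twist hω D
  let c : R ≃ₗ[A] Module.Dual A D := Module.evalEquiv A R
  let s : ModuleCat.of A R ≅ ModuleCat.of A (Module.Dual A D) := c.toModuleIso
  let W : (TW (ModuleCat.of A (Module.Dual A D))).obj ω ≅ ω :=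
    (twSwap s ω).symm ≪≫ h
  let k : D ≃ₗ[A] A := g.symm.trans ((Ext.preIso W ω).symm.trans
    (LinearEquiv.ofBijective (LinearMap.toSpanSingleton A (ω ⟶ ω) (𝟙 ω)) hω.toEnd_bijective).symm)
  exact ⟨c.trans (k.dualMap.symm.trans (LinearMap.ringLmapEquivSelf A A A))⟩

end Unique

end Groth.Agent.H4DR.Dualizing
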