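import Groth.Agent.H4DR.RHom.Precomp
import Groth.Agent.H4DR.RHom.Proj
import Groth.Agent.H4DR.PCoh.Modules
import Groth.Agent.H4DR.PCoh.Stage
import Groth.Agent.H4DR.Ext.InjAmp
import Groth.Agent.H4DR.DComplete.Adic.Complex
import Groth.Agent.H16Derived.ProjLift
import Mathlib.Algebra.Homology.Embedding.CochainComplex
import Mathlib.Algebra.Category.ModuleCat.Injective

/-!
# Hom complexes into a bounded complex of injectives, and a way-out dévissage
-/

set_option autoImplicit false
set_option linter.style.haveILetI false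
set_option linter.unusedVariables false

universe u

open CategoryTheory CategoryTheory.Limits CochainComplex CochainComplex.HomComplex
open Groth.Agent.H4DR.RHom (homCxPre quasiIso_homCxPre)
open Groth.Agent.H16Derived

attribute [local instance] HasDerivedCategory.standard

namespace Groth.Agent.H4DR.Dualizing.WayOut

variable {A : Type u} [CommRing A] (E : DRing.Cx A)

lemma homCxPre_comp {K L M : DRing.Cx A} (f : K ⟶ L) (g : L ⟶ M) :
    homCxPre (f ≫ g) E = homCxPre g E ≫ homCxPre f E :=
  HomologicalComplex.hom_ext _ _ fun i => ModuleCat.hom_ext (LinearMap.ext fun (z : Cochain M E i) => by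
    show (Cochain.ofHom (f ≫ g)).comp z (zero_add i) =
      (Cochain.ofHom f).comp ((Cochain.ofHom g).comp z (zero_add i)) (zero_add i)
    rw [Cochain.ofHom_comp, Cochain.comp_assoc_of_first_is_zero_cochain])

lemma homCxPre_zero (K L : DRing.Cx A) : homCxPre (0 : K ⟶ L) E = 0 :=
  HomologicalComplex.hom_ext _ _ fun i => ModuleCat.hom_ext (LinearMap.ext fun (z : Cochain L E i) => by
    show (Cochain.ofHom (0 : K ⟶ L)).comp z (zero_add i) = 0
    rw [Cochain.ofHom_zero, Cochain.zero_comp])

/-- `Hom•(-, E)` of a short complex. -/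
noncomputable abbrev dualS (S : ShortComplex (DRing.Cx A)) : ShortComplex (DRing.Cx A) :=
  ShortComplex.mk (homCxPre S.g E) (homCxPre S.f E)
    ((homCxPre_comp E S.f S.g).symm.trans (by rw [S.zero, homCxPre_zero]))

theorem shortExact_dualS (hE : DRing.TermwiseInjective E) {S : ShortComplex (DRing.Cx A)} (hS : S.ShortExact) :
    (dualS E S).ShortExact := by
  haveI : ∀ i, Injective (E.X i) := fun i =>
    haveI := hE i
    Module.injective_object_of_injective_module A (E.X i)
  refine HomologicalComplex.shortExact_of_degreewise_shortExact _ fun i => ?_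
  have he : ∀ q, (S.map (HomologicalComplex.eval _ (ComplexShape.up ℤ) q)).ShortExact := fun q =>
    hS.map_of_exact _
  refine ShortComplex.ShortExact.mk' ?_ ((ModuleCat.mono_iff_injective _).2 ?_)
    ((ModuleCat.epi_iff_surjective _).2 ?_)
  · refine (ShortComplex.ShortExact.moduleCat_exact_iff_function_exact _).2
      fun (z : Cochain S.X₂ E i) => ⟨fun (hz : (Cochain.ofHom S.f).comp z (zero_add i) = 0) => ?_, ?_⟩
    · haveI := fun q => (he q).epi_g
      have hzv : ∀ p q hpq, S.f.f p ≫ z.v p q hpq = 0 := fun p q hpq => by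
        have := congrArg (fun c : Cochain S.X₁ E i => c.v p q hpq) hz
        simpa only [Cochain.zero_cochain_comp_v, Cochain.ofHom_v, Cochain.zero_v] using this
      refine ⟨Cochain.mk fun p q hpq => (he p).exact.desc (z.v p q hpq) (hzv p q hpq),
        Cochain.ext _ _ fun p q hpq => ?_⟩
      show ((Cochain.ofHom S.g).comp _ (zero_add i)).v p q hpq = z.v p q hpq
      rw [Cochain.zero_cochain_comp_v, Cochain.ofHom_v, Cochain.mk_v]
      exact (he p).exact.g_desc _ _
    · rintro ⟨(w : Cochain S.X₃ E i), rfl⟩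
      show (Cochain.ofHom S.f).comp ((Cochain.ofHom S.g).comp w (zero_add i)) (zero_add i) = 0
      rw [← Cochain.comp_assoc_of_first_is_zero_cochain, ← Cochain.ofHom_comp, S.zero, Cochain.ofHom_zero,
        Cochain.zero_comp]
  · intro (z : Cochain S.X₃ E i) (z' : Cochain S.X₃ E i)
      (h : (Cochain.ofHom S.g).comp z (zero_add i) = (Cochain.ofHom S.g).comp z' (zero_add i))
    refine Cochain.ext _ _ fun p q hpq => ?_
    haveI : Epi (S.g.f p) := (he p).epi_g
    have := congrArg (fun c : Cochain S.X₂ E i => c.v p q hpq) h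
    simpa only [Cochain.zero_cochain_comp_v, Cochain.ofHom_v, cancel_epi] using this
  · intro (z : Cochain S.X₁ E i)
    haveI : ∀ p, Mono (S.f.f p) := fun p => (he p).mono_f
    refine ⟨(Cochain.mk fun p q hpq => Injective.factorThru (z.v p q hpq) (S.f.f p) : Cochain S.X₂ E i),
      Cochain.ext _ _ fun p q hpq => ?_⟩
    show ((Cochain.ofHom S.f).comp _ (zero_add i)).v p q hpq = z.v p q hpq
    rw [Cochain.zero_cochain_comp_v, Cochain.ofHom_v, Cochain.mk_v]
    exact Injective.comp_factorThru _ _

theorem quasiIso_dual [CochainComplex.IsKInjective E] {K K' : DRing.Cx A} (g : K ⟶ K') [QuasiIso g] :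
    QuasiIso (homCxPre g E) := by
  haveI : IsIso (DerivedCategory.Q.map g) := inferInstance
  exact quasiIso_homCxPre g E fun n => ⟨fun x y h => (cancel_epi (DerivedCategory.Q.map g)).1 h,
    fun y => ⟨inv (DerivedCategory.Q.map g) ≫ y, IsIso.hom_inv_id_assoc _ _⟩⟩

/-- Representatives of isomorphic objects have isomorphic duals. -/
theorem nonempty_dual_iso [CochainComplex.IsKInjective E] {X Y : DRing.Cx A} (e : DRing.toD X ≅ DRing.toD Y) :
    Nonempty (DRing.toD (DRing.homCx X E) ≅ DRing.toD (DRing.homCx Y E)) := by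
  obtain ⟨X', s, hs, g, hg⟩ := DerivedCategory.right_fac e.hom
  haveI : IsIso (DerivedCategory.Q.map g) := by
    rw [show DerivedCategory.Q.map g = DerivedCategory.Q.map s ≫ e.hom by rw [hg, IsIso.hom_inv_id_assoc]]
    infer_instance
  haveI : QuasiIso s := (DerivedCategory.isIso_Q_map_iff_quasiIso (φ := s)).1 hs
  haveI : QuasiIso g := (DerivedCategory.isIso_Q_map_iff_quasiIso (φ := g)).1 inferInstance
  haveI := quasiIso_dual E s
  haveI := quasiIso_dual E g
  exact ⟨asIso (DerivedCategory.Q.map (homCxPre s E)) ≪≫ (asIso (DerivedCategory.Q.map (homCxPre g E))).symm⟩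

theorem isZero_dual_above {b : ℤ} (hb : ∀ i, b < i → IsZero (E.X i)) {K : DRing.Cx A} {p : ℤ}
    (hK : ∀ i, i < p → IsZero (K.X i)) {n : ℤ} (hn : b - p < n) : IsZero ((DRing.homCx K E).X n) := by
  haveI : Subsingleton (Cochain K E n) := subsingleton_of_forall_eq 0 fun z => Cochain.ext _ _ fun s t hst => by
    by_cases hs : s < p
    · exact (hK s hs).eq_of_src _ _
    · exact (hb t (by omega)).eq_of_tgt _ _
  exact ModuleCat.isZero_of_subsingleton (ModuleCat.of A (Cochain K E n))

theorem isZero_dual_below {a : ℤ} (ha : ∀ i, i < a → IsZero (E.X i)) {K : DRing.Cx A} {q : ℤ}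
    (hK : ∀ i, q < i → IsZero (K.X i)) {n : ℤ} (hn : n < a - q) : IsZero ((DRing.homCx K E).X n) := by
  haveI : Subsingleton (Cochain K E n) := subsingleton_of_forall_eq 0 fun z => Cochain.ext _ _ fun s t hst => by
    by_cases hs : q < s
    · exact (hK s hs).eq_of_src _ _
    · exact (ha t (by omega)).eq_of_tgt _ _
  exact ModuleCat.isZero_of_subsingleton (ModuleCat.of A (Cochain K E n))

omit E in
/-- Single complexes of a short exact sequence. -/
theorem shortExact_single (p : ℤ) {S : ShortComplex (ModuleCat.{u} A)} (hS : S.ShortExact) :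
    (S.map (CochainComplex.singleFunctor (ModuleCat.{u} A) p)).ShortExact := by
  refine HomologicalComplex.shortExact_of_degreewise_shortExact _ fun i => ?_
  by_cases hi : i = p
  · subst hi
    exact ShortComplex.shortExact_of_iso (S.mapNatIso
      (HomologicalComplex.singleCompEvalIsoSelf (ModuleCat.{u} A) (ComplexShape.up ℤ) i)).symm
      (by simpa using hS)
  · have hz : ∀ X : ModuleCat.{u} A, IsZero (((CochainComplex.singleFunctor (ModuleCat.{u} A) p).obj X).X i) :=
      fun X => HomologicalComplex.isZero_single_obj_X (ComplexShape.up ℤ) p X i hi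
    exact
      { exact := ShortComplex.exact_of_isZero_X₂ _ (hz _)
        mono_f := ⟨fun _ _ _ => (hz S.X₁).eq_of_tgt _ _⟩
        epi_g := ⟨fun _ _ _ => (hz S.X₃).eq_of_src _ _⟩ }

variable (A)

/-- A way-out property of a complex in a degree. -/
structure IsWayOut (P : DRing.Cx A → ℤ → Prop) (w : ℤ) : Prop where
  quasiIso : ∀ {K K' : DRing.Cx A} (g : K ⟶ K') [QuasiIso g] (i : ℤ), P K i ↔ P K' i
  ext : ∀ (S : ShortComplex (DRing.Cx A)), S.ShortExact → ∀ i : ℤ,
    P S.X₁ (i - 1) → P S.X₁ i → P S.X₁ (i + 1) → P S.X₃ (i - 1) → P S.X₃ i → P S.X₃ (i + 1) → P S.X₂ i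
  below : ∀ (K : DRing.Cx A) (p i : ℤ), (∀ j, j < p → IsZero (K.X j)) → i < p - w → P K i
  above : ∀ (K : DRing.Cx A) (q i : ℤ), (∀ j, q < j → IsZero (K.X j)) → q + w < i → P K i
  base : ∀ p i : ℤ, P ((CochainComplex.singleFunctor (ModuleCat.{u} A) p).obj (ModuleCat.of A A)) i

variable {A}
variable {P : DRing.Cx A → ℤ → Prop} {w : ℤ} (hP : IsWayOut A P w)
include hP

theorem IsWayOut.of_iso {K K' : DRing.Cx A} (e : K ≅ K') {i : ℤ} (h : P K' i) : P K i :=
  (hP.quasiIso e.hom i).2 h

theorem IsWayOut.of_isZero {K : DRing.Cx A} (h : ∀ j, IsZero (K.X j)) (i : ℤ) : P K i :=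
  hP.below K (i + w + 1) i (fun j _ => h j) (by omega)

theorem IsWayOut.single_fin (p : ℤ) : ∀ (n : ℕ) (i : ℤ),
    P ((CochainComplex.singleFunctor (ModuleCat.{u} A) p).obj (ModuleCat.of A (Fin n → A))) i := by
  intro n
  induction n with
  | zero =>
    intro i
    refine hP.of_isZero (fun j => ?_) i
    exact (HomologicalComplex.eval _ _ j).map_isZero
      ((CochainComplex.singleFunctor (ModuleCat.{u} A) p).map_isZero (ModuleCat.isZero_of_subsingleton _))
  | succ n ih =>
    let f : ModuleCat.of A A ⟶ ModuleCat.of A (Fin (n + 1) → A) :=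
      ModuleCat.ofHom (LinearMap.single A (fun _ : Fin (n + 1) => A) 0)
    let g : ModuleCat.of A (Fin (n + 1) → A) ⟶ ModuleCat.of A (Fin n → A) :=
      ModuleCat.ofHom (LinearMap.funLeft A A Fin.succ)
    have hfg : f ≫ g = 0 := ModuleCat.hom_ext (LinearMap.ext fun x => funext fun j => by
      show (Pi.single (0 : Fin (n + 1)) x : Fin (n + 1) → A) j.succ = 0
      exact Pi.single_eq_of_ne (Fin.succ_ne_zero j) _)
    have hS : (ShortComplex.mk f g hfg).ShortExact := by
      refine ShortComplex.ShortExact.mk' ?_ ((ModuleCat.mono_iff_injective _).2 fun x y h => ?_)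
        ((ModuleCat.epi_iff_surjective _).2 fun (z : Fin n → A) => ⟨Fin.cons 0 z, funext fun j => ?_⟩)
      · refine (ShortComplex.ShortExact.moduleCat_exact_iff_function_exact _).2
          fun (z : Fin (n + 1) → A) => ⟨fun h => ⟨z 0, funext fun j => ?_⟩, ?_⟩
        · induction j using Fin.cases with
          | zero => exact Pi.single_eq_same (M := fun _ : Fin (n + 1) => A) 0 (z 0)
          | succ j =>
            exact (Pi.single_eq_of_ne (M := fun _ : Fin (n + 1) => A) (Fin.succ_ne_zero j) (z 0)).trans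
              (congrFun h j).symm
        · rintro ⟨x, rfl⟩
          exact congr($hfg x)
      · have := congrFun h 0
        simpa [f] using this
      · show (Fin.cons 0 z : Fin (n + 1) → A) j.succ = z j
        exact Fin.cons_succ _ _ _
    intro i
    exact hP.ext _ (shortExact_single p hS) i
      (hP.base p _) (hP.base p _) (hP.base p _) (ih _) (ih _) (ih _)

theorem IsWayOut.bounded_free : ∀ (N : ℕ) (F : DRing.Cx A) (p : ℤ), DRing.TermwiseFiniteFree F →
    (∀ j, j < p → IsZero (F.X j)) → (∀ j, p + N ≤ j → IsZero (F.X j)) → ∀ i, P F i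
  | 0, F, p, hF, hlo, hhi => fun i => hP.of_isZero (fun j => by
      rcases lt_or_ge j p with h | h
      · exact hlo j h
      · exact hhi j (by omega)) i
  | N + 1, F, p, hF, hlo, hhi => by
    let t : ℤ := p + N
    have hG : ∀ j, j ≠ t → IsZero ((KFlat.Brutal.geq F t).X j) := fun j hj => by
      by_cases hbj : t ≤ j
      · have := KFlat.Brutal.isIso_ι_f F t hbj
        exact (hhi j (by omega)).of_iso (asIso ((KFlat.Brutal.ι F t).f j))
      · exact KFlat.Brutal.isZero_geq F _ (by omega)
    haveI : (KFlat.Brutal.geq F t).IsStrictlyGE t :=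
      (CochainComplex.isStrictlyGE_iff _ t).2 fun q hq => hG q (by omega)
    haveI : (KFlat.Brutal.geq F t).IsStrictlyLE t :=
      (CochainComplex.isStrictlyLE_iff _ t).2 fun q hq => hG q (by omega)
    obtain ⟨Y, ⟨eG⟩⟩ := CochainComplex.exists_iso_single (KFlat.Brutal.geq F t) t
    have := KFlat.Brutal.isIso_ι_f F t (le_refl t)
    haveI := (hF t).1
    haveI := (hF t).2
    let eY := ((asIso ((KFlat.Brutal.ι F t).f t)).symm ≪≫ (HomologicalComplex.eval _ _ t).mapIso eG ≪≫
      HomologicalComplex.singleObjXSelf (ComplexShape.up ℤ) t Y).toLinearEquiv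
    haveI : Module.Finite A Y := Module.Finite.equiv eY
    haveI : Module.Free A Y := Module.Free.of_equiv eY
    haveI : Fintype (Module.Free.ChooseBasisIndex A Y) := inferInstance
    let eF : Y ≅ ModuleCat.of A (Fin (Fintype.card (Module.Free.ChooseBasisIndex A Y)) → A) :=
      (((Module.Free.chooseBasis A Y).reindex (Fintype.equivFin _)).equivFun).toModuleIso
    have h1 : ∀ i, P (KFlat.Brutal.geq F t) i := fun i =>
      hP.of_iso (eG ≪≫ (CochainComplex.singleFunctor (ModuleCat.{u} A) t).mapIso eF) (hP.single_fin t _ i)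
    have hC : DRing.TermwiseFiniteFree (cokernel (KFlat.Brutal.ι F t)) := fun j => by
      by_cases hj : t ≤ j
      · exact PCoh.finiteFree_of_isZero (KFlat.Brutal.isZero_cokernel F t hj)
      · have := KFlat.Brutal.isIso_cokernel_π F t (not_le.1 hj)
        exact PCoh.finiteFree_of_iso (asIso ((cokernel.π (KFlat.Brutal.ι F t)).f j)) (hF j)
    have h3 := IsWayOut.bounded_free N (cokernel (KFlat.Brutal.ι F t)) p hC
      (fun j hj => KFlat.Brutal.isZero_cokernel' F t (hlo j hj))
      (fun j hj => KFlat.Brutal.isZero_cokernel F t hj)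
    intro i
    exact hP.ext _ (KFlat.Brutal.shortExact F t) i (h1 _) (h1 _) (h1 _) (h3 _) (h3 _) (h3 _)

theorem IsWayOut.boundedAbove_free (F : DRing.Cx A) (c : ℤ) (hF : DRing.TermwiseFiniteFree F)
    (hc : DRing.VanishesAbove F c) (i : ℤ) : P F i := by
  let t : ℤ := i - w - 2
  have hG : DRing.TermwiseFiniteFree (KFlat.Brutal.geq F t) := fun j => by
    by_cases hj : t ≤ j
    · have := KFlat.Brutal.isIso_ι_f F t hj
      exact PCoh.finiteFree_of_iso (asIso ((KFlat.Brutal.ι F t).f j)).symm (hF j)
    · exact PCoh.finiteFree_of_isZero (KFlat.Brutal.isZero_geq F t (not_le.1 hj))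
  have h1 : ∀ j, P (KFlat.Brutal.geq F t) j := hP.bounded_free ((c + 1 - t).toNat) _ t hG
    (fun j hj => KFlat.Brutal.isZero_geq F t hj) fun j hj => by
      have := KFlat.Brutal.isIso_ι_f F t (q := j) (by omega)
      exact (hc j (by omega)).of_iso (asIso ((KFlat.Brutal.ι F t).f j))
  have h3 : ∀ j, i - 1 ≤ j → P (cokernel (KFlat.Brutal.ι F t)) j := fun j hj =>
    hP.above _ (t - 1) j (fun k hk => KFlat.Brutal.isZero_cokernel F t (by omega)) (by omega)
  exact hP.ext _ (KFlat.Brutal.shortExact F t) i (h1 _) (h1 _) (h1 _) (h3 _ le_rfl) (h3 _ (by omega))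
    (h3 _ (by omega))

theorem IsWayOut.of_finite [IsNoetherianRing A] (K : DRing.Cx A)
    (hK : ∀ j, Module.Finite A (Dual.HD A (DRing.toD K) j)) (i : ℤ) : P K i := by
  let q : ℤ := i + w + 2
  let T := K.truncLE q
  have h1 : ∀ j, P T j := fun j => by
    have hTv : ∀ k, q < k → Subsingleton (Dual.HD A (DRing.toD T) k) := fun k hk => by
      refine ModuleCat.subsingleton_of_isZero ?_
      refine IsZero.of_iso ?_ ((DerivedCategory.homologyFunctorFactors (ModuleCat.{u} A) k).app T)
      exact T.isZero_of_isLE q k hk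
    have hTf : ∀ k, Module.Finite A (Dual.HD A (DRing.toD T) k) := fun k => by
      by_cases hk : q < k
      · haveI := hTv k hk
        infer_instance
      · haveI := CochainComplex.quasiIsoAt_ιTruncLE K q k (not_lt.1 hk)
        haveI : Module.Finite A ((DerivedCategory.Q ⋙
          DerivedCategory.homologyFunctor (ModuleCat.{u} A) k).obj K : Type u) := hK k
        exact Module.Finite.equiv ((DerivedCategory.homologyFunctorFactors (ModuleCat.{u} A) k).app K ≪≫
          (asIso (HomologicalComplex.homologyMap (K.ιTruncLE q) k)).symm ≪≫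
          ((DerivedCategory.homologyFunctorFactors (ModuleCat.{u} A) k).app T).symm).toLinearEquiv
    obtain ⟨F, c, hc, hF, ⟨e⟩⟩ := PCoh.pc'_of_forall (K := DRing.toD T) fun m =>
      PCoh.pc_of_finite ((q + 1 - m).toNat) (fun k hk => hTv k (by omega)) fun k _ => hTf k
    have hR : TorAmp.IsProjRep F c := ⟨hc, fun k => haveI := (hF k).2; inferInstance⟩
    haveI := hR.isKProjective
    obtain ⟨g, hg⟩ := ProjLift.Q_map_surjective F T e.hom
    haveI : QuasiIso g := (DerivedCategory.isIso_Q_map_iff_quasiIso (φ := g)).1 (hg ▸ inferInstance)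
    exact (hP.quasiIso g j).1 (hP.boundedAbove_free F c hF hc j)
  have h3 : ∀ j, j ≤ i + 1 → P (K.shortComplexTruncLE q).X₃ j := fun j hj => by
    refine (hP.quasiIso (K.shortComplexTruncLEX₃ToTruncGE q (q + 1)) j).2 ?_
    exact hP.below _ (q + 1) j (fun k hk => (K.truncGE (q + 1)).isZero_of_isStrictlyGE (q + 1) k hk) (by omega)
  exact hP.ext _ (K.shortComplexTruncLE_shortExact q) i (h1 _) (h1 _) (h1 _) (h3 _ (by omega)) (h3 _ (by omega))
    (h3 _ le_rfl)

end Groth.Agent.H4DR.Dualizing.WayOut
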